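import Mathlib

/-!
# Finite checks in the alternating group of degree five
-/

set_option autoImplicit false

namespace Cfsg.Agent.SmallSimple.Order2520.AltFive

open Equiv

/-- The alternating group of degree five. -/
abbrev A5 : Type := alternatingGroup (Fin 5)

/-- A fixed 3-cycle. -/
def c₃ : A5 := ⟨([0, 1, 2] : List (Fin 5)).formPerm, Equiv.Perm.mem_alternatingGroup.2 (by decide)⟩

theorem element_cases : ∀ g : A5, g * g = 1 ∨ g * g * g = 1 ∨ g * g * g * g * g = 1 := by
  decide +kernel

theorem count_two : (Finset.univ.filter fun g : A5 => g ≠ 1 ∧ g * g = 1).card = 15 := by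
  decide +kernel

theorem count_three : (Finset.univ.filter fun g : A5 => g ≠ 1 ∧ g * g * g = 1).card = 20 := by
  decide +kernel

theorem count_five : (Finset.univ.filter fun g : A5 => g ≠ 1 ∧ g * g * g * g * g = 1).card = 24 := by
  decide +kernel

theorem conj_three : ∀ g : A5, g * g * g = 1 → g ≠ 1 → ∃ k : A5, k * c₃ * k⁻¹ = g := by
  decide +kernel

/-- The involutions of `A₅`. -/
def invols : Finset A5 := Finset.univ.filter fun g => g ≠ 1 ∧ g * g = 1

/-- The elements normalizing the four-group of `a` and `b`. -/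
def norm (a b : A5) : Finset A5 :=
  Finset.univ.filter fun g => g * a * g⁻¹ ∈ [a, b, a * b] ∧ g * b * g⁻¹ ∈ [a, b, a * b]

set_option synthInstance.maxSize 4000 in
set_option synthInstance.maxHeartbeats 400000 in
theorem four_group : ∀ a ∈ invols, ∀ b ∈ invols, a * b = b * a → a ≠ b →
    (norm a b).card = 12 ∧ ∀ g ∈ norm a b, g ≠ 1 → g * g = 1 → g ∈ [a, b, a * b] := by
  decide +kernel

end Cfsg.Agent.SmallSimple.Order2520.AltFive
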