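import Cfsg.Agent.Lib.SmallSimple.Order2520.Rep
import Cfsg.Agent.Lib.SmallSimple.Order2520.AltFive
import Cfsg.Agent.Recognition.OrderSixty
import Cfsg.Agent.S0494

/-!
# A simple group of order 2520 has a subgroup of index 7
-/

set_option autoImplicit false
set_option linter.style.haveILetI false
set_option linter.unusedSectionVars false
set_option linter.unusedVariables false

namespace Cfsg.Agent.SmallSimple.Order2520

open Subgroup MulAction
open scoped BigOperators

universe u

variable {G : Type u} [Group G] [Finite G] [IsSimpleGroup G] (h : Nat.card G = 2520)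
  [Fact (Nat.Prime 7)] [Fact (Nat.Prime 5)] [Fact (Nat.Prime 3)] [Fact (Nat.Prime 2)]
include h

/-- The orders of proper subgroups containing `Dih x` and a further commuting involution. -/
theorem order_cases {x y v : G} (hx : orderOf x = 5) (hy : orderOf y = 4)
    (hyN : y ∈ normalizer (zpowers x : Set G)) {H : Subgroup G} (hD : Dih x ≤ H) (hne : H ≠ ⊤)
    (hvH : v ∈ H) (hv : orderOf v = 2) (hvt : Commute v (y ^ 2)) (hvne : v ≠ y ^ 2) :
    (Nat.card H = 60 ∨ Nat.card H = 120 ∨ Nat.card H = 360) ∧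
      (Nat.card H = 120 → normalizer (zpowers x : Set G) ≤ H) ∧
      ¬ H ≤ normalizer (zpowers x : Set G) := by
  obtain ⟨P, hxP, hx1⟩ := exists_sylow (card_five h) hx
  have hz := Centralize.sylow_le_iff_mem hxP hx1 (card_five h P)
  set N := normalizer (zpowers x : Set G) with hN
  have hN20 : Nat.card N = 20 := card_normalizer_x h hx
  have hnot : ¬ H ≤ N := by
    intro hle
    rcases dih_cases h hx hy hyN (mem_dih_of_two h hx hv (hle hvH)) with e | e
    · have hd := orderOf_dvd_natCard (⟨v, e⟩ : zpowers x)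
      rw [Subgroup.orderOf_mk, Nat.card_zpowers, hx, hv] at hd
      norm_num at hd
    · have hd := orderOf_dvd_natCard (⟨y ^ 2 * v, e⟩ : zpowers x)
      rw [Subgroup.orderOf_mk, Nat.card_zpowers, hx] at hd
      have h2 : (y ^ 2 * v) ^ 2 = 1 := by
        rw [hvt.symm.mul_pow, ← hv, pow_orderOf_eq_one, mul_one, hv, ← pow_mul,
          show 2 * 2 = orderOf y from hy.symm, pow_orderOf_eq_one]
      have h1 : y ^ 2 * v = 1 := by
        refine orderOf_eq_one_iff.1 (Nat.dvd_one.1 ?_)
        exact (Nat.dvd_gcd hd (orderOf_dvd_of_pow_eq_one h2)).trans (by norm_num)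
      refine hvne ?_
      rw [eq_inv_of_mul_eq_one_right h1, inv_eq_iff_mul_eq_one, ← pow_add,
        show 2 + 2 = orderOf y from hy.symm, pow_orderOf_eq_one]
  have hPH : (P : Subgroup G) ≤ H :=
    hz ▸ zpowers_le.2 (hD (mem_dih.2 (Or.inl (by group))))
  have hmod : N.relIndex H % 5 = 1 := by
    have := FixedPoints.relIndex_normalizer_mod P hPH
    rw [← hz] at this
    exact this
  have hmul := card_inf_mul N H
  have hn : Nat.card ↥(H ⊓ N) = 10 ∨ Nat.card ↥(H ⊓ N) = 20 := by
    have h1 : Nat.card ↥(H ⊓ N) ∣ 20 := hN20 ▸ card_dvd_of_le inf_le_right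
    have h2 : 10 ∣ Nat.card ↥(H ⊓ N) :=
      card_dih h hx hy hyN ▸ card_dvd_of_le (le_inf hD (dih_le h))
    have key : ∀ n ∈ Nat.divisors 20, 10 ∣ n → n = 10 ∨ n = 20 := by decide +kernel
    exact key _ (Nat.mem_divisors.2 ⟨h1, by norm_num⟩) h2
  set r := N.relIndex H with hr
  set n := Nat.card ↥(H ⊓ N) with hndef
  have hr1 : r ≠ 1 := fun e => hnot (relIndex_eq_one.1 e)
  have hdvd : n * r ∣ 2520 := by
    rw [hmul, ← h]
    exact card_subgroup_dvd_card H
  have hi := card_mul_index H
  rw [h, ← hmul] at hi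
  have hi1 : H.index ≠ 1 := fun e => hne (index_eq_one.1 e)
  have hi2 : H.index ≠ 2 := no_index_two h H
  have hrle : r < 253 := by
    have h' := Nat.le_of_dvd (by norm_num) hdvd
    rcases hn with e | e <;> rw [e] at h' <;> omega
  have key : ∀ r < 253, r % 5 = 1 → 10 * r ∣ 2520 →
      r = 1 ∨ r = 6 ∨ r = 21 ∨ r = 36 ∨ r = 126 := by decide +kernel
  have hr10 : 10 * r ∣ 2520 :=
    dvd_trans (Nat.mul_dvd_mul_right (by rcases hn with e | e <;> rw [e] <;> norm_num) r) hdvd
  -- no proper subgroup of order divisible by 7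
  have h7 : r ≠ 21 := by
    intro hr21
    obtain ⟨c, hc⟩ := exists_prime_orderOf_dvd_card' (G := H) 7
      (by rw [← hmul, hr21]; exact Dvd.dvd.mul_left (by norm_num) _)
    have hco : orderOf (c : G) = 7 := by rw [orderOf_coe]; exact hc
    obtain ⟨Q, hcQ, hc1⟩ := exists_sylow (card_seven h) hco
    have hQH : (Q : Subgroup G) ≤ H :=
      Centralize.sylow_le_iff_mem hcQ hc1 (card_seven h Q) ▸ zpowers_le.2 c.2
    have hmod7 := FixedPoints.relIndex_normalizer_mod Q hQH
    have hm7 := card_inf_mul (normalizer ((Q : Subgroup G) : Set G)) H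
    have h21 : Nat.card ↥(H ⊓ normalizer ((Q : Subgroup G) : Set G)) ∣ 21 :=
      (cent_seven h Q).2 ▸ card_dvd_of_le inf_le_right
    have h7' : 7 ∣ Nat.card ↥(H ⊓ normalizer ((Q : Subgroup G) : Set G)) := by
      have := card_dvd_of_le (le_inf hQH (le_normalizer (H := (Q : Subgroup G))))
      rwa [card_seven h Q] at this
    have key21 : ∀ n ∈ Nat.divisors 21, 7 ∣ n → n = 7 ∨ n = 21 := by decide +kernel
    rcases key21 _ (Nat.mem_divisors.2 ⟨h21, by norm_num⟩) h7' with e | e <;>
      rw [e, ← hmul, hr21] at hm7 <;> rcases hn with e' | e' <;> rw [e'] at hm7 <;> omega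
  refine ⟨?_, fun h120 => ?_, hnot⟩
  · rw [← hmul]
    rcases key r hrle hmod hr10 with e | e | e | e | e <;>
      rcases hn with e' | e' <;> rw [e', e] at hdvd hi ⊢ <;> omega
  · have : n = 20 := by
      rcases hn with e | e
      · rw [← hmul, e] at h120
        omega
      · exact e
    have := eq_of_le_of_card_ge (inf_le_right : H ⊓ N ≤ N) (by rw [hN20, ← hndef, this])
    exact this ▸ inf_le_left

/-- The subgroup `⟨t, v⟩`. -/
theorem four_group_eq {t v : G} (ht : orderOf t = 2) (hv : Good t v) :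
    ∀ g : G, g ∈ centralizer ({t} : Set G) ⊓ centralizer ({v} : Set G) ↔
      g = 1 ∨ g = t ∨ g = v ∨ g = t * v := by
  have h2t : t * t = 1 := by rw [← pow_two, ← ht, pow_orderOf_eq_one]
  have h2v : v * v = 1 := by rw [← pow_two, ← hv.ord, pow_orderOf_eq_one]
  obtain ⟨M, hM, hle, hge⟩ := klein h2t h2v hv.comm.symm.eq
  have hMV : M = centralizer ({t} : Set G) ⊓ centralizer ({v} : Set G) := by
    refine eq_of_le_of_card_ge (fun g hg => mem_cent_inf.2 ?_)
      (by rw [hv.card]; exact hge (invol_ne_one h ht) (invol_ne_one h hv.ord) hv.ne.symm)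
    rcases (hM g).1 hg with rfl | rfl | rfl | rfl
    · exact ⟨by simp, by simp⟩
    · exact ⟨rfl, hv.comm.symm.eq⟩
    · exact ⟨hv.comm.eq, rfl⟩
    · exact ⟨((Commute.refl t).mul_left hv.comm).eq, (hv.comm.symm.mul_left (Commute.refl v)).eq⟩
  intro g
  rw [← hMV]
  exact hM g

theorem order_two_of_sq {g : G} (hg : g * g = 1) (hg1 : g ≠ 1) : orderOf g = 2 :=
  orderOf_eq_prime (by rw [pow_two]; exact hg) hg1

/-- The elements of order five are all conjugate. -/
theorem isConj_five {x z : G} (hx : orderOf x = 5) (hz : orderOf z = 5) : IsConj x z := by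
  classical
  haveI := Fintype.ofFinite G
  obtain ⟨P, hxP, hx1⟩ := exists_sylow (card_five h) hx
  obtain ⟨Q, hzQ, hz1⟩ := exists_sylow (card_five h) hz
  have hP := Centralize.sylow_le_iff_mem hxP hx1 (card_five h P)
  have hQ := Centralize.sylow_le_iff_mem hzQ hz1 (card_five h Q)
  obtain ⟨g, hg⟩ := MulAction.exists_smul_eq G Q P
  have hmem : g * z * g⁻¹ ∈ zpowers x := by
    rw [hP, ← hg, Sylow.smul_def, Sylow.pointwise_smul_def]
    exact ⟨z, hzQ, rfl⟩
  have hcc := Basic.card_conjugating x (fun k => k ∈ zpowers x)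
  rw [card_cent_five h hx] at hcc
  have hN : Nat.card {g : G // g * x * g⁻¹ ∈ zpowers x} = 20 := by
    rw [← card_normalizer_x h hx]
    refine Nat.card_congr (Equiv.subtypeEquivRight fun c => ⟨fun hc => ?_,
      fun hc => (mem_normalizer_iff.1 hc x).1 (mem_zpowers x)⟩)
    have hmap : (zpowers x).map (MulAut.conj c).toMonoidHom = zpowers x := by
      refine eq_of_le_of_card_ge ?_ (by rw [card_map_of_injective (MulAut.conj c).injective])
      rw [MonoidHom.map_zpowers]
      exact zpowers_le.2 hc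
    refine mem_normalizer_iff.2 fun k => ⟨fun hk => ?_, fun hk => ?_⟩
    · rw [← hmap]; exact ⟨k, hk, rfl⟩
    · rw [← hmap] at hk
      obtain ⟨k', hk', e⟩ := hk
      exact (MulAut.conj c).injective e ▸ hk'
  rw [hN] at hcc
  have h4 : Nat.card {k : G // IsConj x k ∧ k ∈ zpowers x} = 4 := by omega
  let A : Finset G := Finset.univ.filter fun k => IsConj x k ∧ k ∈ zpowers x
  let B : Finset G := (Finset.univ.filter fun k => k ∈ zpowers x).erase 1
  have hsub : A ⊆ B := by
    intro k hk
    simp only [A, Finset.mem_filter, Finset.mem_univ, true_and] at hk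
    simp only [B, Finset.mem_erase, Finset.mem_filter, Finset.mem_univ, true_and]
    refine ⟨fun e => ?_, hk.2⟩
    obtain ⟨d, hd⟩ := isConj_iff.1 hk.1
    exact hx1 (by
      have : d * x * d⁻¹ = d * 1 * d⁻¹ := by rw [hd, e]; group
      exact mul_left_cancel (mul_right_cancel this))
  have hA : A.card = 4 := by rw [← h4, Nat.card_eq_fintype_card, Fintype.card_subtype]
  have hB : B.card = 4 := by
    rw [Finset.card_erase_of_mem (by simp), ← Fintype.card_subtype, ← Nat.card_eq_fintype_card]
    show Nat.card (zpowers x) - 1 = 4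
    rw [Nat.card_zpowers, hx]
  have hAB : A = B := Finset.eq_of_subset_of_card_le hsub (by omega)
  have hzB : g * z * g⁻¹ ∈ B := by
    simp only [B, Finset.mem_erase, Finset.mem_filter, Finset.mem_univ, true_and]
    refine ⟨fun e => hz1 ?_, hmem⟩
    calc z = g⁻¹ * (g * z * g⁻¹) * g := by group
      _ = 1 := by rw [e]; group
  rw [← hAB] at hzB
  exact (Finset.mem_filter.1 hzB).2.1.trans (isConj_iff.2 ⟨g, rfl⟩ : IsConj z (g * z * g⁻¹)).symm

variable [Fintype G] {n : ℕ} {ρ : Representation ℂ G (Fin n → ℂ)} (hρ : SixRep ρ)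

include hρ in
theorem char_conj_eq {a b : G} (hab : IsConj a b) : ρ.character a = ρ.character b := by
  obtain ⟨c, rfl⟩ := isConj_iff.1 hab
  exact (ρ.char_conj a c).symm

include hρ in
theorem char_five {z : G} (hz : orderOf z = 5) : ρ.character z = 1 := by
  classical
  obtain ⟨x, y, hx, hy, hyN⟩ := exists_setup h
  rw [← char_conj_eq h hρ (isConj_five h hx hz)]
  have hsum := charSum_eq ρ (Dih x)
  rw [card_dih h hx hy hyN, hρ.dih x hx, charSum] at hsum
  have hle : zpowers x ≤ Dih x := zpowers_le.2 (mem_dih.2 (Or.inl (by group)))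
  have e : Finset.univ.filter (· ∈ Dih x) = insert 1 ((Finset.univ.filter (· ∈ zpowers x)).erase 1) ∪
      Finset.univ.filter (fun g => g ∈ Dih x ∧ orderOf g = 2) := by
    ext g
    simp only [Finset.mem_filter, Finset.mem_univ, true_and, Finset.mem_union, Finset.mem_insert,
      Finset.mem_erase]
    constructor
    · intro hg
      rcases dih_cases h hx hy hyN hg with e | e
      · exact Or.inl (by tauto)
      · refine Or.inr ⟨hg, ?_⟩
        have ht : (y ^ 2)⁻¹ = y ^ 2 := by
          rw [inv_eq_iff_mul_eq_one, ← pow_add, show 2 + 2 = orderOf y from hy.symm, pow_orderOf_eq_one]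
        have := order_two_of_tp h hx hy hyN e
        nth_rewrite 1 [← ht] at this
        rwa [inv_mul_cancel_left] at this
    · rintro ((rfl | hg) | hg)
      · exact one_mem _
      · exact hle hg.2
      · exact hg.1
  have hd : Disjoint (insert 1 ((Finset.univ.filter (· ∈ zpowers x)).erase 1))
      (Finset.univ.filter (fun g => g ∈ Dih x ∧ orderOf g = 2)) := Finset.disjoint_left.2 fun g hg hg' => by
    simp only [Finset.mem_filter, Finset.mem_univ, true_and, Finset.mem_insert, Finset.mem_erase] at hg hg'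
    rcases hg with rfl | hg
    · rw [orderOf_one] at hg'; omega
    · have hd := orderOf_dvd_natCard (⟨g, hg.2⟩ : zpowers x)
      rw [Subgroup.orderOf_mk, Nat.card_zpowers, hx, hg'.2] at hd
      norm_num at hd
  have hcard : (Finset.univ.filter (fun g => g ∈ Dih x ∧ orderOf g = 2)).card = 5 := by
    rw [← Fintype.card_subtype, ← Nat.card_eq_fintype_card, ← card_invol_normalizer h hx hy hyN]
    refine Nat.card_congr (Equiv.subtypeEquivRight fun g => ?_)
    exact ⟨fun hg => ⟨hg.2, dih_le h hg.1⟩, fun hg => ⟨mem_dih_of_two h hx hg.1 hg.2, hg.1⟩⟩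
  have hx4 : ((Finset.univ.filter (· ∈ zpowers x)).erase 1).card = 4 := by
    rw [Finset.card_erase_of_mem (by simp), ← Fintype.card_subtype, ← Nat.card_eq_fintype_card]
    show Nat.card (zpowers x) - 1 = 4
    rw [Nat.card_zpowers, hx]
  have hval : ∀ g ∈ (Finset.univ.filter (· ∈ zpowers x)).erase 1, ρ.character g = ρ.character x := by
    intro g hg
    simp only [Finset.mem_erase, Finset.mem_filter, Finset.mem_univ, true_and] at hg
    have hd := orderOf_dvd_natCard (⟨g, hg.2⟩ : zpowers x)
    rw [Subgroup.orderOf_mk, Nat.card_zpowers, hx] at hd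
    exact (char_conj_eq h hρ (isConj_five h hx
      (((Nat.dvd_prime (by norm_num : Nat.Prime 5)).1 hd).resolve_left
        fun e => hg.1 (orderOf_eq_one_iff.1 e)))).symm
  rw [e, Finset.sum_union hd, Finset.sum_insert (by simp), hρ.one, Finset.sum_congr rfl hval,
    Finset.sum_congr rfl (fun g hg => hρ.two g (Finset.mem_filter.1 hg).2.2 :
      ∀ g ∈ Finset.univ.filter (fun g => g ∈ Dih x ∧ orderOf g = 2), ρ.character g = 2),
    Finset.sum_const, Finset.sum_const, hx4, hcard] at hsum
  simp only [nsmul_eq_mul, Nat.cast_ofNat] at hsum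
  linear_combination (1 / 4 : ℂ) * hsum

include hρ in
/-- Fixed spaces of `⟨t⟩` and of a four-group. -/
theorem finrank_four {t v : G} (ht : orderOf t = 2) (hv : Good t v) :
    Module.finrank ℂ (W ρ (zpowers t)) = 4 ∧
      Module.finrank ℂ (W ρ (centralizer ({t} : Set G) ⊓ centralizer ({v} : Set G))) = 3 := by
  classical
  have ht1 := invol_ne_one h ht
  constructor
  · have hsum := charSum_eq ρ (zpowers t)
    rw [Nat.card_zpowers, ht, charSum,
      show Finset.univ.filter (· ∈ zpowers t) = {1, t} by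
        symm
        refine Finset.eq_of_subset_of_card_le (fun g hg => ?_) ?_
        · simp only [Finset.mem_insert, Finset.mem_singleton] at hg
          rcases hg with rfl | rfl <;> simp
        · rw [← Fintype.card_subtype, ← Nat.card_eq_fintype_card, Finset.card_pair ht1.symm]
          show Nat.card (zpowers t) ≤ 2
          rw [Nat.card_zpowers, ht],
      Finset.sum_pair ht1.symm, hρ.one, hρ.two t ht] at hsum
    have : (2 : ℂ) * (Module.finrank ℂ (W ρ (zpowers t)) : ℂ) = 2 * 4 := by
      push_cast at hsum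
      linear_combination -hsum
    exact_mod_cast mul_left_cancel₀ two_ne_zero this
  · set V := centralizer ({t} : Set G) ⊓ centralizer ({v} : Set G) with hV
    have hsum := charSum_eq ρ V
    have hmem := four_group_eq h ht hv
    have h2 : ∀ g ∈ (Finset.univ.filter (· ∈ V)).erase 1, ρ.character g = 2 := by
      intro g hg
      simp only [Finset.mem_erase, Finset.mem_filter, Finset.mem_univ, true_and] at hg
      refine hρ.two g (order_two_of_sq h ?_ hg.1)
      have h2t : t * t = 1 := by rw [← pow_two, ← ht, pow_orderOf_eq_one]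
      have h2v : v * v = 1 := by rw [← pow_two, ← hv.ord, pow_orderOf_eq_one]
      rcases (hmem g).1 hg.2 with rfl | rfl | rfl | rfl
      · exact one_mul 1
      · exact h2t
      · exact h2v
      · rw [mul_assoc, ← mul_assoc v, hv.comm.eq, mul_assoc, h2v, mul_one, h2t]
    rw [hv.card, charSum, ← Finset.insert_erase (show (1 : G) ∈ Finset.univ.filter (· ∈ V) by simp),
      Finset.sum_insert (by simp), hρ.one, Finset.sum_congr rfl h2, Finset.sum_const,
      Finset.card_erase_of_mem (by simp), ← Fintype.card_subtype, ← Nat.card_eq_fintype_card] at hsum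
    rw [show Nat.card {x // x ∈ V} = 4 from hv.card] at hsum
    have : (4 : ℂ) * (Module.finrank ℂ (W ρ V) : ℂ) = 4 * 3 := by
      push_cast [nsmul_eq_mul] at hsum
      linear_combination -hsum
    exact_mod_cast mul_left_cancel₀ (by norm_num : (4 : ℂ) ≠ 0) this

include hρ in
/-- If `⟨Dih x, v⟩` has order 60, then together with the normalizer of the four-group it still fixes
a vector. -/
theorem sup_normalizer {x y v : G} (hx : orderOf x = 5) (hy : orderOf y = 4)
    (hyN : y ∈ normalizer (zpowers x : Set G)) (hv : Good (y ^ 2) v) {H : Subgroup G}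
    (hD : Dih x ≤ H) (hvH : v ∈ H) (h60 : Nat.card H = 60)
    (hnot : ¬ H ≤ normalizer (zpowers x : Set G)) :
    ∃ B : Subgroup G, Nat.card B = 24 ∧ W ρ (H ⊔ B) ≠ ⊥ := by
  classical
  set t := y ^ 2
  have ht : orderOf t = 2 := orderOf_sq h hy
  have htH : t ∈ H := hD (t_mem_dih h hx hy hyN)
  have hxH : x ∈ H := hD (mem_dih.2 (Or.inl (by group)))
  have hsimp : IsSimpleGroup H := by
    refine (Recognition.OrderSixty.simple_or_exists_abelian h60).resolve_right ?_
    rintro ⟨A, hAn, hA, h5⟩
    refine hnot fun g hg => ?_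
    have hxo : orderOf (⟨x, hxH⟩ : H) = 5 := by rw [Subgroup.orderOf_mk, hx]
    have hxA : (⟨x, hxH⟩ : H) ∈ A := by
      haveI := hAn
      obtain ⟨m, hm⟩ := exists_pow_eq_self_of_coprime (x := (⟨x, hxH⟩ : H)) (n := A.index) (by
        rw [hxo]; exact ((Nat.Prime.coprime_iff_not_dvd (by norm_num)).2 h5).symm)
      rw [← hm]
      exact pow_mem (pow_index_mem A _) m
    have hc := hA _ (hAn.conj_mem _ hxA ⟨g, hg⟩) _ hxA
    have hc' : g * x * g⁻¹ * x = x * (g * x * g⁻¹) := congrArg Subtype.val hc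
    have hmem : g * x * g⁻¹ ∈ zpowers x := by
      rw [← cent_five_eq h hx]
      exact mem_centralizer_singleton_iff.2 hc'
    have hmap : (zpowers x).map (MulAut.conj g).toMonoidHom = zpowers x := by
      refine eq_of_le_of_card_ge ?_ (by rw [card_map_of_injective (MulAut.conj g).injective])
      rw [MonoidHom.map_zpowers]
      exact zpowers_le.2 hmem
    refine mem_normalizer_iff.2 fun k => ⟨fun hk => ?_, fun hk => ?_⟩
    · rw [← hmap]; exact ⟨k, hk, rfl⟩
    · rw [← hmap] at hk
      obtain ⟨k', hk', e⟩ := hk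
      exact (MulAut.conj g).injective e ▸ hk'
  obtain ⟨e⟩ := Cfsg.Agent.S0494.result h60
  set V := centralizer ({t} : Set G) ⊓ centralizer ({v} : Set G) with hVdef
  have hV := four_group_eq h ht hv
  have hVH : V ≤ H := fun g hg => by
    rcases (hV g).1 hg with rfl | rfl | rfl | rfl
    · exact one_mem _
    · exact htH
    · exact hvH
    · exact mul_mem htH hvH
  have h2t : t * t = 1 := by rw [← pow_two, ← ht, pow_orderOf_eq_one]
  have h2v : v * v = 1 := by rw [← pow_two, ← hv.ord, pow_orderOf_eq_one]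
  have hthree : ∀ g ∈ V, g ≠ 1 → g = t ∨ g = v ∨ g = t * v := fun g hg hg1 =>
    ((hV g).1 hg).resolve_left hg1
  set a : AltFive.A5 := e ⟨t, htH⟩ with ha
  set b : AltFive.A5 := e ⟨v, hvH⟩ with hb
  have hmemab : ∀ (g : G) (hg : g ∈ H), e ⟨g, hg⟩ ∈ [a, b, a * b] ↔ g ∈ V ∧ g ≠ 1 := by
    intro g hg
    have hab : a * b = e ⟨t * v, mul_mem htH hvH⟩ := by rw [ha, hb, ← map_mul]; rfl
    rw [hab, ha, hb]
    simp only [List.mem_cons, List.not_mem_nil, or_false, e.injective.eq_iff, Subtype.mk.injEq]
    constructor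
    · intro hcases
      rcases hcases with rfl | rfl | rfl
      · exact ⟨(hV _).2 (Or.inr (Or.inl rfl)), invol_ne_one h ht⟩
      · exact ⟨(hV _).2 (Or.inr (Or.inr (Or.inl rfl))), invol_ne_one h hv.ord⟩
      · refine ⟨(hV _).2 (Or.inr (Or.inr (Or.inr rfl))), fun e1 => hv.ne ?_⟩
        rw [eq_inv_of_mul_eq_one_right e1, inv_eq_of_mul_eq_one_right h2t]
    · exact fun hh => hthree g hh.1 hh.2
  set B := normalizer (V : Set G) with hB
  set A4 := H ⊓ B with hA4
  have hBconj : ∀ g : G, g ∈ B ↔ g * t * g⁻¹ ∈ V ∧ g * v * g⁻¹ ∈ V := by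
    intro g
    refine ⟨fun hg => ⟨(mem_normalizer_iff.1 hg t).1 ((hV _).2 (Or.inr (Or.inl rfl))),
      (mem_normalizer_iff.1 hg v).1 ((hV _).2 (Or.inr (Or.inr (Or.inl rfl))))⟩, fun ⟨h1, h2⟩ => ?_⟩
    have hmap : V.map (MulAut.conj g).toMonoidHom = V := by
      refine eq_of_le_of_card_ge ?_ (by rw [card_map_of_injective (MulAut.conj g).injective])
      rintro _ ⟨k, hk, rfl⟩
      show g * k * g⁻¹ ∈ V
      rcases (hV k).1 hk with rfl | rfl | rfl | rfl
      · simp
      · exact h1
      · exact h2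
      · rw [show g * (t * v) * g⁻¹ = g * t * g⁻¹ * (g * v * g⁻¹) by group]
        exact mul_mem h1 h2
    refine mem_normalizer_iff.2 fun k => ⟨fun hk => ?_, fun hk => ?_⟩
    · rw [← hmap]; exact ⟨k, hk, rfl⟩
    · rw [← hmap] at hk
      obtain ⟨k', hk', ek⟩ := hk
      exact (MulAut.conj g).injective ek ▸ hk'
  have hconj1 : ∀ g k : G, k ≠ 1 → g * k * g⁻¹ ≠ 1 := fun g k hk e1 => hk (by
    calc k = g⁻¹ * (g * k * g⁻¹) * g := by group
      _ = 1 := by rw [e1]; group)
  have hnorm : ∀ (g : G) (hg : g ∈ H), e ⟨g, hg⟩ ∈ AltFive.norm a b ↔ g ∈ B := by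
    intro g hg
    rw [hBconj, AltFive.norm, Finset.mem_filter]
    simp only [Finset.mem_univ, true_and, ha, hb, ← map_inv, ← map_mul]
    have ht' : g * t * g⁻¹ ∈ H := mul_mem (mul_mem hg htH) (inv_mem hg)
    have hv' : g * v * g⁻¹ ∈ H := mul_mem (mul_mem hg hvH) (inv_mem hg)
    show e ⟨g * t * g⁻¹, ht'⟩ ∈ [a, b, e _] ∧ e ⟨g * v * g⁻¹, hv'⟩ ∈ [a, b, e _] ↔ _
    rw [map_mul, ← ha, ← hb, hmemab, hmemab]
    exact ⟨fun hh => ⟨hh.1.1, hh.2.1⟩, fun hh => ⟨⟨hh.1, hconj1 g t (invol_ne_one h ht)⟩,
      hh.2, hconj1 g v (invol_ne_one h hv.ord)⟩⟩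
  have hfour := AltFive.four_group a (by
      simp only [AltFive.invols, Finset.mem_filter, Finset.mem_univ, true_and]
      refine ⟨fun e1 => invol_ne_one h ht ?_, ?_⟩
      · exact congrArg Subtype.val (e.injective (e1.trans (map_one e).symm))
      · rw [ha, ← map_mul, show (⟨t, htH⟩ : H) * ⟨t, htH⟩ = 1 from Subtype.ext h2t, map_one]) b (by
      simp only [AltFive.invols, Finset.mem_filter, Finset.mem_univ, true_and]
      refine ⟨fun e1 => invol_ne_one h hv.ord ?_, ?_⟩
      · exact congrArg Subtype.val (e.injective (e1.trans (map_one e).symm))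
      · rw [hb, ← map_mul, show (⟨v, hvH⟩ : H) * ⟨v, hvH⟩ = 1 from Subtype.ext h2v, map_one])
    (by rw [ha, hb, ← map_mul, ← map_mul]; exact congrArg e (Subtype.ext hv.comm.symm.eq))
    (fun e1 => hv.ne (congrArg Subtype.val (e.injective e1)).symm)
  have hA12 : Nat.card A4 = 12 := by
    rw [← hfour.1, ← Nat.card_eq_finsetCard]
    exact Nat.card_congr
      { toFun := fun g => ⟨e ⟨g.1, g.2.1⟩, (hnorm _ _).2 g.2.2⟩
        invFun := fun k => ⟨(e.symm k.1 : H), (e.symm k.1).2, (hnorm _ (e.symm k.1).2).1 (by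
          rw [Subtype.coe_eta, e.apply_symm_apply]; exact k.2)⟩
        left_inv := fun g => Subtype.ext (by simp)
        right_inv := fun k => Subtype.ext (by simp) }
  have hVA : V ≤ A4 := le_inf hVH le_normalizer
  -- facts about elements of `H`
  have hinH : ∀ g ∈ H, g * g = 1 ∨ g * g * g = 1 ∨ g * g * g * g * g = 1 := by
    intro g hg
    rcases AltFive.element_cases (e ⟨g, hg⟩) with h1 | h1 | h1
    · left
      rw [← map_mul, ← map_one e] at h1
      exact congrArg Subtype.val (e.injective h1)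
    · right; left
      rw [← map_mul, ← map_mul, ← map_one e] at h1
      exact congrArg Subtype.val (e.injective h1)
    · right; right
      rw [← map_mul, ← map_mul, ← map_mul, ← map_mul, ← map_one e] at h1
      exact congrArg Subtype.val (e.injective h1)
  have hA4inv : ∀ g ∈ A4, g * g = 1 → g ∈ V := by
    intro g hg hgg
    by_cases hg1 : g = 1
    · exact hg1 ▸ one_mem _
    refine ((hmemab g hg.1).1 (hfour.2 _ ((hnorm g hg.1).2 hg.2) (fun e1 => hg1 ?_) ?_)).1
    · exact congrArg Subtype.val (e.injective (e1.trans (map_one e).symm))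
    · rw [← map_mul, show (⟨g, hg.1⟩ : H) * ⟨g, hg.1⟩ = 1 from Subtype.ext hgg, map_one]
  have hA4three : ∀ g ∈ A4, g ∉ V → g * g * g = 1 := by
    intro g hg hgV
    rcases hinH g hg.1 with h1 | h1 | h1
    · exact absurd (hA4inv g hg h1) hgV
    · exact h1
    · exfalso
      refine hgV ?_
      have h12 := orderOf_dvd_natCard (⟨g, hg⟩ : A4)
      rw [Subgroup.orderOf_mk, hA12] at h12
      have h5 : orderOf g ∣ 5 := orderOf_dvd_of_pow_eq_one (by rw [← h1]; simp [pow_succ])
      have : orderOf g = 1 := Nat.dvd_one.1 ((Nat.dvd_gcd h12 h5).trans (by norm_num))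
      exact orderOf_eq_one_iff.1 this ▸ one_mem _
  set r3 := ρ.character ((e.symm AltFive.c₃ : H) : G) with hr3
  have hval3 : ∀ g ∈ H, g * g * g = 1 → g ≠ 1 → ρ.character g = r3 := by
    intro g hg h3 hg1
    obtain ⟨k, hk⟩ := AltFive.conj_three (e ⟨g, hg⟩) (by
      rw [← map_mul, ← map_mul, show (⟨g, hg⟩ : H) * ⟨g, hg⟩ * ⟨g, hg⟩ = 1 from Subtype.ext h3, map_one])
      (fun e1 => hg1 (congrArg Subtype.val (e.injective (e1.trans (map_one e).symm))))
    refine (char_conj_eq h hρ (isConj_iff.2 ⟨((e.symm k : H) : G), ?_⟩)).symm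
    rw [show g = ((e.symm (k * AltFive.c₃ * k⁻¹) : H) : G) by rw [hk, e.symm_apply_apply], map_mul,
      map_mul, map_inv]
    rfl
  have hcardf : ∀ K : Subgroup G, (Finset.univ.filter (· ∈ K)).card = Nat.card K := fun K => by
    rw [Nat.card_eq_fintype_card, Fintype.card_subtype]
  have hVsum : charSum ρ V = 4 * 3 := by
    rw [charSum_eq, (finrank_four h hρ ht hv).2, hv.card]
    norm_num
  have hAsum : charSum ρ A4 = 12 + 8 * r3 := by
    rw [charSum, ← Finset.sum_sdiff (s₁ := Finset.univ.filter (· ∈ V)) (fun g hg => by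
      simp only [Finset.mem_filter, Finset.mem_univ, true_and] at hg ⊢
      exact hVA hg)]
    rw [show ∑ g ∈ Finset.univ.filter (· ∈ V), ρ.character g = 4 * 3 from hVsum,
      Finset.sum_congr rfl (g := fun _ => r3) fun g hg => by
        simp only [Finset.mem_sdiff, Finset.mem_filter, Finset.mem_univ, true_and] at hg
        exact hval3 g hg.1.1 (hA4three g hg.1 hg.2) fun e1 => hg.2 (e1 ▸ one_mem _),
      Finset.sum_const, Finset.card_sdiff_of_subset (fun g hg => by
        simp only [Finset.mem_filter, Finset.mem_univ, true_and] at hg ⊢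
        exact hVA hg), hcardf, hcardf, hA12, hv.card, nsmul_eq_mul]
    push_cast
    ring
  have hHsum : charSum ρ H = 60 + 20 * r3 := by
    have hre : charSum ρ H = ∑ k : AltFive.A5, ρ.character ((e.symm k : H) : G) := by
      rw [charSum, Finset.sum_subtype (p := (· ∈ H)) (Finset.univ.filter (· ∈ H)) (fun g => by simp)]
      exact Fintype.sum_equiv e.toEquiv _ _ fun g => by simp
    have hone : ρ.character ((e.symm 1 : H) : G) = 6 := by rw [map_one]; exact hρ.one
    have hpow : ∀ k : AltFive.A5, k ≠ 1 → ((e.symm k : H) : G) ≠ 1 := fun k hk e1 => hk (by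
      rw [← e.apply_symm_apply k, show (e.symm k : H) = 1 from Subtype.ext e1, map_one])
    have u2 : Finset.univ = insert (1 : AltFive.A5)
        ((Finset.univ.filter fun g : AltFive.A5 => g ≠ 1 ∧ g * g = 1) ∪
        ((Finset.univ.filter fun g : AltFive.A5 => g ≠ 1 ∧ g * g * g = 1) ∪
        (Finset.univ.filter fun g : AltFive.A5 => g ≠ 1 ∧ g * g * g * g * g = 1))) := by
      ext k
      simp only [Finset.mem_univ, Finset.mem_insert, Finset.mem_union, Finset.mem_filter, true_and,
        true_iff]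
      by_cases hk : k = 1
      · exact Or.inl hk
      · rcases AltFive.element_cases k with h1 | h1 | h1
        · exact Or.inr (Or.inl ⟨hk, h1⟩)
        · exact Or.inr (Or.inr (Or.inl ⟨hk, h1⟩))
        · exact Or.inr (Or.inr (Or.inr ⟨hk, h1⟩))
    have d1 : Disjoint (Finset.univ.filter fun g : AltFive.A5 => g ≠ 1 ∧ g * g * g = 1)
        (Finset.univ.filter fun g : AltFive.A5 => g ≠ 1 ∧ g * g * g * g * g = 1) := by
      rw [Finset.disjoint_left]
      intro k hk hk'
      simp only [Finset.mem_filter, Finset.mem_univ, true_and] at hk hk'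
      refine hk.1 ?_
      have h2 : k * k = 1 := by rw [← hk'.2, hk.2, one_mul]
      rw [h2, one_mul] at hk
      exact hk.2
    have d2 : Disjoint (Finset.univ.filter fun g : AltFive.A5 => g ≠ 1 ∧ g * g = 1)
        ((Finset.univ.filter fun g : AltFive.A5 => g ≠ 1 ∧ g * g * g = 1) ∪
        (Finset.univ.filter fun g : AltFive.A5 => g ≠ 1 ∧ g * g * g * g * g = 1)) := by
      rw [Finset.disjoint_left]
      intro k hk hk'
      simp only [Finset.mem_filter, Finset.mem_univ, true_and, Finset.mem_union] at hk hk'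
      refine hk.1 ?_
      rcases hk' with ⟨-, h1⟩ | ⟨-, h1⟩
      · rwa [hk.2, one_mul] at h1
      · rwa [hk.2, one_mul, hk.2, one_mul] at h1
    have hback : ∀ k : AltFive.A5, k * k * k * k * k = 1 → k ≠ 1 →
        orderOf ((e.symm k : H) : G) = 5 := fun k hk hk1 => by
      rw [orderOf_coe, MulEquiv.orderOf_eq]
      exact orderOf_eq_prime (by rw [← hk]; simp [pow_succ]) hk1
    have hback2 : ∀ k : AltFive.A5, k * k = 1 → k ≠ 1 →
        orderOf ((e.symm k : H) : G) = 2 := fun k hk hk1 => by
      rw [orderOf_coe, MulEquiv.orderOf_eq]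
      exact orderOf_eq_prime (by rw [pow_two]; exact hk) hk1
    rw [hre, u2, Finset.sum_insert (by simp), Finset.sum_union d2, Finset.sum_union d1, hone,
      Finset.sum_congr rfl (fun k hk => hρ.two _ (hback2 k (Finset.mem_filter.1 hk).2.2
        (Finset.mem_filter.1 hk).2.1) : ∀ k ∈ Finset.univ.filter (fun g : AltFive.A5 => g ≠ 1 ∧ g * g = 1),
        ρ.character ((e.symm k : H) : G) = 2),
      Finset.sum_congr rfl (fun k hk => by
        simp only [Finset.mem_filter, Finset.mem_univ, true_and] at hk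
        refine hval3 _ (e.symm k).2 ?_ (hpow k hk.1)
        show (((e.symm k) * (e.symm k) * (e.symm k) : H) : G) = 1
        rw [← map_mul, ← map_mul, hk.2, map_one]
        rfl : ∀ k ∈ Finset.univ.filter (fun g : AltFive.A5 => g ≠ 1 ∧ g * g * g = 1),
        ρ.character ((e.symm k : H) : G) = r3),
      Finset.sum_congr rfl (fun k hk => char_five h hρ (hback k (Finset.mem_filter.1 hk).2.2
        (Finset.mem_filter.1 hk).2.1) : ∀ k ∈ Finset.univ.filter
          (fun g : AltFive.A5 => g ≠ 1 ∧ g * g * g * g * g = 1),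
        ρ.character ((e.symm k : H) : G) = 1),
      Finset.sum_const, Finset.sum_const, Finset.sum_const, AltFive.count_two, AltFive.count_three,
      AltFive.count_five]
    simp only [nsmul_eq_mul]
    push_cast
    ring
  -- the normalizer of the four-group
  have hB24 : Nat.card B = 24 := by
    have h12 : 12 ∣ Nat.card B := hA12 ▸ card_dvd_of_le inf_le_right
    obtain ⟨S, hS⟩ := (IsPGroup.of_card (n := 2) (by rw [hv.card]; rfl) : IsPGroup 2 V).exists_le_sylow
    have h8 : 8 ∣ Nat.card B := by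
      rw [← card_two h S]
      refine card_dvd_of_le fun s hs => ?_
      haveI hN : (V.subgroupOf S).Normal := normal_of_index_eq_two (by
        have := card_mul_index (V.subgroupOf S)
        rw [Nat.card_congr (subgroupOfEquivOfLe hS).toEquiv, hv.card, card_two h S] at this
        omega)
      refine (hBconj s).2 ⟨?_, ?_⟩
      · exact hN.conj_mem ⟨t, hS ((hV _).2 (Or.inr (Or.inl rfl)))⟩
          ((hV _).2 (Or.inr (Or.inl rfl))) ⟨s, hs⟩
      · exact hN.conj_mem ⟨v, hS ((hV _).2 (Or.inr (Or.inr (Or.inl rfl))))⟩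
          ((hV _).2 (Or.inr (Or.inr (Or.inl rfl)))) ⟨s, hs⟩
    have h24 : 24 ∣ Nat.card B := by
      have h3 : 3 ∣ Nat.card B := dvd_trans (by norm_num) h12
      exact Nat.Coprime.mul_dvd_of_dvd_of_dvd (by norm_num : Nat.Coprime 8 3) h8 h3
    have htB : t ∈ B := le_normalizer ((hV _).2 (Or.inr (Or.inl rfl)))
    have hcl := Basic.card_centralizer_mul_card_class (⟨t, htB⟩ : B)
    have hcls : Nat.card {k : B // IsConj (⟨t, htB⟩ : B) k} ≤ 3 := by
      refine (Nat.card_le_card_of_injective (fun k => (⟨k.1.1, ?_⟩ : {g : G // g ∈ ({t, v, t * v} : Finset G)}))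
        fun p q hpq => Subtype.ext (Subtype.ext (congrArg (fun z => z.1) hpq))).trans ?_
      · obtain ⟨c, hc⟩ := isConj_iff.1 k.2
        have hmem := ((hBconj c).1 c.2).1
        rw [show (c : G) * t * (c : G)⁻¹ = ((c * ⟨t, htB⟩ * c⁻¹ : B) : G) from rfl, hc] at hmem
        have h1 : (k.1 : G) ≠ 1 := by
          rw [← hc]
          exact hconj1 _ _ (invol_ne_one h ht)
        simpa using hthree _ hmem h1
      · rw [Nat.card_eq_finsetCard]
        exact Finset.card_le_three
    have hC12 : Nat.card (centralizer ({(⟨t, htB⟩ : B)} : Set B)) ≤ 12 := by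
      have hle : Nat.card (centralizer ({(⟨t, htB⟩ : B)} : Set B)) ≤
          Nat.card ↥(B ⊓ centralizer ({t} : Set G)) :=
        Nat.card_le_card_of_injective (fun c => ⟨c.1.1, c.1.2, mem_centralizer_singleton_iff.2
          (congrArg Subtype.val (mem_centralizer_singleton_iff.1 c.2))⟩)
          fun p q hpq => Subtype.ext (Subtype.ext (congrArg (fun z => z.1) hpq))
      have hd : Nat.card ↥(B ⊓ centralizer ({t} : Set G)) ∣ 24 :=
        cent_invol h ht ▸ card_dvd_of_le inf_le_right
      refine hle.trans ?_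
      by_contra hgt
      have hall : centralizer ({t} : Set G) ≤ B := by
        have key : ∀ d ∈ Nat.divisors 24, 12 < d → d = 24 := by decide +kernel
        have he := eq_of_le_of_card_ge (inf_le_right : B ⊓ centralizer ({t} : Set G) ≤ _)
          (by rw [cent_invol h ht, key _ (Nat.mem_divisors.2 ⟨hd, by norm_num⟩) (by omega)])
        exact he ▸ inf_le_left
      set C := centralizer ({t} : Set G)
      have hvC : v ∈ C := mem_centralizer_singleton_iff.2 hv.comm.eq
      have hcl' := Basic.card_centralizer_mul_card_class (⟨v, hvC⟩ : C)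
      have hcc : Nat.card (centralizer ({(⟨v, hvC⟩ : C)} : Set C)) ≤ 4 := by
        rw [← hv.card]
        exact Nat.card_le_card_of_injective (fun c => ⟨c.1.1, c.1.2, mem_centralizer_singleton_iff.2
          (congrArg Subtype.val (mem_centralizer_singleton_iff.1 c.2))⟩)
          fun p q hpq => Subtype.ext (Subtype.ext (congrArg (fun z => z.1) hpq))
      have hc3 : Nat.card {k : C // IsConj (⟨v, hvC⟩ : C) k} ≤ 4 := by
        rw [← hv.card]
        refine Nat.card_le_card_of_injective (fun k => (⟨k.1.1, ?_⟩ : V))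
          fun p q hpq => Subtype.ext (Subtype.ext (congrArg (fun z : V => z.1) hpq))
        obtain ⟨c, hc⟩ := isConj_iff.1 k.2
        rw [← hc]
        exact ((hBconj c).1 (hall c.2)).2
      rw [show Nat.card C = 24 from cent_invol h ht] at hcl'
      have := Nat.mul_le_mul hcc hc3
      omega
    have := Nat.mul_le_mul hC12 hcls
    rw [hcl] at this
    have hpos : 0 < Nat.card B := Nat.card_pos
    obtain ⟨k, hk⟩ := h24
    omega
  -- elements outside `A4`
  have hidx : (A4.subgroupOf B).index = 2 := by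
    have := card_mul_index (A4.subgroupOf B)
    rw [Nat.card_congr (subgroupOfEquivOfLe (inf_le_right : A4 ≤ B)).toEquiv, hA12, hB24] at this
    omega
  have hout : ∀ g ∈ B, g ∉ A4 → g * g * g * g = 1 := by
    intro g hg hgA
    have hw : g * g ∈ A4 := by
      have := mul_self_mem_of_index_two hidx ⟨g, hg⟩
      rwa [mem_subgroupOf] at this
    by_cases hwV : g * g ∈ V
    · have := (hV _).1 hwV
      rw [mul_assoc (g * g) g g]
      rcases this with e1 | e1 | e1 | e1 <;> rw [e1]
      · exact one_mul 1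
      · exact h2t
      · exact h2v
      · rw [mul_assoc, ← mul_assoc v, hv.comm.eq, mul_assoc, h2v, mul_one, h2t]
    exfalso
    set w := g * g with hwdef
    have hw3 : w * w * w = 1 := hA4three w hw hwV
    set c := g * g * g with hc
    have hcB : c ∈ B := mul_mem (mul_mem hg hg) hg
    have hcw : c * w = w * c := by rw [hc, hwdef]; group
    have hc2 : c * c = 1 := by
      rw [show c * c = w * w * w by rw [hc, hwdef]; group, hw3]
    have hgcw : g = c * w⁻¹ := by rw [hc, hwdef]; group
    -- `c` fixes one of the three involutions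
    obtain ⟨p, hp, hp1, hcp⟩ : ∃ p ∈ V, p ≠ 1 ∧ c * p * c⁻¹ = p := by
      have hci : c⁻¹ = c := inv_eq_of_mul_eq_one_right hc2
      have hback : ∀ k, c * (c * k * c⁻¹) * c⁻¹ = k := fun k => by
        rw [hci]; rw [show c * (c * k * c) * c = (c * c) * k * (c * c) by group, hc2]; group
      have htV : t ∈ V := (hV _).2 (Or.inr (Or.inl rfl))
      have hvV : v ∈ V := (hV _).2 (Or.inr (Or.inr (Or.inl rfl)))
      have htvV : t * v ∈ V := mul_mem htV hvV
      have htv1 : t * v ≠ 1 := fun e1 => hv.ne (by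
        rw [eq_inv_of_mul_eq_one_right e1, inv_eq_of_mul_eq_one_right h2t])
      obtain ⟨ct, cv⟩ := (hBconj c).1 hcB
      rcases hthree _ ct (hconj1 c t (invol_ne_one h ht)) with e1 | e1 | e1
      · exact ⟨t, htV, invol_ne_one h ht, e1⟩
      · have e2 := hback t
        rw [e1] at e2
        refine ⟨t * v, htvV, htv1, ?_⟩
        rw [show c * (t * v) * c⁻¹ = (c * t * c⁻¹) * (c * v * c⁻¹) by group, e1, e2, hv.comm.eq]
      · have e2 := hback t
        rw [e1, show c * (t * v) * c⁻¹ = (c * t * c⁻¹) * (c * v * c⁻¹) by group, e1] at e2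
        refine ⟨v, hvV, invol_ne_one h hv.ord, ?_⟩
        calc c * v * c⁻¹ = (t * v)⁻¹ * (t * v * (c * v * c⁻¹)) := by group
          _ = v⁻¹ * (t⁻¹ * t) := by rw [e2]; group
          _ = v := by rw [inv_mul_cancel, mul_one, inv_eq_of_mul_eq_one_right h2v]
    set q := w * p * w⁻¹ with hq
    have hqV : q ∈ V := (mem_normalizer_iff.1 hw.2 p).1 hp
    have hq1 : q ≠ 1 := hconj1 w p hp1
    have hp2 : p * p = 1 := by
      rcases hthree p hp hp1 with rfl | rfl | rfl
      · exact h2t
      · exact h2v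
      · rw [mul_assoc, ← mul_assoc v, hv.comm.eq, mul_assoc, h2v, mul_one, h2t]
    have hqp : q ≠ p := by
      intro e1
      have hcomm : w * p = p * w := by
        calc w * p = q * w := by rw [hq]; group
          _ = p * w := by rw [e1]
      have hwp : w * p ∈ H := mul_mem hw.1 (hVH hp)
      have hwne : w ≠ 1 := fun e2 => hwV (e2 ▸ one_mem _)
      rcases hinH _ hwp with h1 | h1 | h1
      · refine hwne ?_
        have : w * w = 1 := by
          calc w * w = w * w * (p * p) := by rw [hp2, mul_one]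
            _ = w * p * (w * p) := by
              rw [mul_assoc w p, ← mul_assoc p w, ← hcomm]; group
            _ = 1 := h1
        rw [this, one_mul] at hw3
        exact hw3
      · refine hp1 ?_
        have hC : Commute w p := hcomm
        have e3 : (w * p) ^ 3 = 1 := by rw [← h1]; simp [pow_succ]
        rw [hC.mul_pow, show w ^ 3 = 1 by rw [← hw3]; simp [pow_succ], one_mul,
          show p ^ 3 = p * p * p by simp [pow_succ], hp2, one_mul] at e3
        exact e3
      · refine hp1 ?_
        have hC : Commute w p := hcomm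
        have e3 : (w * p) ^ 5 = 1 := by rw [← h1]; simp [pow_succ]
        have e4 : w ^ 3 = 1 := by rw [← hw3]; simp [pow_succ]
        have e5 : p ^ 2 = 1 := by rw [pow_two]; exact hp2
        have e6 : p ^ 3 = 1 := by
          have : ((w * p) ^ 5) ^ 3 = 1 := by rw [e3, one_pow]
          rw [hC.mul_pow, hC.pow_pow 5 5 |>.mul_pow, ← pow_mul, ← pow_mul,
            show 5 * 3 = 3 * 5 from rfl, pow_mul w, e4, one_pow, one_mul,
            show 3 * 5 = 2 * 6 + 3 from rfl, pow_add, pow_mul, e5, one_pow, one_mul] at this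
          exact this
        rw [show 3 = 2 + 1 from rfl, pow_succ, e5, one_mul] at e6
        exact e6
    have hcq : c * q * c⁻¹ = q := by
      calc c * q * c⁻¹ = (c * w) * p * (c * w)⁻¹ := by rw [hq]; group
        _ = (w * c) * p * (w * c)⁻¹ := by rw [hcw]
        _ = w * (c * p * c⁻¹) * w⁻¹ := by group
        _ = q := by rw [hcp]
    have hVle : V ≤ centralizer ({c} : Set G) := by
      have hpc : p ∈ centralizer ({c} : Set G) :=
        mem_centralizer_singleton_iff.2 (mul_inv_eq_iff_eq_mul.1 hcp).symm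
      have hqc : q ∈ centralizer ({c} : Set G) :=
        mem_centralizer_singleton_iff.2 (mul_inv_eq_iff_eq_mul.1 hcq).symm
      have hq2 : q * q = 1 := by
        rw [hq, show w * p * w⁻¹ * (w * p * w⁻¹) = w * (p * p) * w⁻¹ by group, hp2]; group
      have hpq : p * q = q * p := by
        have hpc' := mem_cent_inf.1 hp
        rcases hthree q hqV hq1 with e1 | e1 | e1 <;> rw [e1]
        · exact hpc'.1
        · exact hpc'.2
        · rw [← mul_assoc, hpc'.1, mul_assoc, hpc'.2, mul_assoc]
      obtain ⟨M, hM, hMle, hMge⟩ := klein hp2 hq2 hpq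
      have hMV : M = V := by
        refine eq_of_le_of_card_ge (fun k hk => ?_) (by rw [hv.card]; exact hMge hp1 hq1 hqp.symm)
        rcases (hM k).1 hk with rfl | rfl | rfl | rfl
        · exact one_mem _
        · exact hp
        · exact hqV
        · exact mul_mem hp hqV
      intro k hk
      rw [← hMV] at hk
      rcases (hM k).1 hk with rfl | rfl | rfl | rfl
      · exact one_mem _
      · exact hpc
      · exact hqc
      · exact mul_mem hpc hqc
    have hcV : c ∈ V := mem_cent_inf.2
      ⟨(mem_centralizer_singleton_iff.1 (hVle ((hV _).2 (Or.inr (Or.inl rfl))))).symm,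
        (mem_centralizer_singleton_iff.1 (hVle ((hV _).2 (Or.inr (Or.inr (Or.inl rfl)))))).symm⟩
    exact hgA (hgcw ▸ mul_mem (hVA hcV) (inv_mem hw))
  -- the fixed spaces
  obtain ⟨g₀, hg₀B, hg₀⟩ : ∃ g ∈ B, orderOf g = 2 ∧ g ∉ A4 := by
    obtain ⟨S, hS⟩ := (IsPGroup.of_card (n := 2) (by rw [hv.card]; rfl) : IsPGroup 2 V).exists_le_sylow
    by_contra hno
    push Not at hno
    have hsub : ∀ k : {k : G // k ∈ (S : Subgroup G) ∧ orderOf k = 2}, k.1 ∈ ({t, v, t * v} : Finset G) := by
      intro k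
      haveI hN : (V.subgroupOf S).Normal := normal_of_index_eq_two (by
        have := card_mul_index (V.subgroupOf S)
        rw [Nat.card_congr (subgroupOfEquivOfLe hS).toEquiv, hv.card, card_two h S] at this
        omega)
      have hkB : k.1 ∈ B := (hBconj k.1).2
        ⟨hN.conj_mem ⟨t, hS ((hV _).2 (Or.inr (Or.inl rfl)))⟩
            ((hV _).2 (Or.inr (Or.inl rfl))) ⟨k.1, k.2.1⟩,
          hN.conj_mem ⟨v, hS ((hV _).2 (Or.inr (Or.inr (Or.inl rfl))))⟩
            ((hV _).2 (Or.inr (Or.inr (Or.inl rfl)))) ⟨k.1, k.2.1⟩⟩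
      have hkA := hno k.1 hkB k.2.2
      have hkV := hA4inv _ hkA (by rw [← pow_two]; exact orderOf_dvd_iff_pow_eq_one.1 (dvd_of_eq k.2.2))
      simpa using hthree _ hkV (invol_ne_one h k.2.2)
    have := Nat.card_le_card_of_injective
      (fun k : {k : G // k ∈ (S : Subgroup G) ∧ orderOf k = 2} =>
        (⟨k.1, hsub k⟩ : {g : G // g ∈ ({t, v, t * v} : Finset G)}))
      fun p q hpq => Subtype.ext (congrArg (fun z => z.1) hpq)
    rw [five_invol h S, Nat.card_eq_finsetCard] at this
    exact absurd (this.trans Finset.card_le_three) (by norm_num)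
  set O := (Finset.univ.filter (· ∈ B)) \ (Finset.univ.filter (· ∈ A4)) with hO
  have hOval : ∀ g ∈ O, ρ.character g = (((if orderOf g = 2 then 2 else 0) : ℕ) : ℂ) := by
    intro g hg
    simp only [hO, Finset.mem_sdiff, Finset.mem_filter, Finset.mem_univ, true_and] at hg
    have h4 : g ^ 4 = 1 := by rw [← hout g hg.1 hg.2]; simp [pow_succ]
    have hg1 : g ≠ 1 := fun e1 => hg.2 (e1 ▸ one_mem _)
    have hd := orderOf_dvd_of_pow_eq_one h4
    rw [show 4 = 2 ^ 2 from rfl] at hd
    obtain ⟨k, hk, hko⟩ := (Nat.dvd_prime_pow Nat.prime_two).1 hd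
    interval_cases k
    · exact absurd (orderOf_eq_one_iff.1 (by simpa using hko)) hg1
    · rw [if_pos (by simpa using hko), hρ.two g (by simpa using hko)]; norm_num
    · rw [if_neg (by rw [hko]; norm_num), hρ.four g (by simpa using hko)]; norm_num
  set s := ∑ g ∈ O, (if orderOf g = 2 then 2 else 0) with hs
  have hs2 : 2 ≤ s := by
    have hmem : g₀ ∈ O := by simp [hO, hg₀B, hg₀.2]
    refine le_trans ?_ (Finset.single_le_sum (f := fun g => if orderOf g = 2 then 2 else 0)
      (fun _ _ => Nat.zero_le _) hmem)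
    simp [hg₀.1]
  have hBsum : charSum ρ B = charSum ρ A4 + (s : ℂ) := by
    rw [charSum, charSum, ← Finset.sum_sdiff (s₁ := Finset.univ.filter (· ∈ A4)) (fun g hg => by
      simp only [Finset.mem_filter, Finset.mem_univ, true_and] at hg ⊢
      exact hg.2), ← hO, Finset.sum_congr rfl hOval, hs]
    push_cast
    ring
  rw [charSum_eq, charSum_eq, hB24, hA12] at hBsum
  rw [charSum_eq, hA12] at hAsum
  rw [charSum_eq, h60] at hHsum
  push_cast at hAsum hBsum hHsum
  set dA := Module.finrank ℂ (W ρ A4)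
  set dB := Module.finrank ℂ (W ρ B)
  set dH := Module.finrank ℂ (W ρ H)
  have eB : (24 : ℕ) * dB = 12 * dA + s := by exact_mod_cast hBsum
  have eH : (2 : ℕ) * dH = dA + 1 := by
    have : (120 : ℂ) * dH = 60 * dA + 60 := by linear_combination 2 * hHsum - 5 * hAsum
    have h' : 120 * dH = 60 * dA + 60 := by exact_mod_cast this
    omega
  refine ⟨B, hB24, W_sup_ne_bot ρ (H₀ := A4) inf_le_left inf_le_right ?_⟩
  change dA < dH + dB
  omega

/-- A simple group of order 2520 has a subgroup of index 7. -/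
theorem exists_index_seven : ∃ K : Subgroup G, K.index = 7 := by
  classical
  obtain ⟨x, y, hx, hy, hyN⟩ := exists_setup h
  obtain ⟨n, ρ, hρ⟩ := exists_rep h
  set N := normalizer (zpowers x : Set G) with hN
  set t := y ^ 2
  have ht : orderOf t = 2 := orderOf_sq h hy
  by_contra hno
  push Not at hno
  have h360 : ∀ K : Subgroup G, Nat.card K ≠ 360 := fun K hK => hno K (by
    have := card_mul_index K
    rw [hK, h] at this
    omega)
  set M₀ := fixer ρ (W ρ N) with hM₀
  have hproper : ∀ K : Subgroup G, W ρ K ≠ ⊥ → K ≠ ⊤ := fun K hK e => hK (e ▸ hρ.W_top)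
  have h120 : ∀ K : Subgroup G, Dih x ≤ K → W ρ K ≠ ⊥ → ∀ v ∈ K, Good t v →
      (Nat.card K = 60 ∨ Nat.card K = 120) ∧ (Nat.card K = 120 → K ≤ M₀) ∧ ¬ K ≤ N := by
    intro K hD hW v hvK hv
    obtain ⟨hc, hN120, hnot⟩ := order_cases h hx hy hyN hD (hproper K hW) hvK hv.ord hv.comm hv.ne
    refine ⟨by rcases hc with e | e | e <;> [exact Or.inl e; exact Or.inr e; exact absurd e (h360 K)],
      fun e => le_fixer ρ ?_, hnot⟩
    have hle : W ρ K ≤ W ρ N := W_anti ρ (hN120 e)
    refine (Submodule.eq_of_le_of_finrank_le hle ?_).ge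
    rw [hρ.normalizer x hx]
    exact Nat.one_le_iff_ne_zero.2 fun e0 => hW (Submodule.finrank_eq_zero.1 e0)
  -- good involutions lie in `M₀`
  have hgood : ∀ v, Good t v → v ∈ M₀ := by
    intro v hv
    set V := centralizer ({t} : Set G) ⊓ centralizer ({v} : Set G)
    obtain ⟨ft, fV⟩ := finrank_four h hρ ht hv
    have hV := four_group_eq h ht hv
    have htV : t ∈ V := (hV _).2 (Or.inr (Or.inl rfl))
    have hW : W ρ (Dih x ⊔ V) ≠ ⊥ := W_sup_ne_bot ρ (H₀ := zpowers t)
      (zpowers_le.2 (t_mem_dih h hx hy hyN)) (zpowers_le.2 htV)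
      (by rw [ft, fV, hρ.dih x hx]; norm_num)
    have hvH : v ∈ Dih x ⊔ V := mem_sup_right ((hV _).2 (Or.inr (Or.inr (Or.inl rfl))))
    obtain ⟨hc, hle, hnot⟩ := h120 _ le_sup_left hW v hvH hv
    rcases hc with e | e
    · obtain ⟨B, hB, hWB⟩ := sup_normalizer h hρ hx hy hyN hv le_sup_left hvH e hnot
      obtain ⟨hc', hle', -⟩ := h120 _ (le_sup_left.trans le_sup_left) hWB v (mem_sup_left hvH) hv
      have h24 : 24 ∣ Nat.card ↥(Dih x ⊔ V ⊔ B) := hB ▸ card_dvd_of_le le_sup_right
      refine hle' (hc'.resolve_left fun e' => ?_) (mem_sup_left hvH)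
      rw [e'] at h24
      norm_num at h24
    · exact hle e hvH
  obtain ⟨v₀, hv₀⟩ := exists_good h ht
  have hDM : Dih x ≤ M₀ := (dih_le h).trans (le_fixer ρ le_rfl)
  have hW₀ : W ρ M₀ ≠ ⊥ := fun e => by
    have h1 := hρ.normalizer x hx
    have h2 : W ρ N ≤ W ρ M₀ := le_W_fixer ρ
    rw [e, le_bot_iff] at h2
    rw [← hN, h2, finrank_bot] at h1
    exact absurd h1 (by norm_num)
  obtain ⟨hc₀, -, -⟩ := h120 M₀ hDM hW₀ v₀ (hgood v₀ hv₀) hv₀
  set R := M₀ ⊓ centralizer ({t} : Set G) with hR
  have htM : t ∈ M₀ := hDM (t_mem_dih h hx hy hyN)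
  have hR4 : 4 ∣ Nat.card R := by
    rw [← hv₀.card]
    refine card_dvd_of_le fun g hg => Subgroup.mem_inf.2 ⟨?_, (Subgroup.mem_inf.1 hg).1⟩
    rcases (four_group_eq h ht hv₀ g).1 hg with e | e | e | e <;> rw [e]
    · exact one_mem _
    · exact htM
    · exact hgood v₀ hv₀
    · exact mul_mem htM (hgood v₀ hv₀)
  have hR24 : Nat.card R ∣ 24 := cent_invol h ht ▸ card_dvd_of_le inf_le_right
  have hR8 : Nat.card R = 4 ∨ Nat.card R = 8 := by
    have key : ∀ r ∈ Nat.divisors 24, 4 ∣ r → r = 4 ∨ r = 8 ∨ r = 12 ∨ r = 24 := by decide +kernel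
    have hp := pairs_le h hx hy hyN hDM
    have hcl := Basic.card_centralizer_mul_card_class (⟨t, htM⟩ : M₀)
    have e1 : Nat.card (centralizer ({(⟨t, htM⟩ : M₀)} : Set M₀)) = Nat.card R :=
      Nat.card_congr
        { toFun := fun c => ⟨c.1.1, c.1.2, mem_centralizer_singleton_iff.2
            (congrArg Subtype.val (mem_centralizer_singleton_iff.1 c.2))⟩
          invFun := fun c => ⟨⟨c.1, c.2.1⟩, mem_centralizer_singleton_iff.2
            (Subtype.ext (mem_centralizer_singleton_iff.1 c.2.2))⟩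
          left_inv := fun c => rfl
          right_inv := fun c => rfl }
    have e2 : Nat.card {k : M₀ // IsConj (⟨t, htM⟩ : M₀) k} =
        Nat.card {r : G // ∃ m ∈ M₀, m * y ^ 2 * m⁻¹ = r} :=
      Nat.card_congr
        { toFun := fun k => ⟨k.1.1, by
            obtain ⟨c, hc⟩ := isConj_iff.1 k.2
            exact ⟨c.1, c.2, by rw [← hc]; rfl⟩⟩
          invFun := fun r => ⟨⟨r.1, by
            obtain ⟨m, hm, hr⟩ := r.2
            rw [← hr]
            exact mul_mem (mul_mem hm htM) (inv_mem hm)⟩, isConj_iff.2 (by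
            obtain ⟨m, hm, hr⟩ := r.2
            exact ⟨⟨m, hm⟩, Subtype.ext hr⟩)⟩
          left_inv := fun k => rfl
          right_inv := fun r => rfl }
    rw [e1, e2] at hcl
    have hN20 : Nat.card ↥(M₀ ⊓ N) ≤ 20 := card_normalizer_x h hx ▸ card_le_of_le inf_le_right
    generalize Nat.card {r : G // ∃ m ∈ M₀, m * y ^ 2 * m⁻¹ = r} = c at hp hcl
    have hp' := hp.trans (Nat.mul_le_mul_right _ hN20)
    rcases key _ (Nat.mem_divisors.2 ⟨hR24, by norm_num⟩) hR4 with e | e | e | e
    · exact Or.inl e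
    · exact Or.inr e
    all_goals
      exfalso
      rw [e] at hcl
      rcases hc₀ with e0 | e0 <;> rw [e0] at hcl hp'
      all_goals
        have hc10 : c ≤ 10 := by omega
        interval_cases c <;> omega
  obtain ⟨v, hv, hvR⟩ := not_all_good h ht inf_le_right hR8
    (Subgroup.mem_inf.2 ⟨htM, mem_centralizer_singleton_iff.2 rfl⟩)
  exact hvR (Subgroup.mem_inf.2 ⟨hgood v hv, mem_centralizer_singleton_iff.2 hv.comm.eq⟩)

end Cfsg.Agent.SmallSimple.Order2520
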