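import Cfsg.Agent.Lib.SmallSimple.Order2520.Sylow
import Cfsg.Agent.Lib.SmallSimple.SixteenFour

/-!
# The centralizer of an element of order 5 in a simple group of order 2520
-/

set_option autoImplicit false
set_option linter.style.haveILetI false
set_option linter.unusedSectionVars false

namespace Cfsg.Agent.SmallSimple.Order2520

open Subgroup MulAction

variable {G : Type*} [Group G] [Finite G] [IsSimpleGroup G] (h : Nat.card G = 2520)
include h

theorem no_index_two : ∀ H : Subgroup G, H.index ≠ 2 := by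
  intro H hH
  rcases (normal_of_index_eq_two hH).eq_bot_or_eq_top with e | e
  · rw [e, index_bot, h] at hH; norm_num at hH
  · rw [e, index_top] at hH; norm_num at hH

/-- An involution has a conjugate in any cyclic subgroup of order four, namely the square of its
generator. -/
theorem isConj_sq_of_four [Fact (Nat.Prime 2)] {y : G} (hy : orderOf y = 4) {u : G}
    (hu : orderOf u = 2) : IsConj u (y ^ 2) := by
  obtain ⟨S, hS⟩ := (IsPGroup.of_card (n := 2) (by rw [Nat.card_zpowers, hy]; rfl) :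
    IsPGroup 2 (zpowers y)).exists_le_sylow
  have hr : (zpowers y).relIndex S = 2 := by
    have hm := relIndex_mul_relIndex ⊥ (zpowers y) (S : Subgroup G) bot_le hS
    rw [relIndex_bot_left, relIndex_bot_left, Nat.card_zpowers, hy, card_two h S] at hm
    omega
  obtain ⟨g, hg⟩ := Involutions.ThompsonTransfer.exists_conj_mem (no_index_two h) S _ hS hr u hu
  refine isConj_iff.2 ⟨g, ?_⟩
  have hgo : orderOf (g * u * g⁻¹) = 2 := by
    rw [← hu]
    exact orderOf_injective (MulAut.conj g).toMonoidHom (MulAut.conj g).injective u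
  obtain ⟨i, hi⟩ := mem_zpowers_iff.1 hg
  rw [← hi] at hgo ⊢
  have h2 : (4 : ℤ) ∣ i * 2 := by
    show ((4 : ℕ) : ℤ) ∣ _
    rw [← hy, orderOf_dvd_iff_zpow_eq_one, zpow_mul]
    exact_mod_cast (hgo ▸ pow_orderOf_eq_one (y ^ i) : (y ^ i) ^ 2 = 1)
  have h4 : ¬ (4 : ℤ) ∣ i := fun h4 => by
    have : y ^ i = 1 := by
      rw [← orderOf_dvd_iff_zpow_eq_one, hy]
      exact_mod_cast h4
    rw [this, orderOf_one] at hgo
    norm_num at hgo
  obtain ⟨j, rfl⟩ : ∃ j : ℤ, i = 4 * j + 2 := ⟨i / 4, by omega⟩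
  rw [zpow_add, show (2 : ℤ) = ((2 : ℕ) : ℤ) from rfl, zpow_natCast]
  have : y ^ (4 * j) = 1 := by
    rw [← orderOf_dvd_iff_zpow_eq_one, hy]
    exact ⟨j, rfl⟩
  rw [this, one_mul]

/-- The order of the centralizer of an involution is a multiple of 8. -/
theorem eight_dvd [Fact (Nat.Prime 2)] {t : G} (ht : orderOf t = 2) :
    8 ∣ Nat.card (centralizer ({t} : Set G)) := by
  obtain ⟨S, hS⟩ := (IsPGroup.of_card (n := 1) (by rw [Nat.card_zpowers, ht, pow_one]) :
    IsPGroup 2 (zpowers t)).exists_le_sylow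
  have htS : t ∈ (S : Subgroup G) := hS (mem_zpowers t)
  by_cases hexp : ∀ s ∈ (S : Subgroup G), s * s = 1
  · rw [← card_two h S]
    refine card_dvd_of_le fun s hs => mem_centralizer_singleton_iff.2 ?_
    have hinv : ∀ w ∈ (S : Subgroup G), w⁻¹ = w := fun w hw => inv_eq_of_mul_eq_one_right (hexp w hw)
    calc s * t = (s * t)⁻¹ := (hinv _ (mul_mem hs htS)).symm
      _ = t * s := by rw [mul_inv_rev, hinv t htS, hinv s hs]
  · push Not at hexp
    obtain ⟨y, hyS, hy2⟩ := hexp
    have hdvd := orderOf_dvd_natCard (⟨y, hyS⟩ : (S : Subgroup G))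
    rw [Subgroup.orderOf_mk, card_two h S, show 8 = 2 ^ 3 from rfl] at hdvd
    obtain ⟨k, hk, hko⟩ := (Nat.dvd_prime_pow Nat.prime_two).1 hdvd
    have hk2 : 2 ≤ k := by
      by_contra hlt
      apply hy2
      rw [← pow_two, ← orderOf_dvd_iff_pow_eq_one, hko]
      exact (pow_dvd_pow 2 (by omega : k ≤ 1))
    obtain ⟨z, hzS, hz⟩ : ∃ z ∈ (S : Subgroup G), orderOf z = 4 := by
      refine ⟨y ^ (2 ^ (k - 2)), pow_mem hyS _, ?_⟩
      rw [orderOf_pow' _ (by positivity), hko]
      interval_cases k <;> decide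
    have hconj := isConj_sq_of_four h hz ht
    obtain ⟨g, hg⟩ := isConj_iff.1 hconj
    have hSc : (S : Subgroup G) ≤ centralizer ({z ^ 2} : Set G) := by
      intro s hs
      have hle : zpowers z ≤ (S : Subgroup G) := zpowers_le.2 hzS
      haveI hN : ((zpowers z).subgroupOf S).Normal := normal_of_index_eq_two (by
        have := card_mul_index ((zpowers z).subgroupOf S)
        rw [Nat.card_congr (subgroupOfEquivOfLe hle).toEquiv, Nat.card_zpowers, hz, card_two h S] at this
        omega)
      have hc := hN.conj_mem ⟨z, hzS⟩ (by rw [mem_subgroupOf]; exact mem_zpowers z) ⟨s, hs⟩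
      rw [mem_subgroupOf] at hc
      obtain ⟨i, hi⟩ := mem_zpowers_iff.1 hc
      simp only [Subgroup.coe_mul, InvMemClass.coe_inv] at hi
      have ho : orderOf (z ^ i) = 4 := by
        rw [hi, ← hz]
        exact orderOf_injective (MulAut.conj s).toMonoidHom (MulAut.conj s).injective z
      have hi2 : ¬ (2 : ℤ) ∣ i := by
        rintro ⟨j, rfl⟩
        have : (z ^ (2 * j)) ^ 2 = 1 := by
          rw [← zpow_natCast, ← zpow_mul, ← orderOf_dvd_iff_zpow_eq_one, hz]
          exact ⟨j, by push_cast; ring⟩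
        have h2 := orderOf_dvd_of_pow_eq_one this
        rw [ho] at h2
        norm_num at h2
      refine mem_centralizer_singleton_iff.2 ?_
      have e : s * z ^ 2 * s⁻¹ = z ^ 2 := by
        rw [← conj_pow, ← hi, ← zpow_natCast, ← zpow_mul, ← zpow_natCast z 2, zpow_eq_zpow_iff_modEq, hz]
        rw [Int.modEq_iff_dvd]
        push_cast
        omega
      calc s * z ^ 2 = s * z ^ 2 * s⁻¹ * s := by group
        _ = z ^ 2 * s := by rw [e]
    have hC : Nat.card (centralizer ({z ^ 2} : Set G)) = Nat.card (centralizer ({t} : Set G)) := by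
      have h1 := Basic.card_centralizer_mul_card_class t
      have h2 := Basic.card_centralizer_mul_card_class (z ^ 2)
      have hcls : Nat.card {y : G // IsConj t y} = Nat.card {y : G // IsConj (z ^ 2) y} :=
        Nat.card_congr (Equiv.subtypeEquivRight fun y => ⟨hconj.symm.trans, hconj.trans⟩)
      rw [hcls, ← h2] at h1
      haveI : Nonempty {y : G // IsConj (z ^ 2) y} := ⟨⟨z ^ 2, IsConj.refl _⟩⟩
      exact (Nat.eq_of_mul_eq_mul_right Nat.card_pos h1).symm
    rw [← hC, ← card_two h S]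
    exact card_dvd_of_le hSc

omit h [IsSimpleGroup G] in
/-- The subgroup generated by two commuting elements of order dividing two. -/
theorem klein {a b : G} (ha : a * a = 1) (hb : b * b = 1) (hab : a * b = b * a) :
    ∃ M : Subgroup G, (∀ g, g ∈ M ↔ g = 1 ∨ g = a ∨ g = b ∨ g = a * b) ∧
      Nat.card M ≤ 4 ∧ (a ≠ 1 → b ≠ 1 → a ≠ b → 4 ≤ Nat.card M) := by
  classical
  have e1 : b * a = a * b := hab.symm
  have e2 : a * (a * b) = b := by rw [← mul_assoc, ha, one_mul]
  have e3 : a * b * b = a := by rw [mul_assoc, hb, mul_one]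
  have e4 : a * b * a = b := by rw [hab, mul_assoc, ha, mul_one]
  have e5 : b * (a * b) = a := by rw [hab, ← mul_assoc, hb, one_mul]
  have e6 : a * b * (a * b) = 1 := by rw [← mul_assoc, e4, hb]
  let M : Subgroup G :=
    { carrier := {g | g = 1 ∨ g = a ∨ g = b ∨ g = a * b}
      one_mem' := Or.inl rfl
      mul_mem' := by
        rintro u v hu hv
        simp only [Set.mem_ofPred_eq] at hu hv ⊢
        rcases hu with rfl | rfl | rfl | rfl <;> rcases hv with rfl | rfl | rfl | rfl <;>
          simp [ha, hb, e1, e2, e3, e4, e5, e6]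
      inv_mem' := by
        rintro u hu
        simp only [Set.mem_ofPred_eq] at hu ⊢
        rcases hu with rfl | rfl | rfl | rfl
        · exact Or.inl inv_one
        · exact Or.inr (Or.inl (inv_eq_of_mul_eq_one_right ha))
        · exact Or.inr (Or.inr (Or.inl (inv_eq_of_mul_eq_one_right hb)))
        · exact Or.inr (Or.inr (Or.inr (inv_eq_of_mul_eq_one_right e6))) }
  have hset : (M : Set G) = (({1, a, b, a * b} : Finset G) : Set G) := by
    ext g
    simp [M]
  have hc : Nat.card M = ({1, a, b, a * b} : Finset G).card := by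
    rw [← Set.ncard_coe_finset, ← hset, ← Nat.card_coe_set_eq]
    rfl
  refine ⟨M, fun g => Iff.rfl, hc ▸ Finset.card_le_four, fun ha1 hb1 hne => ?_⟩
  have hab1 : a * b ≠ 1 := fun e => hne (by
    rw [eq_inv_of_mul_eq_one_left e, inv_eq_of_mul_eq_one_right hb])
  rw [hc, Finset.card_insert_of_notMem (by simp [Ne.symm ha1, Ne.symm hb1, Ne.symm hab1]),
    Finset.card_insert_of_notMem (by simp [hne, hb1]),
    Finset.card_insert_of_notMem (by simp [ha1]), Finset.card_singleton]

theorem four_dvd_card_sub {α : Type*} [Finite α] [MulAction G α] {t : G} (ht : orderOf t = 2) :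
    4 ∣ Nat.card α - Nat.card {a : α // t • a = a} :=
  FixedPoints.four_dvd_moved (notComm h) (by rw [← pow_two, ← ht, pow_orderOf_eq_one])

theorem not_fix_all [Fact (Nat.Prime 5)] {g : G} (hg : g ≠ 1) :
    Nat.card {Q : Sylow 5 G // g • Q = Q} < Nat.card (Sylow 5 G) := by
  refine lt_of_le_of_ne (Nat.card_le_card_of_injective _ Subtype.val_injective) fun he => hg ?_
  have hb := (Nat.bijective_iff_injective_and_card (Subtype.val :
    {Q : Sylow 5 G // g • Q = Q} → Sylow 5 G)).2 ⟨Subtype.val_injective, he⟩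
  haveI := FixedPoints.faithful (p := 5) (notComm h) (by rw [h]; norm_num)
  refine eq_of_smul_eq_smul (α := Sylow 5 G) fun Q => ?_
  obtain ⟨Q', rfl⟩ := hb.2 Q
  rw [Q'.2, one_smul]

/-- Fixed Sylow subgroups of an element centralizing `P`. -/
theorem fixed_mod_five [Fact (Nat.Prime 5)] (P : Sylow 5 G) {g : G}
    (hg : g ∈ centralizer ((P : Subgroup G) : Set G)) :
    Nat.card {Q : Sylow 5 G // g • Q = Q} % 5 = 1 := by
  have hP := card_five h P
  obtain ⟨x, hx, hx1, hxo⟩ := exists_gen hP
  have hgx : g * x = x * g := (mem_centralizer_iff.1 hg x hx).symm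
  have hs : ∀ Q ∈ {Q : Sylow 5 G | g • Q = Q}, x • Q ∈ {Q : Sylow 5 G | g • Q = Q} := fun Q hQ => by
    show g • x • Q = x • Q
    rw [← mul_smul, hgx, mul_smul, (show g • Q = Q from hQ)]
  have := fixed_mod (hxo ▸ pow_orderOf_eq_one x : x ^ 5 = 1) _ hs
  refine this.symm.trans ?_
  haveI : Subsingleton {a : Sylow 5 G // a ∈ {Q : Sylow 5 G | g • Q = Q} ∧ x • a = a} :=
    ⟨fun a b => Subtype.ext ((eq_of_fixed hP hx hx1 a.2.2).trans (eq_of_fixed hP hx hx1 b.2.2).symm)⟩
  haveI : Nonempty {a : Sylow 5 G // a ∈ {Q : Sylow 5 G | g • Q = Q} ∧ x • a = a} :=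
    ⟨⟨P, Sylow.smul_eq_iff_mem_normalizer.2 (centralizer_le_normalizer _ hg),
      Sylow.smul_eq_iff_mem_normalizer.2 (le_normalizer hx)⟩⟩
  rw [Nat.card_eq_one_iff_unique.2 ⟨inferInstance, inferInstance⟩]

/-- An element of order 3 in a subgroup of order 30, 60 or 120 centralized by `P`. -/
theorem normalizer_three [Fact (Nat.Prime 3)] {N : Subgroup G} {w x : G} (hwN : w ∈ N)
    (hw : orderOf w = 3) (hxN : x ∈ N) (hx : orderOf x = 5) (hwx : Commute w x) {k : ℕ}
    (hN : Nat.card N = 15 * k) (hk : ¬ 3 ∣ k) :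
    ∃ n d : ℕ, n % 3 = 1 ∧ n * d = k ∧
      Nat.card ↥(N ⊓ normalizer (zpowers w : Set G)) = 15 * d := by
  have hcard : Nat.card (zpowers (⟨w, hwN⟩ : N)) = 3 := by
    rw [Nat.card_zpowers, Subgroup.orderOf_mk, hw]
  let W : Sylow 3 N := Sylow.ofCard (zpowers (⟨w, hwN⟩ : N)) (by
    rw [hcard, hN, Nat.factorization_mul (by norm_num) (by rintro rfl; simp at hk),
      Finsupp.add_apply, Nat.factorization_eq_zero_of_not_dvd hk]
    rw [show (15 : ℕ).factorization 3 = 1 by
      rw [show 15 = 3 * 5 from rfl, Nat.factorization_mul (by norm_num) (by norm_num),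
        Finsupp.add_apply, Nat.Prime.factorization_self (by norm_num),
        Nat.factorization_eq_zero_of_not_dvd (by norm_num)]]
    rfl)
  have hm := Basic.card_normalizer_mul W
  have hmod := card_sylow_modEq_one 3 N
  rw [Nat.ModEq] at hmod
  have heq : (normalizer ((W : Subgroup N) : Set N)).map N.subtype =
      N ⊓ normalizer (zpowers w : Set G) := by
    ext g
    constructor
    · rintro ⟨⟨g, hg⟩, hgn, rfl⟩
      refine ⟨hg, mem_normalizer_iff.2 fun u => ?_⟩
      have hmap : zpowers w = (zpowers (⟨w, hwN⟩ : N)).map N.subtype := by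
        rw [MonoidHom.map_zpowers]; rfl
      rw [SetLike.mem_coe, mem_normalizer_iff] at hgn
      constructor
      · intro hu
        rw [hmap] at hu ⊢
        obtain ⟨v, hv, rfl⟩ := hu
        exact ⟨_, (hgn v).1 hv, rfl⟩
      · intro hu
        rw [hmap] at hu ⊢
        obtain ⟨v, hv, hv'⟩ := hu
        refine ⟨⟨g, hg⟩⁻¹ * v * ⟨g, hg⟩, (hgn _).2 ?_, ?_⟩
        · simpa [mul_assoc] using (show v ∈ (W : Subgroup N) from hv)
        · simp only [Subgroup.coe_subtype] at hv'
          simp only [map_mul, map_inv, Subgroup.coe_subtype]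
          rw [hv']; group
    · rintro ⟨hg, hgn⟩
      refine ⟨⟨g, hg⟩, mem_normalizer_iff.2 fun v => ?_, rfl⟩
      have hmem : ∀ v : N, v ∈ (W : Subgroup N) ↔ (v : G) ∈ zpowers w := by
        intro v
        show v ∈ zpowers (⟨w, hwN⟩ : N) ↔ _
        rw [mem_zpowers_iff, mem_zpowers_iff]
        simp only [Subtype.ext_iff, Subgroup.coe_zpow]
      rw [hmem, hmem]
      exact mem_normalizer_iff.1 hgn v
  have hc : Nat.card ↥(N ⊓ normalizer (zpowers w : Set G)) =
      Nat.card (normalizer ((W : Subgroup N) : Set N)) := by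
    rw [← heq, card_map_of_injective N.subtype_injective]
  have h3 : 3 ∣ Nat.card ↥(N ⊓ normalizer (zpowers w : Set G)) := by
    rw [← hw, ← Nat.card_zpowers]
    exact card_dvd_of_le (le_inf (zpowers_le.2 hwN) le_normalizer)
  have h5 : 5 ∣ Nat.card ↥(N ⊓ normalizer (zpowers w : Set G)) := by
    rw [← hx, ← Nat.card_zpowers]
    refine card_dvd_of_le (zpowers_le.2 (Subgroup.mem_inf.2 ⟨hxN, centralizer_le_normalizer _ ?_⟩))
    refine mem_centralizer_iff.2 fun v hv => ?_
    obtain ⟨i, rfl⟩ := mem_zpowers_iff.1 hv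
    exact (hwx.zpow_left i).eq
  obtain ⟨d, hd⟩ := (Nat.Coprime.mul_dvd_of_dvd_of_dvd (by norm_num) h3 h5 :
    3 * 5 ∣ Nat.card ↥(N ⊓ normalizer (zpowers w : Set G)))
  refine ⟨Nat.card (Sylow 3 N), d, hmod, ?_, hd⟩
  rw [← hc, hd, hN] at hm
  nlinarith

/-- There are not 21 Sylow 5-subgroups. -/
theorem n5_ne_21 [Fact (Nat.Prime 5)] [Fact (Nat.Prime 3)] [Fact (Nat.Prime 2)] :
    Nat.card (Sylow 5 G) ≠ 21 := by
  intro h21
  classical
  have hG := notComm h
  have P : Sylow 5 G := default
  have hP := card_five h P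
  have hN := normalizer_mul h P
  rw [h21] at hN
  obtain ⟨e, he, he1, hNe, h5C⟩ := Centralize.centralizer_data hG P hP
  set C := centralizer ((P : Subgroup G) : Set G) with hCdef
  set N := normalizer ((P : Subgroup G) : Set G) with hNdef
  have hN120 : Nat.card N = 120 := by omega
  have he4 : e ≤ 4 := Nat.le_of_dvd (by norm_num) he
  have hC : (e = 2 ∧ Nat.card C = 60) ∨ (e = 4 ∧ Nat.card C = 30) := by
    interval_cases e <;> omega
  have hCN : C ≤ N := centralizer_le_normalizer _
  obtain ⟨x, hx, hx1, hxo⟩ := exists_gen hP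
  haveI : IsCyclic (P : Subgroup G) := isCyclic_of_prime_card hP
  have hxC : x ∈ C := le_centralizer (P : Subgroup G) hx
  have hinv : ∀ u ∈ C, orderOf u = 2 → Nat.card {Q : Sylow 5 G // u • Q = Q} = 1 := by
    intro u hu huo
    have h1 := fixed_mod_five h P hu
    have h4 := four_dvd_card_sub h (α := Sylow 5 G) huo
    have hlt := not_fix_all h (g := u) (fun e => by rw [e, orderOf_one] at huo; norm_num at huo)
    rw [h21] at h4 hlt
    omega
  obtain ⟨w', hw'⟩ := exists_prime_orderOf_dvd_card' (G := C) 3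
    (by rcases hC with ⟨-, e⟩ | ⟨-, e⟩ <;> rw [e] <;> norm_num)
  set w : G := (w' : G)
  have hw : orderOf w = 3 := by rw [orderOf_coe]; exact hw'
  have hwC : w ∈ C := w'.2
  have hFw : Nat.card {Q : Sylow 5 G // w • Q = Q} = 6 := by
    have h1 := fixed_mod_five h P hwC
    have h3 := fixed_mod_univ (α := Sylow 5 G) (hw ▸ pow_orderOf_eq_one w : w ^ 3 = 1)
    have hlt := not_fix_all h (g := w) (fun e => by rw [e, orderOf_one] at hw; norm_num at hw)
    rw [h21] at h3 hlt
    omega
  have hwx : Commute w x := (mem_centralizer_iff.1 hwC x hx).symm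
  have hout : ∀ s ∈ N, s ∈ normalizer (zpowers w : Set G) → orderOf s = 2 →
      s ∉ C ∧ 2 ≤ Nat.card {Q : Sylow 5 G // s • Q = Q} := by
    intro s hsN hsw hso
    have hs2 : s ^ 2 = 1 := hso ▸ pow_orderOf_eq_one s
    have hst : ∀ Q ∈ {Q : Sylow 5 G | w • Q = Q}, s • Q ∈ {Q : Sylow 5 G | w • Q = Q} := by
      intro Q hQ
      have hc : s⁻¹ * w * s ∈ zpowers w := by
        simpa using (mem_normalizer_iff.1 ((normalizer _).inv_mem hsw) w).1 (mem_zpowers w)
      obtain ⟨i, hi⟩ := mem_zpowers_iff.1 hc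
      show w • s • Q = s • Q
      rw [← mul_smul, show w * s = s * (s⁻¹ * w * s) by group, mul_smul, ← hi]
      congr 1
      exact (stabilizer G Q).zpow_mem (show w ∈ stabilizer G Q from hQ) i
    have h2 := fixed_mod hs2 _ hst
    rw [show Nat.card ({Q : Sylow 5 G | w • Q = Q} : Set (Sylow 5 G)) =
      Nat.card {Q : Sylow 5 G // w • Q = Q} from rfl, hFw] at h2
    have hpos : 0 < Nat.card {a : Sylow 5 G // a ∈ {Q : Sylow 5 G | w • Q = Q} ∧ s • a = a} := by
      haveI : Nonempty {a : Sylow 5 G // a ∈ {Q : Sylow 5 G | w • Q = Q} ∧ s • a = a} :=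
        ⟨⟨P, Sylow.smul_eq_iff_mem_normalizer.2 (hCN hwC), Sylow.smul_eq_iff_mem_normalizer.2 hsN⟩⟩
      exact Nat.card_pos
    have hle : Nat.card {a : Sylow 5 G // a ∈ {Q : Sylow 5 G | w • Q = Q} ∧ s • a = a} ≤
        Nat.card {Q : Sylow 5 G // s • Q = Q} :=
      Nat.card_le_card_of_injective (fun a => ⟨a.1, a.2.2⟩)
        fun a b e => Subtype.ext (congrArg (fun q => q.1) e)
    refine ⟨fun hsC => ?_, by omega⟩
    have := hinv s hsC hso
    omega
  have hC60 : e = 2 ∧ Nat.card C = 60 := by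
    refine hC.resolve_right fun hh => ?_
    have hC30 := hh.2
    obtain ⟨n, d, hn, hnd, hcd⟩ := normalizer_three h (k := 2) hwC hw hxC hxo hwx
      (by rw [hC30]) (by norm_num)
    have hnle : n ≤ 2 := Nat.le_of_dvd (by norm_num) ⟨d, hnd.symm⟩
    obtain rfl : n = 1 := by omega
    obtain ⟨s, hs⟩ := exists_prime_orderOf_dvd_card' (G := ↥(C ⊓ normalizer (zpowers w : Set G))) 2
      (by rw [hcd]; omega)
    exact (hout s (hCN s.2.1) s.2.2 (by rw [orderOf_coe]; exact hs)).1 s.2.1
  obtain ⟨n, d, hn, hnd, hcd⟩ := normalizer_three h (k := 8) (hCN hwC) hw (hCN hxC) hxo hwx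
    (by rw [hN120]) (by norm_num)
  have hnle : n ≤ 8 := Nat.le_of_dvd (by norm_num) ⟨d, hnd.symm⟩
  have hd2 : 2 ∣ 15 * d := by
    interval_cases n <;> omega
  obtain ⟨s, hs⟩ := exists_prime_orderOf_dvd_card' (G := ↥(N ⊓ normalizer (zpowers w : Set G))) 2
    (by rw [hcd]; exact hd2)
  have hso : orderOf (s : G) = 2 := by rw [orderOf_coe]; exact hs
  obtain ⟨hsC, hs2⟩ := hout s s.2.1 s.2.2 hso
  -- a Sylow 2-subgroup of `G` inside `N` containing `s`
  obtain ⟨S', hS'⟩ := (IsPGroup.of_card (n := 1) (by rw [Nat.card_zpowers,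
    Subgroup.orderOf_mk, hso, pow_one]) :
    IsPGroup 2 (zpowers (⟨s, s.2.1⟩ : N))).exists_le_sylow
  have hS'c : Nat.card (S' : Subgroup N) = 8 := by
    simpa using Basic.card_sylow_eq_pow (a := 3) (m := 15) (by rw [hN120]; norm_num) (by norm_num) S'
  have hMc : Nat.card ((S' : Subgroup N).map N.subtype) = 8 := by
    rw [card_map_of_injective N.subtype_injective, hS'c]
  let S : Sylow 2 G := Sylow.ofCard ((S' : Subgroup N).map N.subtype) (by
    rw [hMc]
    have := Basic.card_sylow_eq (p := 2) (default : Sylow 2 G)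
    rw [card_two h] at this
    exact this)
  have hsS : (s : G) ∈ (S : Subgroup G) := ⟨⟨s, s.2.1⟩, hS' (mem_zpowers _), rfl⟩
  have hSN : (S : Subgroup G) ≤ N := map_subtype_le _
  have hidx : (C.subgroupOf N).index = 2 := by
    have := card_mul_index (C.subgroupOf N)
    rw [Nat.card_congr (subgroupOfEquivOfLe hCN).toEquiv, hC60.2, hN120] at this
    omega
  have hrel : (C ⊓ (S : Subgroup G)).relIndex S = 2 := by
    rw [inf_relIndex_right, relIndex_eq_two_iff]
    refine ⟨s, hsS, fun b hb => ?_⟩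
    have := mul_mem_iff_of_index_two hidx (a := ⟨b, hSN hb⟩) (b := ⟨s, s.2.1⟩)
    simp only [mem_subgroupOf, Subgroup.coe_mul, hsC, iff_false] at this
    by_cases hbC : b ∈ C
    · exact Or.inr ⟨hbC, fun hh => this.1 hh hbC⟩
    · exact Or.inl ⟨this.2 hbC, hbC⟩
  obtain ⟨g, hg⟩ := Involutions.ThompsonTransfer.exists_conj_mem (no_index_two h) S _ inf_le_right
    hrel s hso
  have h1 := hinv _ hg.1 (by
    rw [← hso]; exact orderOf_injective (MulAut.conj g).toMonoidHom (MulAut.conj g).injective _)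
  rw [← card_fixed_conj (isConj_iff.2 ⟨g, rfl⟩)] at h1
  omega

theorem n5 [Fact (Nat.Prime 7)] [Fact (Nat.Prime 5)] [Fact (Nat.Prime 3)] [Fact (Nat.Prime 2)] :
    Nat.card (Sylow 5 G) = 126 :=
  ((n5_cases h).resolve_left (n5_ne_21 h)).resolve_left (n5_ne_36 h)

/-- A Sylow 5-subgroup is self-centralizing and its normalizer has order 20. -/
theorem cent_five [Fact (Nat.Prime 7)] [Fact (Nat.Prime 5)] [Fact (Nat.Prime 3)] [Fact (Nat.Prime 2)]
    (P : Sylow 5 G) : Nat.card (centralizer ((P : Subgroup G) : Set G)) = 5 ∧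
      Nat.card (normalizer ((P : Subgroup G) : Set G)) = 20 := by
  classical
  have hG := notComm h
  have hP := card_five h P
  have hN := normalizer_mul h P
  rw [n5 h] at hN
  refine ⟨?_, by omega⟩
  obtain ⟨e, he, he1, hNe, h5C⟩ := Centralize.centralizer_data hG P hP
  have he4 : e ≤ 4 := Nat.le_of_dvd (by norm_num) he
  rw [hNe] at hN
  by_contra hne
  have hC10 : Nat.card (centralizer ((P : Subgroup G) : Set G)) = 10 := by
    interval_cases e <;> omega
  set C := centralizer ((P : Subgroup G) : Set G) with hCdef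
  obtain ⟨x, hx, hx1, hxo⟩ := exists_gen hP
  haveI : IsCyclic (P : Subgroup G) := isCyclic_of_prime_card hP
  obtain ⟨t', ht'⟩ := exists_prime_orderOf_dvd_card' (G := C) 2 (by rw [hC10]; norm_num)
  set t : G := (t' : G)
  have ht : orderOf t = 2 := by rw [orderOf_coe]; exact ht'
  have hxt : Commute x t := mem_centralizer_iff.1 t'.2 x hx
  have hco : orderOf (x * t) = 10 := by
    rw [hxt.orderOf_mul_eq_mul_orderOf_of_coprime (by rw [hxo, ht]; norm_num), hxo, ht]
  have hCz : C = zpowers (x * t) :=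
    (eq_of_le_of_card_ge (zpowers_le.2 (C.mul_mem (le_centralizer (P : Subgroup G) hx) t'.2))
      (by rw [hC10, Nat.card_zpowers, hco])).symm
  have huniq : ∀ u ∈ C, orderOf u = 2 → u = t := by
    intro u hu huo
    rw [hCz] at hu
    haveI := Fintype.ofFinite (zpowers (x * t))
    have htz : t ∈ zpowers (x * t) := hCz ▸ t'.2
    by_contra hut
    have hle := IsCyclic.card_pow_eq_one_le (α := zpowers (x * t)) (n := 2) (by norm_num)
    have h3 : ({1, ⟨u, hu⟩, ⟨t, htz⟩} : Finset (zpowers (x * t))).card = 3 := by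
      have h1u : u ≠ 1 := fun e => by rw [e, orderOf_one] at huo; norm_num at huo
      have h1t : t ≠ 1 := fun e => by rw [e, orderOf_one] at ht; norm_num at ht
      rw [Finset.card_insert_of_notMem (by simp [Subtype.ext_iff, Ne.symm h1u, Ne.symm h1t]),
        Finset.card_insert_of_notMem (by simp [Subtype.ext_iff, hut]), Finset.card_singleton]
    have hsub : ({1, ⟨u, hu⟩, ⟨t, htz⟩} : Finset (zpowers (x * t))) ⊆
        Finset.univ.filter (fun a => a ^ 2 = 1) := by
      intro a ha
      simp only [Finset.mem_insert, Finset.mem_singleton] at ha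
      rcases ha with rfl | rfl | rfl <;> simp only [Finset.mem_filter, Finset.mem_univ, true_and]
      · simp
      · exact Subtype.ext (huo ▸ pow_orderOf_eq_one u)
      · exact Subtype.ext (ht ▸ pow_orderOf_eq_one t)
    have := Finset.card_le_card hsub
    omega
  have hNt : normalizer ((P : Subgroup G) : Set G) ≤ centralizer ({t} : Set G) := by
    intro g hg
    have hgt : g * t * g⁻¹ ∈ C := mem_centralizer_iff.2 fun y hy => by
      have hy' : g⁻¹ * y * g ∈ (P : Subgroup G) := by
        simpa using (mem_normalizer_iff.1 ((normalizer _).inv_mem hg) y).1 hy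
      have e := mem_centralizer_iff.1 t'.2 _ hy'
      calc y * (g * t * g⁻¹) = g * ((g⁻¹ * y * g) * t) * g⁻¹ := by group
        _ = g * (t * (g⁻¹ * y * g)) * g⁻¹ := by rw [e]
        _ = g * t * g⁻¹ * y := by group
    have := huniq _ hgt (by
      rw [← ht]; exact orderOf_injective (MulAut.conj g).toMonoidHom (MulAut.conj g).injective t)
    exact mem_centralizer_singleton_iff.2 (mul_inv_eq_iff_eq_mul.1 this)
  set D := centralizer ({t} : Set G) with hD
  have hN20 : Nat.card (normalizer ((P : Subgroup G) : Set G)) = 20 := by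
    rw [hNe]
    interval_cases e <;> omega
  have h8 := eight_dvd h ht
  have h7 : ¬ 7 ∣ Nat.card D := not_seven_dvd h (fun e => by rw [e, orderOf_one] at ht; norm_num at ht)
    (by rw [ht]; norm_num)
  have hDdvd : Nat.card D ∣ 2520 := h ▸ card_subgroup_dvd_card D
  have hm := card_inf_mul (normalizer ((P : Subgroup G) : Set G)) D
  rw [inf_eq_right.2 hNt, hN20] at hm
  have hmod := FixedPoints.relIndex_normalizer_mod P (H := D) (le_normalizer.trans hNt)
  have hD120 : Nat.card D = 120 := by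
    set r := (normalizer ((P : Subgroup G) : Set G)).relIndex D
    have hr126 : r ≤ 126 := by
      have := Nat.le_of_dvd (by norm_num) hDdvd
      omega
    have key : ∀ r < 127, r % 5 = 1 → 20 * r ∣ 2520 → ¬ 7 ∣ 20 * r → 8 ∣ 20 * r → r = 6 := by
      decide +kernel
    rw [← hm] at hDdvd h7 h8
    have := key r (by omega) hmod hDdvd h7 h8
    omega
  have h21 : Nat.card (G ⧸ D) = 21 := by
    have := card_mul_index D
    rw [hD120, h] at this
    show D.index = 21
    omega
  -- `t` is isolated in its centraliser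
  have hDtop : D ≠ ⊤ := fun e => by rw [e, card_top, h] at hD120; norm_num at hD120
  have hfix : Nat.card {a : G ⧸ D // t • a = a} = 1 := by
    have hxs : ∀ a ∈ {a : G ⧸ D | t • a = a}, x • a ∈ {a : G ⧸ D | t • a = a} := fun a ha => by
      show t • x • a = x • a
      rw [← mul_smul, hxt.symm.eq, mul_smul, (show t • a = a from ha)]
    have hmod5 := fixed_mod (hxo ▸ pow_orderOf_eq_one x : x ^ 5 = 1) _ hxs
    haveI : Subsingleton {a : G ⧸ D // a ∈ {a : G ⧸ D | t • a = a} ∧ x • a = a} := by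
      suffices h1 : ∀ a : G ⧸ D, x • a = a → a = QuotientGroup.mk 1 from
        ⟨fun a b => Subtype.ext ((h1 _ a.2.2).trans (h1 _ b.2.2).symm)⟩
      intro a ha
      obtain ⟨g, rfl⟩ := QuotientGroup.mk_surjective a
      rw [MulAction.Quotient.smul_coe, eq_comm, QuotientGroup.eq, smul_eq_mul] at ha
      have hgC : g * t * g⁻¹ ∈ C := by
        rw [hCdef, ← cent_eq hP hx hx1]
        refine mem_centralizer_singleton_iff.2 ?_
        have e := mem_centralizer_singleton_iff.1 ha
        calc g * t * g⁻¹ * x = g * (t * (g⁻¹ * (x * g))) * g⁻¹ := by group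
          _ = g * (g⁻¹ * (x * g) * t) * g⁻¹ := by rw [e]
          _ = x * (g * t * g⁻¹) := by group
      have := huniq _ hgC (by
        rw [← ht]; exact orderOf_injective (MulAut.conj g).toMonoidHom (MulAut.conj g).injective t)
      rw [QuotientGroup.eq, mul_one]
      exact D.inv_mem (mem_centralizer_singleton_iff.2 (mul_inv_eq_iff_eq_mul.1 this))
    have hmem1 : t • (QuotientGroup.mk 1 : G ⧸ D) = QuotientGroup.mk 1 := by
      rw [MulAction.Quotient.smul_coe, eq_comm, QuotientGroup.eq]
      simp only [inv_one, one_mul, smul_eq_mul, mul_one]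
      exact mem_centralizer_singleton_iff.2 rfl
    have hmemx : x • (QuotientGroup.mk 1 : G ⧸ D) = QuotientGroup.mk 1 := by
      rw [MulAction.Quotient.smul_coe, eq_comm, QuotientGroup.eq]
      simp only [inv_one, one_mul, smul_eq_mul, mul_one]
      exact mem_centralizer_singleton_iff.2 hxt.eq
    haveI : Nonempty {a : G ⧸ D // a ∈ {a : G ⧸ D | t • a = a} ∧ x • a = a} :=
      ⟨⟨_, hmem1, hmemx⟩⟩
    rw [Nat.card_eq_one_iff_unique.2 ⟨inferInstance, inferInstance⟩] at hmod5
    change 1 % 5 = Nat.card {a : G ⧸ D // t • a = a} % 5 at hmod5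
    have h4 := four_dvd_card_sub h (α := G ⧸ D) ht
    have hle : Nat.card {a : G ⧸ D // t • a = a} ≤ Nat.card (G ⧸ D) :=
      Nat.card_le_card_of_injective _ Subtype.val_injective
    have hne : Nat.card {a : G ⧸ D // t • a = a} ≠ Nat.card (G ⧸ D) := by
      intro he
      have hb := (Nat.bijective_iff_injective_and_card (Subtype.val :
        {a : G ⧸ D // t • a = a} → G ⧸ D)).2 ⟨Subtype.val_injective, he⟩
      have h1 : toPermHom G (G ⧸ D) t = 1 := Equiv.ext fun a => by
        obtain ⟨a', rfl⟩ := hb.2 a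
        exact a'.2
      rw [← map_one (toPermHom G (G ⧸ D))] at h1
      rw [Basic.toPermHom_injective D hDtop h1, orderOf_one] at ht
      norm_num at ht
    rw [h21] at h4 hle hne
    omega
  have hiso : ∀ u, IsConj t u → u ∈ D → u = t := by
    have hm' := SixteenFour.fixed_mul D t
    have hcl := Basic.card_centralizer_mul_card_class t
    rw [hfix, one_mul] at hm'
    rw [← hD, hD120, h] at hcl
    have hidx : D.index = 21 := h21
    rw [hidx, show Nat.card {g : G // IsConj t g} = 21 by omega] at hm'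
    have h1 : Nat.card {g : G // IsConj t g ∧ g ∈ D} = 1 := by omega
    obtain ⟨⟨a, ha⟩, hua⟩ := Nat.card_eq_one_iff_exists.1 h1
    intro u hu huD
    have e1 := hua ⟨u, hu, huD⟩
    have e2 := hua ⟨t, IsConj.refl t, mem_centralizer_singleton_iff.2 rfl⟩
    exact congrArg Subtype.val (e1.trans e2.symm)
  obtain ⟨S', hS'⟩ := (IsPGroup.of_card (n := 1) (by rw [Nat.card_zpowers,
    Subgroup.orderOf_mk, ht, pow_one]) :
    IsPGroup 2 (zpowers (⟨t, mem_centralizer_singleton_iff.2 rfl⟩ : D))).exists_le_sylow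
  have hMc : Nat.card ((S' : Subgroup D).map D.subtype) = 8 := by
    rw [card_map_of_injective D.subtype_injective]
    simpa using Basic.card_sylow_eq_pow (a := 3) (m := 15) (by rw [hD120]; norm_num) (by norm_num) S'
  let S : Sylow 2 G := Sylow.ofCard ((S' : Subgroup D).map D.subtype) (by
    rw [hMc]
    have := Basic.card_sylow_eq (p := 2) (default : Sylow 2 G)
    rw [card_two h] at this
    exact this)
  have htS : t ∈ (S : Subgroup G) := ⟨_, hS' (mem_zpowers _), rfl⟩
  have hSD : (S : Subgroup G) ≤ D := map_subtype_le _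
  have hM : ∀ M : Subgroup G, M ≤ S → Nat.card M = 4 → t ∈ M := by
    intro M hMS hM4
    have hr : M.relIndex S = 2 := by
      have hm := relIndex_mul_relIndex ⊥ M (S : Subgroup G) bot_le hMS
      rw [relIndex_bot_left, relIndex_bot_left, hM4, card_two h S] at hm
      omega
    obtain ⟨g, hg⟩ := Involutions.ThompsonTransfer.exists_conj_mem (no_index_two h) S M hMS hr t ht
    rwa [hiso _ (isConj_iff.2 ⟨g, rfl⟩) (hSD (hMS hg))] at hg
  by_cases hy : ∃ y ∈ (S : Subgroup G), orderOf y = 4
  · obtain ⟨y, hyS, hy⟩ := hy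
    obtain ⟨i, hi⟩ := mem_zpowers_iff.1 (hM (zpowers y) (zpowers_le.2 hyS) (by
      rw [Nat.card_zpowers, hy]))
    have hty : y ^ 2 = t := by
      have h2 : (4 : ℤ) ∣ i * 2 := by
        show ((4 : ℕ) : ℤ) ∣ _
        rw [← hy, orderOf_dvd_iff_zpow_eq_one, zpow_mul, hi]
        exact_mod_cast (ht ▸ pow_orderOf_eq_one t : t ^ 2 = 1)
      have h4 : ¬ (4 : ℤ) ∣ i := fun h4 => by
        have : y ^ i = 1 := by
          rw [← orderOf_dvd_iff_zpow_eq_one, hy]
          exact_mod_cast h4
        rw [← hi, this, orderOf_one] at ht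
        norm_num at ht
      rw [← hi, ← zpow_natCast, zpow_eq_zpow_iff_modEq, hy, Int.modEq_iff_dvd]
      push_cast
      omega
    refine no_four_on_21 hG (α := G ⧸ D) h21 (hy ▸ pow_orderOf_eq_one y) ?_
    rw [hty]; exact hfix
  · push Not at hy
    have hexp : ∀ s ∈ (S : Subgroup G), s * s = 1 := by
      intro s hs
      have hdvd := orderOf_dvd_natCard (⟨s, hs⟩ : (S : Subgroup G))
      rw [Subgroup.orderOf_mk, card_two h S, show 8 = 2 ^ 3 from rfl] at hdvd
      obtain ⟨k, hk, hko⟩ := (Nat.dvd_prime_pow Nat.prime_two).1 hdvd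
      have hk1 : k ≤ 1 := by
        by_contra hlt
        refine hy (s ^ (2 ^ (k - 2))) (pow_mem hs _) ?_
        rw [orderOf_pow' _ (by positivity), hko]
        interval_cases k <;> decide
      rw [← pow_two, ← orderOf_dvd_iff_pow_eq_one, hko]
      exact pow_dvd_pow 2 hk1
    have hinvS : ∀ w ∈ (S : Subgroup G), w⁻¹ = w := fun w hw =>
      inv_eq_of_mul_eq_one_right (hexp w hw)
    obtain ⟨a, haS, ha⟩ : ∃ a ∈ (S : Subgroup G), a ∉ zpowers t := by
      refine Set.not_subset.1 fun hsub => ?_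
      have := card_le_of_le (K := zpowers t) (H := (S : Subgroup G)) hsub
      rw [card_two h S, Nat.card_zpowers, ht] at this
      omega
    have hcomm : ∀ u ∈ (S : Subgroup G), ∀ v ∈ (S : Subgroup G), u * v = v * u := fun u hu v hv => by
      calc u * v = (u * v)⁻¹ := (hinvS _ (mul_mem hu hv)).symm
        _ = v * u := by rw [mul_inv_rev, hinvS u hu, hinvS v hv]
    obtain ⟨T, hT, hTc⟩ := klein (hexp t htS) (hexp a haS) (hcomm t htS a haS)
    obtain ⟨b, hbS, hb⟩ : ∃ b ∈ (S : Subgroup G), b ∉ T := by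
      refine Set.not_subset.1 fun hsub => ?_
      have h1 := card_le_of_le (K := T) (H := (S : Subgroup G)) hsub
      have := hTc.1
      rw [card_two h S] at h1
      omega
    have h2 := hexp a haS
    have h3 := hexp b hbS
    have hab := hcomm a haS b hbS
    obtain ⟨M, hMm, hMcard⟩ := klein h2 h3 hab
    have hb' : b ≠ 1 ∧ b ≠ t ∧ b ≠ a ∧ b ≠ t * a := by
      refine ⟨?_, ?_, ?_, ?_⟩ <;> intro e <;> apply hb <;> rw [hT, e]
      · exact Or.inl rfl
      · exact Or.inr (Or.inl rfl)
      · exact Or.inr (Or.inr (Or.inl rfl))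
      · exact Or.inr (Or.inr (Or.inr rfl))
    have ha1 : a ≠ 1 := fun e => ha (e ▸ one_mem _)
    have hat : a ≠ t := fun e => ha (e ▸ mem_zpowers t)
    have ht1 : t ≠ 1 := fun e => by rw [e, orderOf_one] at ht; norm_num at ht
    have htM : t ∉ M := by
      rw [hMm]
      rintro (e | e | e | e)
      · exact ht1 e
      · exact hat e.symm
      · exact hb'.2.1 e.symm
      · refine hb'.2.2.2 ?_
        rw [e, mul_assoc, ← hab, ← mul_assoc, h2, one_mul]
    refine htM (hM M ?_ ?_)
    · intro g hg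
      rcases (hMm g).1 hg with rfl | rfl | rfl | rfl
      · exact one_mem _
      · exact haS
      · exact hbS
      · exact mul_mem haS hbS
    · refine le_antisymm hMcard.1 (hMcard.2 ha1 hb'.1 (Ne.symm hb'.2.2.1))

end Cfsg.Agent.SmallSimple.Order2520
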