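import Cfsg.Agent.Lib.SmallSimple.Order2520.Five

/-!
# The Frobenius group of order 20 and the conjugacy of involutions
-/

set_option autoImplicit false
set_option linter.style.haveILetI false
set_option linter.unusedSectionVars false

namespace Cfsg.Agent.SmallSimple.Order2520

open Subgroup MulAction

variable {G : Type*} [Group G]

/-- The elements mapping `x` to `x` or `x⁻¹`. -/
def Dih (x : G) : Subgroup G where
  carrier := {g | g * x * g⁻¹ = x ∨ g * x * g⁻¹ = x⁻¹}
  one_mem' := Or.inl (by group)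
  mul_mem' := by
    intro a b ha hb
    simp only [Set.mem_ofPred_eq] at ha hb ⊢
    have e : a * b * x * (a * b)⁻¹ = a * (b * x * b⁻¹) * a⁻¹ := by group
    have e2 : a * x⁻¹ * a⁻¹ = (a * x * a⁻¹)⁻¹ := by group
    rcases hb with hb | hb <;> rw [e, hb]
    · exact ha
    · rw [e2]
      rcases ha with ha | ha <;> rw [ha]
      · exact Or.inr rfl
      · exact Or.inl (inv_inv x)
  inv_mem' := by
    intro a ha
    simp only [Set.mem_ofPred_eq] at ha ⊢
    rcases ha with ha | ha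
    · exact Or.inl (by rw [inv_inv]; conv_lhs => rw [← ha]
                       group)
    · refine Or.inr ?_
      have h2 : a * x⁻¹ * a⁻¹ = x := by
        calc a * x⁻¹ * a⁻¹ = (a * x * a⁻¹)⁻¹ := by group
          _ = x := by rw [ha, inv_inv]
      rw [inv_inv]
      calc a⁻¹ * x * a = a⁻¹ * (a * x⁻¹ * a⁻¹) * a := by rw [h2]
        _ = x⁻¹ := by group

theorem mem_dih {x g : G} : g ∈ Dih x ↔ g * x * g⁻¹ = x ∨ g * x * g⁻¹ = x⁻¹ := Iff.rfl

variable [Finite G] [IsSimpleGroup G] (h : Nat.card G = 2520)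
  [Fact (Nat.Prime 7)] [Fact (Nat.Prime 5)] [Fact (Nat.Prime 3)] [Fact (Nat.Prime 2)]
include h

theorem card_cent_five {x : G} (hx : orderOf x = 5) : Nat.card (centralizer ({x} : Set G)) = 5 := by
  obtain ⟨P, hxP, hx1⟩ := exists_sylow (card_five h) hx
  rw [cent_eq (card_five h P) hxP hx1]
  exact (cent_five h P).1

theorem cent_five_eq {x : G} (hx : orderOf x = 5) : centralizer ({x} : Set G) = zpowers x :=
  (eq_of_le_of_card_ge (zpowers_le.2 (mem_centralizer_singleton_iff.2 rfl))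
    (by rw [card_cent_five h hx, Nat.card_zpowers, hx])).symm

/-- An element normalizing `⟨x⟩` and of order two inverts `x`. -/
theorem inverts {x u : G} (hx : orderOf x = 5) (hu : orderOf u = 2)
    (hN : u ∈ normalizer (zpowers x : Set G)) : u * x * u⁻¹ = x⁻¹ := by
  obtain ⟨k, hk⟩ := mem_zpowers_iff.1 ((mem_normalizer_iff.1 hN x).1 (mem_zpowers x))
  have hu2 : u * u = 1 := by rw [← pow_two, ← hu, pow_orderOf_eq_one]
  have h2 : x ^ (k * k) = x := by
    have h3 : u * x ^ k * u⁻¹ = x ^ (k * k) := by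
      rw [← conj_zpow, ← hk, ← zpow_mul]
    rw [← h3, hk]
    calc u * (u * x * u⁻¹) * u⁻¹ = (u * u) * x * (u * u)⁻¹ := by group
      _ = x := by rw [hu2]; group
  have h5 : (5 : ℤ) ∣ k * k - 1 := by
    show ((5 : ℕ) : ℤ) ∣ _
    rw [← hx, orderOf_dvd_iff_zpow_eq_one, zpow_sub, h2, zpow_one, mul_inv_cancel]
  have hk1 : (5 : ℤ) ∣ k + 1 := by
    have : (5 : ℤ) ∣ (k - 1) * (k + 1) := by
      rw [show (k - 1) * (k + 1) = k * k - 1 by ring]; exact h5
    rcases Int.Prime.dvd_mul' (by norm_num : Nat.Prime 5) this with h1 | h1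
    · exfalso
      have : x ^ k = x := by
        have := orderOf_dvd_iff_zpow_eq_one.1 (show (orderOf x : ℤ) ∣ k - 1 by rw [hx]; exact_mod_cast h1)
        rwa [zpow_sub, zpow_one, mul_inv_eq_one] at this
      rw [hk] at this
      have huC : u ∈ centralizer ({x} : Set G) :=
        mem_centralizer_singleton_iff.2 (mul_inv_eq_iff_eq_mul.1 this)
      have hd := orderOf_dvd_natCard (⟨u, huC⟩ : centralizer ({x} : Set G))
      rw [Subgroup.orderOf_mk, card_cent_five h hx, hu] at hd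
      norm_num at hd
    · exact_mod_cast h1
  have := orderOf_dvd_iff_zpow_eq_one.1 (show (orderOf x : ℤ) ∣ k + 1 by rw [hx]; exact_mod_cast hk1)
  rw [zpow_add, zpow_one, hk, mul_eq_one_iff_eq_inv] at this
  exact this

/-- An element of order five inverted by the square of an element of order four. -/
theorem exists_setup : ∃ x y : G, orderOf x = 5 ∧ orderOf y = 4 ∧
    y ∈ normalizer (zpowers x : Set G) := by
  classical
  have P : Sylow 5 G := default
  obtain ⟨x, hxP, hx1, hx⟩ := exists_gen (card_five h P)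
  have hz : zpowers x = (P : Subgroup G) := Centralize.sylow_le_iff_mem hxP hx1 (card_five h P)
  set N := normalizer (zpowers x : Set G) with hN
  have hN20 : Nat.card N = 20 := by rw [hN, hz]; exact (cent_five h P).2
  have T : Sylow 2 N := default
  have hT : Nat.card (T : Subgroup N) = 4 := by
    simpa using Basic.card_sylow_eq_pow (a := 2) (m := 5) (by rw [hN20]; norm_num) (by norm_num) T
  by_cases h4 : ∃ y ∈ (T : Subgroup N), orderOf y = 4
  · obtain ⟨y, -, hy⟩ := h4
    exact ⟨x, y, hx, by rw [orderOf_coe]; exact hy, y.2⟩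
  · exfalso
    push Not at h4
    have hord : ∀ y ∈ (T : Subgroup N), y ≠ 1 → orderOf y = 2 := by
      intro y hy hy1
      have hd := orderOf_dvd_natCard (⟨y, hy⟩ : (T : Subgroup N))
      rw [Subgroup.orderOf_mk, hT, show 4 = 2 ^ 2 from rfl] at hd
      obtain ⟨k, hk, hko⟩ := (Nat.dvd_prime_pow Nat.prime_two).1 hd
      interval_cases k
      · exact absurd (orderOf_eq_one_iff.1 (by simpa using hko)) hy1
      · simpa using hko
      · exact absurd (by simpa using hko) (h4 y hy)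
    obtain ⟨a, haT, ha⟩ : ∃ a ∈ (T : Subgroup N), a ≠ 1 := by
      by_contra hne
      push Not at hne
      have : (T : Subgroup N) ≤ ⊥ := fun g hg => mem_bot.2 (hne g hg)
      rw [le_bot_iff.1 this, card_bot] at hT
      omega
    obtain ⟨b, hbT, hb⟩ : ∃ b ∈ (T : Subgroup N), b ∉ zpowers a := by
      refine Set.not_subset.1 fun hsub => ?_
      have := card_le_of_le (K := zpowers a) (H := (T : Subgroup N)) hsub
      rw [hT, Nat.card_zpowers, hord a haT ha] at this
      omega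
    have hb1 : b ≠ 1 := fun e => hb (e ▸ one_mem _)
    have hab : a * b ≠ 1 := fun e => hb (by
      rw [eq_inv_of_mul_eq_one_right e]; exact inv_mem (mem_zpowers a))
    have ho : ∀ g ∈ (T : Subgroup N), g ≠ 1 → (g : G) * x * (g : G)⁻¹ = x⁻¹ := fun g hg hg1 =>
      inverts h hx (by rw [orderOf_coe]; exact hord g hg hg1) g.2
    have e1 := ho a haT ha
    have e2 := ho b hbT hb1
    have e3 := ho _ (mul_mem haT hbT) hab
    have hxx : (a : G) * x⁻¹ * (a : G)⁻¹ = x⁻¹ := by
      rw [← e2]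
      rw [show (a : G) * ((b : G) * x * (b : G)⁻¹) * (a : G)⁻¹ =
        ((a * b : N) : G) * x * ((a * b : N) : G)⁻¹ by push_cast; group, e3, e2]
    have : x = x⁻¹ := by
      calc x = (x⁻¹)⁻¹ := (inv_inv x).symm
        _ = ((a : G) * x⁻¹ * (a : G)⁻¹)⁻¹ := by rw [hxx]
        _ = (a : G) * x * (a : G)⁻¹ := by group
        _ = x⁻¹ := e1
    rw [eq_inv_iff_mul_eq_one, ← pow_two] at this
    have := orderOf_dvd_of_pow_eq_one this
    rw [hx] at this
    norm_num at this

variable {x y : G} (hx : orderOf x = 5) (hy : orderOf y = 4)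
  (hyN : y ∈ normalizer (zpowers x : Set G))

theorem card_normalizer_x {x : G} (hx : orderOf x = 5) :
    Nat.card (normalizer (zpowers x : Set G)) = 20 := by
  obtain ⟨P, hxP, hx1⟩ := exists_sylow (card_five h) hx
  rw [Centralize.sylow_le_iff_mem hxP hx1 (card_five h P)]
  exact (cent_five h P).2

theorem orderOf_sq {y : G} (hy : orderOf y = 4) : orderOf (y ^ 2) = 2 := by
  rw [orderOf_pow' _ (by norm_num), hy]
  rfl

theorem dih_le {x : G} : Dih x ≤ normalizer (zpowers x : Set G) := by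
  intro g hg
  have key : ∀ g ∈ Dih x, ∀ k ∈ zpowers x, g * k * g⁻¹ ∈ zpowers x := by
    intro g hg k hk
    obtain ⟨i, rfl⟩ := mem_zpowers_iff.1 hk
    rw [← conj_zpow]
    rcases mem_dih.1 hg with e | e <;> rw [e]
    · exact zpow_mem (mem_zpowers x) _
    · exact zpow_mem (inv_mem (mem_zpowers x)) _
  refine mem_normalizer_iff.2 fun k => ⟨key g hg k, fun hk => ?_⟩
  have := key g⁻¹ (inv_mem hg) _ hk
  simpa [mul_assoc] using this

theorem mem_dih_of_two {x u : G} (hx : orderOf x = 5) (hu : orderOf u = 2)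
    (hN : u ∈ normalizer (zpowers x : Set G)) : u ∈ Dih x :=
  mem_dih.2 (Or.inr (inverts h hx hu hN))

include hx hy hyN in
theorem t_inverts : y ^ 2 * x * (y ^ 2)⁻¹ = x⁻¹ :=
  inverts h hx (orderOf_sq h hy) (pow_mem hyN 2)

include hx hy hyN in
theorem t_mem_dih : y ^ 2 ∈ Dih x := mem_dih.2 (Or.inr (t_inverts h hx hy hyN))

include hx hy hyN in
/-- The elements of `Dih x` outside `⟨x⟩`. -/
theorem dih_cases {g : G} (hg : g ∈ Dih x) : g ∈ zpowers x ∨ y ^ 2 * g ∈ zpowers x := by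
  rw [← cent_five_eq h hx]
  rcases mem_dih.1 hg with e | e
  · exact Or.inl (mem_centralizer_singleton_iff.2 (mul_inv_eq_iff_eq_mul.1 e))
  · refine Or.inr (mem_centralizer_singleton_iff.2 (mul_inv_eq_iff_eq_mul.1 ?_))
    calc y ^ 2 * g * x * (y ^ 2 * g)⁻¹ = y ^ 2 * (g * x * g⁻¹) * (y ^ 2)⁻¹ := by group
      _ = (y ^ 2 * x * (y ^ 2)⁻¹)⁻¹ := by rw [e]; group
      _ = x := by rw [t_inverts h hx hy hyN, inv_inv]

include hx hy hyN in
theorem t_notMem : y ^ 2 ∉ zpowers x := by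
  intro hmem
  have := orderOf_dvd_natCard (⟨_, hmem⟩ : zpowers x)
  rw [Subgroup.orderOf_mk, Nat.card_zpowers, hx, orderOf_sq h hy] at this
  norm_num at this

include hx hy hyN in
theorem card_dih : Nat.card (Dih x) = 10 := by
  have hle : zpowers x ≤ Dih x := zpowers_le.2 (mem_dih.2 (Or.inl (by group)))
  have hr : (zpowers x).relIndex (Dih x) = 2 := by
    rw [relIndex_eq_two_iff]
    refine ⟨y ^ 2, t_mem_dih h hx hy hyN, fun b hb => ?_⟩
    have hconj : ∀ g : G, y ^ 2 * g ∈ zpowers x → g * y ^ 2 ∈ zpowers x := by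
      intro g hg
      have := (mem_normalizer_iff.1 (pow_mem hyN 2) (g * y ^ 2)).2
      refine this ?_
      rw [show y ^ 2 * (g * y ^ 2) * (y ^ 2)⁻¹ = y ^ 2 * g by group]
      exact hg
    by_cases hb' : b ∈ zpowers x
    · exact Or.inr ⟨hb', fun hmem => t_notMem h hx hy hyN
        (by simpa using mul_mem (inv_mem hb') hmem)⟩
    · exact Or.inl ⟨hconj _ ((dih_cases h hx hy hyN hb).resolve_left hb'), hb'⟩
  have := relIndex_mul_relIndex ⊥ _ _ bot_le hle
  rwa [relIndex_bot_left, relIndex_bot_left, Nat.card_zpowers, hx, hr, eq_comm] at this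

include hx hy hyN in
theorem order_two_of_tp {p : G} (hp : p ∈ zpowers x) : orderOf (y ^ 2 * p) = 2 := by
  obtain ⟨i, rfl⟩ := mem_zpowers_iff.1 hp
  refine orderOf_eq_prime ?_ fun e => t_notMem h hx hy hyN ?_
  · have e : y ^ 2 * x ^ i * (y ^ 2)⁻¹ = (x ^ i)⁻¹ := by
      rw [← conj_zpow, t_inverts h hx hy hyN, inv_zpow]
    have ht : (y ^ 2)⁻¹ = y ^ 2 := by
      rw [inv_eq_iff_mul_eq_one, ← pow_add, show 2 + 2 = orderOf y from hy.symm, pow_orderOf_eq_one]
    rw [pow_two (y ^ 2 * x ^ i), ← mul_assoc]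
    nth_rewrite 2 [← ht]
    rw [e, inv_mul_cancel]
  · rw [eq_inv_of_mul_eq_one_left e]
    exact inv_mem hp

include hx hy hyN in
/-- Conjugation inside `Dih x`. -/
theorem conj_tp {p : G} (hp : p ∈ zpowers x) : p ^ 2 * y ^ 2 * (p ^ 2)⁻¹ = y ^ 2 * p := by
  obtain ⟨i, rfl⟩ := mem_zpowers_iff.1 hp
  have e : y ^ 2 * (x ^ i) ^ 2 * (y ^ 2)⁻¹ = ((x ^ i) ^ 2)⁻¹ := by
    rw [← conj_pow, ← conj_zpow, t_inverts h hx hy hyN, inv_zpow, inv_pow]
  have h5 : (x ^ i) ^ 5 = 1 := by
    rw [← zpow_natCast, ← zpow_mul, mul_comm, zpow_mul, zpow_natCast, ← hx, pow_orderOf_eq_one,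
      one_zpow]
  calc (x ^ i) ^ 2 * y ^ 2 * ((x ^ i) ^ 2)⁻¹
      = (((x ^ i) ^ 2)⁻¹)⁻¹ * y ^ 2 * ((x ^ i) ^ 2)⁻¹ := by rw [inv_inv]
    _ = (y ^ 2 * (x ^ i) ^ 2 * (y ^ 2)⁻¹)⁻¹ * y ^ 2 * ((x ^ i) ^ 2)⁻¹ := by rw [e]
    _ = y ^ 2 * (((x ^ i) ^ 2)⁻¹ * ((x ^ i) ^ 2)⁻¹) := by group
    _ = y ^ 2 * x ^ i := by
      congr 1
      rw [← mul_inv_rev, ← pow_add, inv_eq_iff_mul_eq_one, ← pow_succ]
      exact h5

include hx hy hyN in
/-- The involutions of the normalizer of `⟨x⟩`. -/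
theorem card_invol_normalizer :
    Nat.card {u : G // orderOf u = 2 ∧ u ∈ normalizer (zpowers x : Set G)} = 5 := by
  rw [← hx, ← Nat.card_zpowers]
  symm
  refine Nat.card_congr
    { toFun := fun p => ⟨y ^ 2 * p, order_two_of_tp h hx hy hyN p.2,
        mul_mem (pow_mem hyN 2) (le_normalizer p.2)⟩
      invFun := fun u => ⟨(y ^ 2)⁻¹ * u.1, ?_⟩
      left_inv := fun p => Subtype.ext (inv_mul_cancel_left _ _)
      right_inv := fun u => Subtype.ext (mul_inv_cancel_left _ _) }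
  have hd := dih_cases h hx hy hyN (mem_dih_of_two h hx u.2.1 u.2.2)
  have ht : (y ^ 2)⁻¹ = y ^ 2 := by
    rw [inv_eq_iff_mul_eq_one, ← pow_add, show 2 + 2 = orderOf y from hy.symm, pow_orderOf_eq_one]
  rw [ht]
  refine hd.resolve_left fun hu => ?_
  have := orderOf_dvd_natCard (⟨_, hu⟩ : zpowers x)
  rw [Subgroup.orderOf_mk, Nat.card_zpowers, hx, u.2.1] at this
  norm_num at this

include hx hy hyN in
/-- Pairs of involutions in the conjugates of `Dih x` by `M`. -/
theorem pairs_le {M : Subgroup G} (hD : Dih x ≤ M) :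
    Nat.card M * 20 ≤ Nat.card ↥(M ⊓ normalizer (zpowers x : Set G)) *
      (Nat.card {r : G // ∃ m ∈ M, m * y ^ 2 * m⁻¹ = r} *
        (Nat.card {r : G // ∃ m ∈ M, m * y ^ 2 * m⁻¹ = r} - 1)) := by
  classical
  haveI := Fintype.ofFinite G
  let A : Finset (G × G × G) := Finset.univ.filter fun a =>
    a.1 ∈ M ∧ a.2.1 ∈ zpowers x ∧ a.2.2 ∈ zpowers x ∧ a.2.1 ≠ a.2.2
  let K : Finset G := Finset.univ.filter fun r => ∃ m ∈ M, m * y ^ 2 * m⁻¹ = r
  let f : G × G × G → G × G := fun a =>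
    (a.1 * (y ^ 2 * a.2.1) * a.1⁻¹, a.1 * (y ^ 2 * a.2.2) * a.1⁻¹)
  have hA : A.card = Nat.card M * 20 := by
    have : A = (Finset.univ.filter (· ∈ M)) ×ˢ ((Finset.univ.filter (· ∈ zpowers x)).offDiag) := by
      ext ⟨a, b, c⟩
      simp [A, Finset.mem_offDiag]
    rw [this, Finset.card_product, Finset.offDiag_card]
    have e : ∀ (H : Subgroup G), (Finset.univ.filter (· ∈ H)).card = Nat.card H := fun H => by
      rw [Nat.card_eq_fintype_card, Fintype.card_subtype]
    rw [e, e, Nat.card_zpowers, hx]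
  have hK : K.card = Nat.card {r : G // ∃ m ∈ M, m * y ^ 2 * m⁻¹ = r} := by
    rw [Nat.card_eq_fintype_card, Fintype.card_subtype]
  have himg : A.image f ⊆ K.offDiag := by
    intro q hq
    obtain ⟨⟨m, p, p'⟩, ha, rfl⟩ := Finset.mem_image.1 hq
    simp only [A, Finset.mem_filter, Finset.mem_univ, true_and] at ha
    obtain ⟨hm, hp, hp', hne⟩ := ha
    simp only [f, K, Finset.mem_offDiag, Finset.mem_filter, Finset.mem_univ, true_and]
    refine ⟨⟨m * p ^ 2, mul_mem hm (hD (mem_dih.2 (Or.inl ?_))), ?_⟩,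
      ⟨m * p' ^ 2, mul_mem hm (hD (mem_dih.2 (Or.inl ?_))), ?_⟩, fun e => hne ?_⟩
    · obtain ⟨i, rfl⟩ := mem_zpowers_iff.1 hp
      rw [← zpow_natCast, ← zpow_mul]; group
    · rw [← conj_tp h hx hy hyN hp]; group
    · obtain ⟨i, rfl⟩ := mem_zpowers_iff.1 hp'
      rw [← zpow_natCast, ← zpow_mul]; group
    · rw [← conj_tp h hx hy hyN hp']; group
    · exact mul_left_cancel (mul_left_cancel (mul_right_cancel e))
  have hfib : ∀ q ∈ A.image f, (A.filter fun a => f a = q).card ≤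
      Nat.card ↥(M ⊓ normalizer (zpowers x : Set G)) := by
    intro q hq
    obtain ⟨⟨m₀, p₀, p₀'⟩, ha₀, rfl⟩ := Finset.mem_image.1 hq
    simp only [A, Finset.mem_filter, Finset.mem_univ, true_and] at ha₀
    rw [← Nat.card_eq_finsetCard]
    refine Nat.card_le_card_of_injective
      (fun a => ⟨m₀⁻¹ * a.1.1, ?_⟩) fun a b e => ?_
    · obtain ⟨⟨m, p, p'⟩, ha⟩ := a
      simp only [A, Finset.mem_filter, Finset.mem_univ, true_and] at ha
      obtain ⟨⟨hm, hp, hp', hne⟩, hf⟩ := ha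
      refine Subgroup.mem_inf.2 ⟨mul_mem (M.inv_mem ha₀.1) hm, ?_⟩
      simp only [f, Prod.mk.injEq] at hf
      set z := (y ^ 2 * p)⁻¹ * (y ^ 2 * p') with hz
      have hzm : z ∈ zpowers x := by
        rw [hz, show (y ^ 2 * p)⁻¹ * (y ^ 2 * p') = p⁻¹ * p' by group]
        exact mul_mem (inv_mem hp) hp'
      have hz1 : z ≠ 1 := by
        rw [hz, show (y ^ 2 * p)⁻¹ * (y ^ 2 * p') = p⁻¹ * p' by group]
        exact fun e => hne (inv_mul_eq_one.1 e)
      have hzz : (m₀⁻¹ * m) * z * (m₀⁻¹ * m)⁻¹ ∈ zpowers x := by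
        have : (m₀⁻¹ * m) * z * (m₀⁻¹ * m)⁻¹ = p₀⁻¹ * p₀' := by
          calc (m₀⁻¹ * m) * z * (m₀⁻¹ * m)⁻¹
              = m₀⁻¹ * ((m * (y ^ 2 * p) * m⁻¹)⁻¹ * (m * (y ^ 2 * p') * m⁻¹)) * m₀ := by
                rw [hz]; group
            _ = p₀⁻¹ * p₀' := by rw [hf.1, hf.2]; group
        rw [this]
        exact mul_mem (inv_mem ha₀.2.1) ha₀.2.2.1
      obtain ⟨i, hi⟩ := mem_zpowers_iff.1 hzm
      have hgen : zpowers z = zpowers x := by
        refine eq_of_le_of_card_ge (zpowers_le.2 hzm) ?_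
        rw [Nat.card_zpowers, Nat.card_zpowers, hx]
        have hd := orderOf_dvd_natCard (⟨z, hzm⟩ : zpowers x)
        rw [Subgroup.orderOf_mk, Nat.card_zpowers, hx] at hd
        rcases (Nat.dvd_prime (by norm_num : Nat.Prime 5)).1 hd with e | e
        · exact absurd (orderOf_eq_one_iff.1 e) hz1
        · exact e.ge
      set n := m₀⁻¹ * m
      have hmap : (zpowers x).map (MulAut.conj n).toMonoidHom = zpowers x := by
        refine eq_of_le_of_card_ge ?_ (by rw [card_map_of_injective (MulAut.conj n).injective])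
        rw [← hgen, MonoidHom.map_zpowers]
        refine zpowers_le.2 ?_
        rw [hgen]
        exact hzz
      refine mem_normalizer_iff.2 fun k => ?_
      constructor
      · intro hk
        rw [← hmap]
        exact ⟨k, hk, rfl⟩
      · intro hk
        rw [← hmap] at hk
        obtain ⟨k', hk', e⟩ := hk
        have : k' = k := (MulAut.conj n).injective e
        exact this ▸ hk'
    · obtain ⟨⟨m, p, p'⟩, ha⟩ := a
      obtain ⟨⟨m', r, r'⟩, hb⟩ := b
      simp only [Subtype.mk.injEq, mul_right_inj] at e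
      subst e
      simp only [A, Finset.mem_filter, f, Prod.mk.injEq] at ha hb
      obtain ⟨-, e1, e2⟩ := ha
      obtain ⟨-, e3, e4⟩ := hb
      have := mul_left_cancel (mul_left_cancel (mul_right_cancel (e1.trans e3.symm)))
      have := mul_left_cancel (mul_left_cancel (mul_right_cancel (e2.trans e4.symm)))
      subst_vars
      rfl
  have hcard := Finset.card_le_mul_card_image A _ hfib
  rw [hA] at hcard
  refine hcard.trans (Nat.mul_le_mul_left _ ((Finset.card_le_card himg).trans ?_))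
  rw [Finset.offDiag_card, hK, Nat.mul_sub_one]

end Cfsg.Agent.SmallSimple.Order2520
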