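import Cfsg.Agent.Lib.SmallSimple.Order2520.Involution

/-!
# Four-groups in the centralizer of an involution
-/

set_option autoImplicit false
set_option linter.style.haveILetI false
set_option linter.unusedSectionVars false

namespace Cfsg.Agent.SmallSimple.Order2520

open Subgroup MulAction

variable {G : Type*} [Group G]

/-- `u` is an involution commuting with `t` such that `⟨t, u⟩` is self-centralizing. -/
structure Good (t u : G) : Prop where
  ord : orderOf u = 2
  comm : Commute u t
  ne : u ≠ t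
  card : Nat.card ↥(centralizer ({t} : Set G) ⊓ centralizer ({u} : Set G)) = 4

theorem mem_cent_inf {t u g : G} :
    g ∈ centralizer ({t} : Set G) ⊓ centralizer ({u} : Set G) ↔ g * t = t * g ∧ g * u = u * g := by
  rw [Subgroup.mem_inf, mem_centralizer_singleton_iff, mem_centralizer_singleton_iff]

theorem Good.conj {t u c : G} (hu : Good t u) (hc : c * t = t * c) : Good t (c * u * c⁻¹) := by
  refine ⟨?_, ?_, ?_, ?_⟩
  · exact (orderOf_injective (MulAut.conj c).toMonoidHom (MulAut.conj c).injective u).trans hu.ord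
  · show c * u * c⁻¹ * t = t * (c * u * c⁻¹)
    have : c⁻¹ * t = t * c⁻¹ := by
      calc c⁻¹ * t = c⁻¹ * (t * c) * c⁻¹ := by group
        _ = t * c⁻¹ := by rw [← hc]; group
    calc c * u * c⁻¹ * t = c * (u * t) * c⁻¹ := by rw [mul_assoc _ c⁻¹ t, this]; group
      _ = c * t * u * c⁻¹ := by rw [hu.comm.eq]; group
      _ = t * (c * u * c⁻¹) := by rw [hc]; group
  · intro e
    refine hu.ne ?_
    calc u = c⁻¹ * (c * u * c⁻¹) * c := by group
      _ = c⁻¹ * (t * c) := by rw [e]; group
      _ = t := by rw [← hc, inv_mul_cancel_left]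
  · rw [← hu.card]
    have ht : c * t * c⁻¹ = t := by rw [hc]; group
    refine Nat.card_congr (Equiv.subtypeEquiv (MulAut.conj c⁻¹).toEquiv fun g => ?_)
    simp only [mem_cent_inf, MulEquiv.toEquiv_eq_coe, EquivLike.coe_coe, MulAut.conj_apply, inv_inv]
    constructor
    · rintro ⟨h1, h2⟩
      constructor
      · calc c⁻¹ * g * c * t = c⁻¹ * (g * t) * c := by rw [mul_assoc _ c t, hc]; group
          _ = c⁻¹ * (c * t * c⁻¹) * g * c := by rw [h1, ht]; group
          _ = t * (c⁻¹ * g * c) := by group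
      · calc c⁻¹ * g * c * u = c⁻¹ * (g * (c * u * c⁻¹)) * c := by group
          _ = u * (c⁻¹ * g * c) := by rw [h2]; group
    · rintro ⟨h1, h2⟩
      constructor
      · calc g * t = c * (c⁻¹ * g * c * t) * c⁻¹ := by rw [mul_assoc _ c t, hc]; group
          _ = c * t * c⁻¹ * g := by rw [h1]; group
          _ = t * g := by rw [ht]
      · calc g * (c * u * c⁻¹) = c * (c⁻¹ * g * c * u) * c⁻¹ := by group
          _ = c * u * c⁻¹ * g := by rw [h2]; group

variable [Finite G] [IsSimpleGroup G] (h : Nat.card G = 2520)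
  [Fact (Nat.Prime 7)] [Fact (Nat.Prime 5)] [Fact (Nat.Prime 3)] [Fact (Nat.Prime 2)]
include h

theorem exists_second (S : Sylow 2 G) (z : G) :
    ∃ u ∈ (S : Subgroup G), orderOf u = 2 ∧ u ≠ z ^ 2 := by
  by_contra hne
  push Not at hne
  have h5 := five_invol h S
  haveI : Subsingleton {u : G // u ∈ (S : Subgroup G) ∧ orderOf u = 2} :=
    ⟨fun a b => Subtype.ext ((hne a a.2.1 a.2.2).trans (hne b b.2.1 b.2.2).symm)⟩
  have := Finite.card_le_one_iff_subsingleton.2 ‹_›
  rw [h5] at this
  omega

theorem inv_ne_self {z : G} (hz : orderOf z = 4) : z⁻¹ ≠ z := by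
  intro e
  rw [inv_eq_iff_mul_eq_one, ← pow_two] at e
  have := orderOf_dvd_of_pow_eq_one e
  rw [hz] at this
  norm_num at this

/-- The only central involution of a Sylow 2-subgroup. -/
theorem central_eq (S : Sylow 2 G) {z g : G} (hzS : z ∈ (S : Subgroup G)) (hz : orderOf z = 4)
    (hgS : g ∈ (S : Subgroup G)) (hg : orderOf g = 2) (hc : g * z = z * g) : g = z ^ 2 := by
  by_contra hne
  have := (sylow_shape h S hzS hz hgS hg hne).1
  rw [hc, mul_inv_cancel_right] at this
  exact inv_ne_self h hz this.symm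

/-- All elements of order four are conjugate. -/
theorem isConj_four {g z : G} (hg : orderOf g = 4) (hz : orderOf z = 4) : IsConj z g := by
  obtain ⟨S, hS⟩ := (IsPGroup.of_card (n := 2) (by rw [Nat.card_zpowers, hz]; rfl) :
    IsPGroup 2 (zpowers z)).exists_le_sylow
  obtain ⟨T, hT⟩ := (IsPGroup.of_card (n := 2) (by rw [Nat.card_zpowers, hg]; rfl) :
    IsPGroup 2 (zpowers g)).exists_le_sylow
  obtain ⟨a, ha⟩ := MulAction.exists_smul_eq G T S
  have hgS : a * g * a⁻¹ ∈ (S : Subgroup G) := by
    rw [← ha, Sylow.smul_def, Sylow.pointwise_smul_def]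
    exact ⟨g, hT (mem_zpowers g), rfl⟩
  have hzS := hS (mem_zpowers z)
  have ho : orderOf (a * g * a⁻¹) = 4 :=
    (orderOf_injective (MulAut.conj a).toMonoidHom (MulAut.conj a).injective g).trans hg
  refine IsConj.trans ?_ (isConj_iff.2 ⟨a, rfl⟩ : IsConj g (a * g * a⁻¹)).symm
  obtain ⟨u, huS, hu, hne⟩ := exists_second h S z
  have hmem : a * g * a⁻¹ ∈ zpowers z := by
    by_contra hn
    have := order_outside h S hzS hz huS hu hne hgS hn
    omega
  obtain ⟨i, hi⟩ := mem_zpowers_iff.1 hmem
  rw [← hi] at ho ⊢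
  have hi2 : ¬ (2 : ℤ) ∣ i := by
    rintro ⟨j, rfl⟩
    have : (z ^ (2 * j)) ^ 2 = 1 := by
      rw [← zpow_natCast, ← zpow_mul, ← orderOf_dvd_iff_zpow_eq_one, hz]
      exact ⟨j, by push_cast; ring⟩
    have h2 := orderOf_dvd_of_pow_eq_one this
    rw [ho] at h2
    norm_num at h2
  rcases (show i % 4 = 1 ∨ i % 4 = 3 by omega) with e | e
  · have : z ^ i = z := by
      conv_rhs => rw [← zpow_one z]
      rw [zpow_eq_zpow_iff_modEq, hz]
      exact e
    rw [this]
  · have : z ^ i = z⁻¹ := by
      rw [← zpow_neg_one, zpow_eq_zpow_iff_modEq, hz]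
      exact e
    rw [this]
    exact isConj_iff.2 ⟨u, (sylow_shape h S hzS hz huS hu hne).1⟩

theorem sylow_le_of_sq (S : Sylow 2 G) {z : G} (hzS : z ∈ (S : Subgroup G)) (hz : orderOf z = 4) :
    (S : Subgroup G) ≤ centralizer ({z ^ 2} : Set G) := by
  intro g hg
  refine mem_centralizer_singleton_iff.2 (mul_inv_eq_iff_eq_mul.1 ?_)
  rw [← conj_pow]
  rcases sylow_le_cent_sq h S hzS hz g hg with e | e <;> rw [e]
  rw [inv_pow, inv_eq_iff_mul_eq_one, ← pow_add, show 2 + 2 = orderOf z from hz.symm, pow_orderOf_eq_one]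

/-- A Sylow 2-subgroup is not normal in the centralizer of an involution. -/
theorem not_normal {t : G} (ht : orderOf t = 2) (S : Sylow 2 G)
    (hSC : (S : Subgroup G) ≤ centralizer ({t} : Set G)) :
    ¬ centralizer ({t} : Set G) ≤ normalizer ((S : Subgroup G) : Set G) := by
  intro hN
  classical
  set C := centralizer ({t} : Set G) with hC
  have hC24 : Nat.card C = 24 := cent_invol h ht
  have htC : t ∈ C := mem_centralizer_singleton_iff.2 rfl
  obtain ⟨z, hzS, hz⟩ := exists_four h S
  have htS : t ∈ (S : Subgroup G) := by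
    have hp : IsPGroup 2 ↥((S : Subgroup G) ⊔ zpowers t) :=
      IsPGroup.to_sup_of_normal_left' S.2 (IsPGroup.of_card (n := 1) (by
        rw [Nat.card_zpowers, ht, pow_one])) (zpowers_le.2 (hN htC))
    have := S.3 hp le_sup_left
    exact this ▸ mem_sup_right (mem_zpowers t)
  have htz : t = z ^ 2 := central_eq h S hzS hz htS ht
    (mem_centralizer_singleton_iff.1 (hSC hzS)).symm
  -- elements of order three are central
  have hcentral : ∀ w ∈ C, orderOf w = 3 → C ≤ centralizer ({w} : Set G) := by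
    intro w hw hw3
    have hconjS : ∀ g ∈ (S : Subgroup G), w * g * w⁻¹ ∈ (S : Subgroup G) := fun g hg =>
      (mem_normalizer_iff.1 (hN hw) g).1 hg
    have hw3' : w ^ 3 = 1 := hw3 ▸ pow_orderOf_eq_one w
    have hwinv : ∀ g : G, w * (w * (w * g * w⁻¹) * w⁻¹) * w⁻¹ = g := fun g => by
      calc w * (w * (w * g * w⁻¹) * w⁻¹) * w⁻¹ = w ^ 3 * g * (w ^ 3)⁻¹ := by
            simp [pow_succ, mul_assoc]
        _ = g := by rw [hw3']; group
    obtain ⟨u, huS, hu, hne⟩ := exists_second h S z
    obtain ⟨hinv, hdec⟩ := sylow_shape h S hzS hz huS hu hne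
    have hwz : w * z * w⁻¹ = z := by
      have ho : orderOf (w * z * w⁻¹) = 4 :=
        (orderOf_injective (MulAut.conj w).toMonoidHom (MulAut.conj w).injective z).trans hz
      have hmem : w * z * w⁻¹ ∈ zpowers z := by
        by_contra hn
        have := order_outside h S hzS hz huS hu hne (hconjS z hzS) hn
        omega
      obtain ⟨i, hi⟩ := mem_zpowers_iff.1 hmem
      rcases (show i % 4 = 1 ∨ i % 4 = 3 ∨ (2 : ℤ) ∣ i by omega) with e | e | ⟨j, rfl⟩
      · rw [← hi]
        conv_rhs => rw [← zpow_one z]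
        rw [zpow_eq_zpow_iff_modEq, hz]
        exact e
      · exfalso
        have he : w * z * w⁻¹ = z⁻¹ := by
          rw [← hi, ← zpow_neg_one, zpow_eq_zpow_iff_modEq, hz]
          exact e
        have := hwinv z
        rw [he, show w * z⁻¹ * w⁻¹ = (w * z * w⁻¹)⁻¹ by group, he, inv_inv, he] at this
        exact inv_ne_self h hz this
      · exfalso
        have : (z ^ (2 * j)) ^ 2 = 1 := by
          rw [← zpow_natCast, ← zpow_mul, ← orderOf_dvd_iff_zpow_eq_one, hz]
          exact ⟨j, by push_cast; ring⟩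
        rw [hi] at this
        have h2 := orderOf_dvd_of_pow_eq_one this
        rw [ho] at h2
        norm_num at h2
    have hu2 : u * u = 1 := by rw [← pow_two, ← hu, pow_orderOf_eq_one]
    have hwu : w * u * w⁻¹ = u := by
      have ho : orderOf (w * u * w⁻¹) = 2 :=
        (orderOf_injective (MulAut.conj w).toMonoidHom (MulAut.conj w).injective u).trans hu
      rcases hdec _ (hconjS u huS) with hm | hm
      · exfalso
        have e := mem_zpowers_four h hz hm ho
        refine hne ?_
        calc u = w⁻¹ * (w * u * w⁻¹) * w := by group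
          _ = w⁻¹ * (w * z * w⁻¹) ^ 2 * w := by rw [e, hwz]
          _ = z ^ 2 := by rw [conj_pow]; group
      obtain ⟨i, hi⟩ := mem_zpowers_iff.1 hm
      have hwu' : w * u * w⁻¹ = u * z ^ i := by rw [hi, ← mul_assoc, hu2, one_mul]
      have hwzi : w * z ^ i * w⁻¹ = z ^ i := by rw [← conj_zpow, hwz]
      have hstep : ∀ k : ℤ, w * (u * z ^ k) * w⁻¹ = u * z ^ (i + k) := fun k => by
        rw [show w * (u * z ^ k) * w⁻¹ = (w * u * w⁻¹) * (w * z ^ k * w⁻¹) by group, hwu',
          ← conj_zpow, hwz, zpow_add, mul_assoc]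
      have h3 := hwinv u
      rw [hwu', hstep, hstep] at h3
      have h4 : z ^ (i + (i + i)) = 1 := mul_left_cancel (h3.trans (mul_one u).symm)
      rw [← orderOf_dvd_iff_zpow_eq_one, hz] at h4
      have : z ^ i = 1 := by
        rw [← orderOf_dvd_iff_zpow_eq_one, hz]
        push_cast at h4 ⊢
        omega
      rw [hwu', this, mul_one]
    have hSw : (S : Subgroup G) ≤ C ⊓ centralizer ({w} : Set G) := by
      intro g hg
      refine Subgroup.mem_inf.2 ⟨hSC hg, mem_centralizer_singleton_iff.2 ?_⟩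
      have c1 : Commute z w := (mul_inv_eq_iff_eq_mul.1 hwz).symm
      have c2 : Commute u w := (mul_inv_eq_iff_eq_mul.1 hwu).symm
      rcases hdec g hg with hm | hm <;> obtain ⟨i, hi⟩ := mem_zpowers_iff.1 hm
      · exact (hi ▸ c1.zpow_left i).eq
      · rw [show g = u * z ^ i by rw [hi, ← mul_assoc, hu2, one_mul]]
        exact (c2.mul_left (c1.zpow_left i)).eq
    have h8 := card_dvd_of_le hSw
    rw [card_two h S] at h8
    have h3 : 3 ∣ Nat.card ↥(C ⊓ centralizer ({w} : Set G)) := by
      rw [← hw3, ← Nat.card_zpowers]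
      exact card_dvd_of_le (zpowers_le.2 (Subgroup.mem_inf.2 ⟨hw, mem_centralizer_singleton_iff.2 rfl⟩))
    have h24 := Nat.Coprime.mul_dvd_of_dvd_of_dvd (by norm_num) h8 h3
    have := eq_of_le_of_card_ge (inf_le_left : C ⊓ centralizer ({w} : Set G) ≤ C)
      (by rw [hC24]; exact Nat.le_of_dvd Nat.card_pos h24)
    exact this ▸ inf_le_right
  obtain ⟨w', hw'⟩ := exists_prime_orderOf_dvd_card' (G := C) 3 (by rw [hC24]; norm_num)
  set w : G := (w' : G)
  have hw3 : orderOf w = 3 := by rw [orderOf_coe]; exact hw'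
  set D := centralizer ({w} : Set G) with hD
  have hCD : C ≤ D := hcentral w w'.2 hw3
  have hother : ∀ v : G, v ∈ (S : Subgroup G) → orderOf v = 2 →
      ∃ g : G, g * t * g⁻¹ = v ∧ centralizer ({v} : Set G) ≤ D := by
    intro v hvS hv
    obtain ⟨g, hg⟩ := isConj_iff.1 (isConj_invol h ht hv)
    refine ⟨g, hg, fun c hc => ?_⟩
    have hwv : v * w = w * v := mem_centralizer_singleton_iff.1 (hCD (hSC hvS))
    have hw' : g⁻¹ * w * g ∈ C := mem_centralizer_singleton_iff.2 (by
      calc g⁻¹ * w * g * t = g⁻¹ * (w * (g * t * g⁻¹)) * g := by group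
        _ = g⁻¹ * ((g * t * g⁻¹) * w) * g := by rw [hg, hwv]
        _ = t * (g⁻¹ * w * g) := by group)
    have hc' : g⁻¹ * c * g ∈ C := mem_centralizer_singleton_iff.2 (by
      calc g⁻¹ * c * g * t = g⁻¹ * (c * (g * t * g⁻¹)) * g := by group
        _ = g⁻¹ * ((g * t * g⁻¹) * c) * g := by rw [hg, mem_centralizer_singleton_iff.1 hc]
        _ = t * (g⁻¹ * c * g) := by group)
    have ho : orderOf (g⁻¹ * w * g) = 3 := by
      rw [← hw3]
      have := orderOf_injective (MulAut.conj g⁻¹).toMonoidHom (MulAut.conj g⁻¹).injective w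
      simpa using this
    have e := mem_centralizer_singleton_iff.1 (hcentral _ hw' ho hc')
    refine mem_centralizer_singleton_iff.2 ?_
    calc c * w = g * ((g⁻¹ * c * g) * (g⁻¹ * w * g)) * g⁻¹ := by group
      _ = w * c := by rw [e]; group
  have hD72 : Nat.card D = 72 := by
    have hd := cent_dvd_72 h (g := w) (fun e => by rw [e, orderOf_one] at hw3; norm_num at hw3)
      (by rw [hw3]; norm_num) (by rw [hw3]; norm_num)
    rw [← hD] at hd
    have h24 : 24 ∣ Nat.card D := hC24 ▸ card_dvd_of_le hCD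
    obtain ⟨k, hk⟩ := h24
    rw [hk] at hd ⊢
    have hk3 : k ∣ 3 := Nat.dvd_of_mul_dvd_mul_left (by norm_num : 0 < 24) (show 24 * k ∣ 24 * 3 from hd)
    rcases (Nat.dvd_prime Nat.prime_three).1 hk3 with rfl | rfl
    · exfalso
      have hDC : C = D := eq_of_le_of_card_ge hCD (by rw [hC24, hk])
      obtain ⟨v, hvS, hv, hvne⟩ := exists_second h S z
      obtain ⟨g, -, hvD⟩ := hother v hvS hv
      rw [← hDC] at hvD
      have heq : centralizer ({v} : Set G) = C :=
        eq_of_le_of_card_ge hvD (by rw [hC24, cent_invol h hv])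
      have : z ∈ centralizer ({v} : Set G) := heq ▸ hSC hzS
      exact hvne (central_eq h S hzS hz hvS hv (mem_centralizer_singleton_iff.1 this).symm)
    · rfl
  have hSD : (S : Subgroup G) ≤ D := hSC.trans hCD
  have hn : Nat.card (Sylow 2 D) ≤ 3 := by
    let S' : Sylow 2 D := S.subtype hSD
    have hm := Basic.card_normalizer_mul S'
    rw [hD72] at hm
    have hle : C.subgroupOf D ≤ normalizer ((S' : Subgroup D) : Set D) := by
      intro g hg
      rw [mem_subgroupOf] at hg
      refine mem_normalizer_iff.2 fun k => ?_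
      simp only [S', Sylow.coe_subtype, mem_subgroupOf, Subgroup.coe_mul, InvMemClass.coe_inv]
      exact mem_normalizer_iff.1 (hN hg) k
    have h24 := card_dvd_of_le hle
    rw [Nat.card_congr (subgroupOfEquivOfLe hCD).toEquiv, hC24] at h24
    have := Nat.le_of_dvd Nat.card_pos h24
    nlinarith
  choose g hg hgD using fun v : {v : G // v ∈ (S : Subgroup G) ∧ orderOf v = 2} => hother v.1 v.2.1 v.2.2
  have hle : ∀ v, ((g v • S : Sylow 2 G) : Subgroup G) ≤ D := by
    intro v k hk
    refine hgD v ?_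
    rw [Sylow.smul_def, Sylow.pointwise_smul_def] at hk
    obtain ⟨s, hs, rfl⟩ := hk
    refine mem_centralizer_singleton_iff.2 ?_
    rw [← hg v]
    show g v * s * (g v)⁻¹ * (g v * t * (g v)⁻¹) = g v * t * (g v)⁻¹ * (g v * s * (g v)⁻¹)
    calc g v * s * (g v)⁻¹ * (g v * t * (g v)⁻¹) = g v * (s * t) * (g v)⁻¹ := by group
      _ = g v * (t * s) * (g v)⁻¹ := by rw [mem_centralizer_singleton_iff.1 (hSC hs)]
      _ = _ := by group
  have h5 := five_invol h S
  have hinj := Nat.card_le_card_of_injective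
    (fun v : {v : G // v ∈ (S : Subgroup G) ∧ orderOf v = 2} => (g v • S : Sylow 2 G).subtype (hle v))
    fun a b e => ?_
  · omega
  have e' := Sylow.subtype_injective e
  have hmem : ∀ v, ∀ k ∈ (S : Subgroup G), g v * k * (g v)⁻¹ ∈ ((g v • S : Sylow 2 G) : Subgroup G) :=
    fun v k hk => by
      rw [Sylow.smul_def, Sylow.pointwise_smul_def]
      exact ⟨k, hk, rfl⟩
  refine Subtype.ext ?_
  have ha : (a : G) ∈ ((g a • S : Sylow 2 G) : Subgroup G) := hg a ▸ hmem a t htS
  rw [e'] at ha
  have hzb : g b * z * (g b)⁻¹ ∈ ((g b • S : Sylow 2 G) : Subgroup G) := hmem b z hzS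
  have hzo : orderOf (g b * z * (g b)⁻¹) = 4 :=
    (orderOf_injective (MulAut.conj (g b)).toMonoidHom (MulAut.conj (g b)).injective z).trans hz
  have hza : g b * z * (g b)⁻¹ ∈ centralizer ({(a : G)} : Set G) := by
    rw [← e'] at hzb
    rw [Sylow.smul_def, Sylow.pointwise_smul_def] at hzb
    obtain ⟨s, hs, hs'⟩ := hzb
    rw [← hs']
    refine mem_centralizer_singleton_iff.2 ?_
    rw [← hg a]
    show g a * s * (g a)⁻¹ * (g a * t * (g a)⁻¹) = g a * t * (g a)⁻¹ * (g a * s * (g a)⁻¹)
    calc g a * s * (g a)⁻¹ * (g a * t * (g a)⁻¹) = g a * (s * t) * (g a)⁻¹ := by group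
      _ = g a * (t * s) * (g a)⁻¹ := by rw [mem_centralizer_singleton_iff.1 (hSC hs)]
      _ = _ := by group
  rw [central_eq h _ hzb hzo ha a.2.2 (mem_centralizer_singleton_iff.1 hza).symm, conj_pow, ← htz,
    hg b]

theorem four_le_cent_inf {t u : G} (ht : orderOf t = 2) (hu : orderOf u = 2) (hut : Commute u t)
    (hne : u ≠ t) : 4 ∣ Nat.card ↥(centralizer ({t} : Set G) ⊓ centralizer ({u} : Set G)) := by
  have h2t : t * t = 1 := by rw [← pow_two, ← ht, pow_orderOf_eq_one]
  have h2u : u * u = 1 := by rw [← pow_two, ← hu, pow_orderOf_eq_one]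
  obtain ⟨M, hM, hle, hge⟩ := klein h2t h2u hut.symm.eq
  have h4 : Nat.card M = 4 :=
    le_antisymm hle (hge (invol_ne_one h ht) (invol_ne_one h hu) hne.symm)
  rw [← h4]
  refine card_dvd_of_le fun g hg => ?_
  rw [mem_cent_inf]
  rcases (hM g).1 hg with rfl | rfl | rfl | rfl
  · exact ⟨by simp, by simp⟩
  · exact ⟨rfl, hut.symm.eq⟩
  · exact ⟨hut.eq, rfl⟩
  · exact ⟨((Commute.refl t).mul_left hut).eq, (hut.symm.mul_left (Commute.refl u)).eq⟩

/-- Good involutions exist. -/
theorem exists_good {t : G} (ht : orderOf t = 2) : ∃ u, Good t u := by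
  classical
  by_contra hno
  push Not at hno
  set C := centralizer ({t} : Set G) with hC
  have hC24 : Nat.card C = 24 := cent_invol h ht
  obtain ⟨S, hSC⟩ : ∃ S : Sylow 2 G, (S : Subgroup G) ≤ C := by
    have S' : Sylow 2 C := default
    have hc : Nat.card ((S' : Subgroup C).map C.subtype) = 8 := by
      rw [card_map_of_injective C.subtype_injective]
      simpa using Basic.card_sylow_eq_pow (a := 3) (m := 3) (by rw [hC24]; norm_num) (by norm_num) S'
    refine ⟨Sylow.ofCard ((S' : Subgroup C).map C.subtype) (by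
      rw [hc]
      have := Basic.card_sylow_eq (p := 2) (default : Sylow 2 G)
      rw [card_two h] at this
      exact this), map_subtype_le _⟩
  have hthree : ∀ u : G, orderOf u = 2 → Commute u t → u ≠ t →
      ∃ w, orderOf w = 3 ∧ w ∈ C ∧ w * u = u * w := by
    intro u hu hut hne
    have h4 := four_le_cent_inf h ht hu hut hne
    have h24 : Nat.card ↥(C ⊓ centralizer ({u} : Set G)) ∣ 24 := hC24 ▸ card_dvd_of_le inf_le_left
    by_cases h3 : 3 ∣ Nat.card ↥(C ⊓ centralizer ({u} : Set G))
    · obtain ⟨w, hw⟩ := exists_prime_orderOf_dvd_card' (G := ↥(C ⊓ centralizer ({u} : Set G))) 3 h3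
      exact ⟨w, by rw [orderOf_coe]; exact hw, w.2.1, (mem_cent_inf.1 w.2).2⟩
    exfalso
    have key : ∀ n ∈ Nat.divisors 24, 4 ∣ n → ¬ 3 ∣ n → n = 4 ∨ n = 8 := by decide +kernel
    rcases key _ (Nat.mem_divisors.2 ⟨h24, by norm_num⟩) h4 h3 with e | e
    · exact hno u ⟨hu, hut, hne, e⟩
    · let T : Sylow 2 G := Sylow.ofCard (C ⊓ centralizer ({u} : Set G)) (by
        rw [e]
        have := Basic.card_sylow_eq (p := 2) (default : Sylow 2 G)
        rw [card_two h] at this
        exact this)
      obtain ⟨z, hzT, hz⟩ := exists_four h T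
      have htT : t ∈ (T : Subgroup G) := mem_cent_inf.2 ⟨rfl, hut.symm.eq⟩
      have huT : u ∈ (T : Subgroup G) := mem_cent_inf.2 ⟨hut.eq, rfl⟩
      have hzz := mem_cent_inf.1 hzT
      exact hne ((central_eq h T hzT hz huT hu hzz.2.symm).trans
        (central_eq h T hzT hz htT ht hzz.1.symm).symm)
  obtain ⟨z, hzS, hz⟩ := exists_four h S
  have htS : t = z ^ 2 := by
    have h1 : orderOf (z ^ 2) = 2 := orderOf_sq h hz
    by_contra hne
    obtain ⟨w, hw3, hwC, hwz⟩ := hthree _ h1
      ((show Commute z t from mem_centralizer_singleton_iff.1 (hSC hzS)).pow_left 2) (Ne.symm hne)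
    have h8 : 8 ∣ Nat.card ↥(C ⊓ centralizer ({z ^ 2} : Set G)) :=
      card_two h S ▸ card_dvd_of_le (le_inf hSC (sylow_le_of_sq h S hzS hz))
    have h3 : 3 ∣ Nat.card ↥(C ⊓ centralizer ({z ^ 2} : Set G)) := by
      rw [← hw3, ← Nat.card_zpowers]
      exact card_dvd_of_le (zpowers_le.2 (Subgroup.mem_inf.2 ⟨hwC, mem_centralizer_singleton_iff.2 hwz⟩))
    have h24' := Nat.Coprime.mul_dvd_of_dvd_of_dvd (by norm_num) h8 h3
    have heq := eq_of_le_of_card_ge (inf_le_left : C ⊓ centralizer ({z ^ 2} : Set G) ≤ C)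
      (by rw [hC24]; exact Nat.le_of_dvd Nat.card_pos h24')
    have heq2 : C = centralizer ({z ^ 2} : Set G) :=
      eq_of_le_of_card_ge (heq ▸ inf_le_right) (by rw [hC24, cent_invol h h1])
    -- then the centres agree
    have htS : t ∈ (S : Subgroup G) := by
      have hp : IsPGroup 2 ↥((S : Subgroup G) ⊔ zpowers t) :=
        IsPGroup.to_sup_of_normal_left' S.2 (IsPGroup.of_card (n := 1) (by
          rw [Nat.card_zpowers, ht, pow_one]))
          (zpowers_le.2 (centralizer_le_normalizer _ (mem_centralizer_iff.2 fun s hs =>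
            mem_centralizer_singleton_iff.1 (hSC hs))))
      exact S.3 hp le_sup_left ▸ mem_sup_right (mem_zpowers t)
    exact hne (central_eq h S hzS hz htS ht (mem_centralizer_singleton_iff.1 (hSC hzS)).symm)
  obtain ⟨u, huS, hu, hne⟩ := exists_second h S z
  rw [← htS] at hne
  have hut : Commute u t := mem_centralizer_singleton_iff.1 (hSC huS)
  obtain ⟨w, hw3, hwC, hwu⟩ := hthree u hu hut hne
  set D := C ⊓ centralizer ({w} : Set G) with hD
  have hwD : w ∈ D := Subgroup.mem_inf.2 ⟨hwC, mem_centralizer_singleton_iff.2 rfl⟩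
  have htD : t ∈ D := Subgroup.mem_inf.2 ⟨mem_centralizer_singleton_iff.2 rfl,
    mem_centralizer_singleton_iff.2 (mem_centralizer_singleton_iff.1 hwC).symm⟩
  have huD : u ∈ D := Subgroup.mem_inf.2 ⟨hSC huS, mem_centralizer_singleton_iff.2 hwu.symm⟩
  have h2t : t * t = 1 := by rw [← pow_two, ← ht, pow_orderOf_eq_one]
  have h2u : u * u = 1 := by rw [← pow_two, ← hu, pow_orderOf_eq_one]
  obtain ⟨M, hM, hMle, hMge⟩ := klein h2t h2u hut.symm.eq
  have hMD : M ≤ D := fun g hg => by
    rcases (hM g).1 hg with rfl | rfl | rfl | rfl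
    · exact one_mem _
    · exact htD
    · exact huD
    · exact mul_mem htD huD
  have h4 : 4 ∣ Nat.card D := by
    rw [show 4 = Nat.card M from (le_antisymm hMle (hMge (invol_ne_one h ht) (invol_ne_one h hu)
      hne.symm)).symm]
    exact card_dvd_of_le hMD
  have h3 : 3 ∣ Nat.card D := by
    rw [← hw3, ← Nat.card_zpowers]
    exact card_dvd_of_le (zpowers_le.2 hwD)
  have hDd : Nat.card D ∣ 24 := hC24 ▸ card_dvd_of_le inf_le_left
  have hD12 : Nat.card D = 12 := by
    have key : ∀ n ∈ Nat.divisors 24, 4 * 3 ∣ n → n = 12 ∨ n = 24 := by decide +kernel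
    refine (key _ (Nat.mem_divisors.2 ⟨hDd, by norm_num⟩)
      (Nat.Coprime.mul_dvd_of_dvd_of_dvd (by norm_num) h4 h3)).resolve_right fun e => ?_
    have hDC : D = C := eq_of_le_of_card_ge inf_le_left (by rw [hC24]; exact le_of_eq e.symm)
    refine not_normal h ht S hSC ?_
    have hle : (S : Subgroup G) ⊔ zpowers w = C := by
      refine eq_of_le_of_card_ge (sup_le hSC (zpowers_le.2 hwC)) ?_
      rw [hC24]
      refine Nat.le_of_dvd Nat.card_pos (Nat.Coprime.mul_dvd_of_dvd_of_dvd (m := 8) (n := 3)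
        (by norm_num) ?_ ?_)
      · exact card_two h S ▸ card_dvd_of_le le_sup_left
      · rw [← hw3, ← Nat.card_zpowers]; exact card_dvd_of_le le_sup_right
    show C ≤ _
    rw [← hle]
    refine sup_le le_normalizer (zpowers_le.2 (centralizer_le_normalizer _ ?_))
    refine mem_centralizer_iff.2 fun s hs => ?_
    have : s ∈ D := hDC ▸ hSC hs
    exact mem_centralizer_singleton_iff.1 (Subgroup.mem_inf.1 this).2
  have hidx : (D.subgroupOf C).index = 2 := by
    have := card_mul_index (D.subgroupOf C)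
    rw [Nat.card_congr (subgroupOfEquivOfLe (inf_le_left : D ≤ C)).toEquiv, hD12, hC24] at this
    omega
  -- every involution of `S` lies in `D`
  have hall : ∀ v ∈ (S : Subgroup G), orderOf v = 2 → v ∈ D := by
    intro v hvS hv
    by_cases hvt : v = t
    · exact hvt ▸ htD
    obtain ⟨w', hw'3, hw'C, hw'v⟩ := hthree v hv (mem_centralizer_singleton_iff.1 (hSC hvS)) hvt
    have hw'D : w' ∈ D := by
      have hsq : ∀ a : C, a * a ∈ D.subgroupOf C := fun a => mul_self_mem_of_index_two hidx a
      have h := hsq (⟨w', hw'C⟩ * ⟨w', hw'C⟩)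
      rw [mem_subgroupOf] at h
      simp only [Subgroup.coe_mul] at h
      have e : w' = w' * w' * (w' * w') := by
        rw [show w' * w' * (w' * w') = w' * w' ^ 3 by simp [pow_succ, mul_assoc]]
        rw [show w' ^ 3 = 1 from hw'3 ▸ pow_orderOf_eq_one w', mul_one]
      rwa [← e] at h
    have hww' : Commute w' w := mem_centralizer_singleton_iff.1 (Subgroup.mem_inf.1 hw'D).2
    have hw'w : w ∈ zpowers w' := by
      have hp : IsPGroup 3 ↥(zpowers w' ⊔ zpowers w) :=
        IsPGroup.to_sup_of_normal_left' (IsPGroup.of_card (n := 1) (by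
          rw [Nat.card_zpowers, hw'3, pow_one])) (IsPGroup.of_card (n := 1) (by
          rw [Nat.card_zpowers, hw3, pow_one]))
          (zpowers_le.2 (centralizer_le_normalizer _ (mem_centralizer_iff.2 fun a ha => by
            obtain ⟨i, rfl⟩ := mem_zpowers_iff.1 ha
            exact (hww'.zpow_left i).eq)))
      obtain ⟨k, hk⟩ := IsPGroup.iff_card.1 hp
      have hdv := card_dvd_of_le (sup_le (zpowers_le.2 hw'C) (zpowers_le.2 hwC) :
        zpowers w' ⊔ zpowers w ≤ C)
      rw [hk, hC24] at hdv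
      have hk1 : k ≤ 1 := by
        by_contra hlt
        have := dvd_trans (pow_dvd_pow 3 (show 2 ≤ k by omega)) hdv
        norm_num at this
      have heq : zpowers w' = zpowers w' ⊔ zpowers w := eq_of_le_of_card_ge le_sup_left (by
        rw [hk, Nat.card_zpowers, hw'3]
        calc 3 ^ k ≤ 3 ^ 1 := Nat.pow_le_pow_right (by norm_num) hk1
          _ = 3 := by norm_num)
      exact heq ▸ mem_sup_right (mem_zpowers w)
    obtain ⟨i, hi⟩ := mem_zpowers_iff.1 hw'w
    refine Subgroup.mem_inf.2 ⟨hSC hvS, mem_centralizer_singleton_iff.2 ?_⟩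
    rw [← hi]
    exact ((show Commute v w' from hw'v.symm).zpow_right i).eq
  -- but `D` has at most three involutions
  have hW : Nat.card (Sylow 2 D) = 1 := by
    let T : Sylow 2 D := default
    have hm := Basic.card_normalizer_mul T
    rw [hD12] at hm
    have h4T : Nat.card (T : Subgroup D) = 4 := by
      simpa using Basic.card_sylow_eq_pow (a := 2) (m := 3) (by rw [hD12]; norm_num) (by norm_num) T
    have h4' : 4 ∣ Nat.card (normalizer ((T : Subgroup D) : Set D)) :=
      h4T ▸ card_dvd_of_le le_normalizer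
    have h3' : 3 ∣ Nat.card (normalizer ((T : Subgroup D) : Set D)) := by
      rw [← hw3, ← orderOf_mk (H := D) w hwD, ← Nat.card_zpowers]
      refine card_dvd_of_le (zpowers_le.2 (centralizer_le_normalizer _ (mem_centralizer_iff.2 fun a _ => ?_)))
      exact Subtype.ext (mem_centralizer_singleton_iff.1 (Subgroup.mem_inf.1 a.2).2)
    have := Nat.le_of_dvd Nat.card_pos (Nat.Coprime.mul_dvd_of_dvd_of_dvd (by norm_num) h4' h3')
    have hpos : 0 < Nat.card (Sylow 2 D) := Nat.card_pos
    nlinarith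
  haveI : Subsingleton (Sylow 2 D) := (Nat.card_eq_one_iff_unique.1 hW).1
  let T : Sylow 2 D := default
  have hmemT : ∀ v : {v : G // v ∈ (S : Subgroup G) ∧ orderOf v = 2},
      (⟨v.1, hall v.1 v.2.1 v.2.2⟩ : D) ∈ (T : Subgroup D) ∧ (⟨v.1, hall v.1 v.2.1 v.2.2⟩ : D) ≠ 1 := by
    intro v
    refine ⟨?_, fun e => invol_ne_one h v.2.2 (congrArg Subtype.val e)⟩
    obtain ⟨T', hT'⟩ := (IsPGroup.of_card (n := 1) (by
      rw [Nat.card_zpowers, Subgroup.orderOf_mk, v.2.2, pow_one]) :
      IsPGroup 2 (zpowers (⟨v.1, hall v.1 v.2.1 v.2.2⟩ : D))).exists_le_sylow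
    rw [Subsingleton.elim T T']
    exact hT' (mem_zpowers _)
  have h4T : Nat.card (T : Subgroup D) = 4 := by
    simpa using Basic.card_sylow_eq_pow (a := 2) (m := 3) (by rw [hD12]; norm_num) (by norm_num) T
  have := Nat.card_le_card_of_injective
    (fun v : {v : G // v ∈ (S : Subgroup G) ∧ orderOf v = 2} =>
      (⟨⟨v.1, hall v.1 v.2.1 v.2.2⟩, (hmemT v).1⟩ : (T : Subgroup D)))
    fun a b e => Subtype.ext (congrArg (fun q => ((q : (T : Subgroup D)) : D).1) e)
  rw [h4T, five_invol h S] at this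
  omega

/-- The good involutions do not lie in a common 2-subgroup of the centralizer. -/
theorem not_all_good {t : G} (ht : orderOf t = 2) {R : Subgroup G}
    (hRC : R ≤ centralizer ({t} : Set G)) (hR : Nat.card R = 4 ∨ Nat.card R = 8) (htR : t ∈ R) :
    ∃ u, Good t u ∧ u ∉ R := by
  classical
  by_contra hno
  push Not at hno
  set C := centralizer ({t} : Set G) with hC
  set X := closure (insert t {u | Good t u}) with hX
  have hXR : X ≤ R := (closure_le R).2 (by
    rintro g (rfl | hg)
    · exact htR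
    · exact hno g hg)
  have hXC : X ≤ C := hXR.trans hRC
  have htX : t ∈ X := subset_closure (Or.inl rfl)
  obtain ⟨u, hu⟩ := exists_good h ht
  have huX : u ∈ X := subset_closure (Or.inr hu)
  have hconj : ∀ c ∈ C, ∀ k ∈ X, c * k * c⁻¹ ∈ X := by
    intro c hc k hk
    have : X ≤ X.comap (MulAut.conj c).toMonoidHom := (closure_le _).2 (by
      rintro g (rfl | hg)
      · show c * g * c⁻¹ ∈ X
        rw [mem_centralizer_singleton_iff.1 hc, mul_inv_cancel_right]
        exact htX
      · exact subset_closure (Or.inr (hg.conj (mem_centralizer_singleton_iff.1 hc))))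
    exact this hk
  have h2t : t * t = 1 := by rw [← pow_two, ← ht, pow_orderOf_eq_one]
  have h2u : u * u = 1 := by rw [← pow_two, ← hu.ord, pow_orderOf_eq_one]
  obtain ⟨M, hM, hMle, hMge⟩ := klein h2t h2u hu.comm.symm.eq
  have hM4 : Nat.card M = 4 :=
    le_antisymm hMle (hMge (invol_ne_one h ht) (invol_ne_one h hu.ord) hu.ne.symm)
  have hMX : M ≤ X := fun g hg => by
    rcases (hM g).1 hg with rfl | rfl | rfl | rfl
    · exact one_mem _
    · exact htX
    · exact huX
    · exact mul_mem htX huX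
  have hXd := card_dvd_of_le hXR
  have h4X := hM4 ▸ card_dvd_of_le hMX
  have hXcard : Nat.card X = 4 ∨ Nat.card X = 8 := by
    rcases hR with e | e <;> rw [e] at hXd
    · exact Or.inl (Nat.dvd_antisymm hXd h4X)
    · obtain ⟨k, hk⟩ := h4X
      rw [hk] at hXd ⊢
      have := Nat.le_of_dvd (by norm_num) hXd
      have hk0 : 0 < k := by
        by_contra h0
        rw [show k = 0 by omega] at hXd
        norm_num at hXd
      omega
  rcases hXcard with e | e
  · have hXM : X = M := (eq_of_le_of_card_ge hMX (by rw [e, hM4])).symm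
    -- the class of `u` in the centralizer has six elements
    have hcl := Basic.card_centralizer_mul_card_class (⟨u, hXC huX⟩ : C)
    have hcc : Nat.card (centralizer ({(⟨u, hXC huX⟩ : C)} : Set C)) = 4 := by
      rw [← hu.card]
      refine Nat.card_congr
        { toFun := fun c => ⟨c.1.1, Subgroup.mem_inf.2 ⟨c.1.2, mem_centralizer_singleton_iff.2
            (congrArg Subtype.val (mem_centralizer_singleton_iff.1 c.2))⟩⟩
          invFun := fun c => ⟨⟨c.1, (Subgroup.mem_inf.1 c.2).1⟩, mem_centralizer_singleton_iff.2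
            (Subtype.ext (mem_centralizer_singleton_iff.1 (Subgroup.mem_inf.1 c.2).2))⟩
          left_inv := fun c => rfl
          right_inv := fun c => rfl }
    rw [hcc, cent_invol h ht] at hcl
    have hle := Nat.card_le_card_of_injective
      (fun v : {v : C // IsConj (⟨u, hXC huX⟩ : C) v} => (⟨v.1.1, by
        obtain ⟨c, hc⟩ := isConj_iff.1 v.2
        rw [← hc]
        exact hXM ▸ hconj c c.2 u huX⟩ : M))
      fun a b e => Subtype.ext (Subtype.ext (congrArg (fun q : M => q.1) e))
    rw [hM4] at hle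
    omega
  · let S : Sylow 2 G := Sylow.ofCard X (by
      rw [e]
      have := Basic.card_sylow_eq (p := 2) (default : Sylow 2 G)
      rw [card_two h] at this
      exact this)
    refine not_normal h ht S hXC fun c hc => mem_normalizer_iff.2 fun k => ⟨hconj c hc k, fun hk => ?_⟩
    show k ∈ X
    have := hconj c⁻¹ (inv_mem hc) _ hk
    simpa [mul_assoc] using this

end Cfsg.Agent.SmallSimple.Order2520
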