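import Cfsg.Agent.Lib.SmallSimple.Order2520.Frob

/-!
# The centralizer of an involution of a simple group of order 2520 has order 24
-/

set_option autoImplicit false
set_option linter.style.haveILetI false
set_option linter.unusedSectionVars false

namespace Cfsg.Agent.SmallSimple.Order2520

open Subgroup MulAction

variable {G : Type*} [Group G] [Finite G] [IsSimpleGroup G] (h : Nat.card G = 2520)
  [Fact (Nat.Prime 7)] [Fact (Nat.Prime 5)] [Fact (Nat.Prime 3)] [Fact (Nat.Prime 2)]
include h

theorem isConj_invol {u v : G} (hu : orderOf u = 2) (hv : orderOf v = 2) : IsConj u v := by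
  obtain ⟨x, y, -, hy, -⟩ := exists_setup h
  exact (isConj_sq_of_four h hy hu).trans (isConj_sq_of_four h hy hv).symm

theorem card_cent_invol {u v : G} (hu : orderOf u = 2) (hv : orderOf v = 2) :
    Nat.card (centralizer ({u} : Set G)) = Nat.card (centralizer ({v} : Set G)) := by
  have h1 := Basic.card_centralizer_mul_card_class u
  have h2 := Basic.card_centralizer_mul_card_class v
  have hc := isConj_invol h hu hv
  have hcls : Nat.card {g : G // IsConj u g} = Nat.card {g : G // IsConj v g} :=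
    Nat.card_congr (Equiv.subtypeEquivRight fun g => ⟨hc.symm.trans, hc.trans⟩)
  rw [hcls, ← h2] at h1
  haveI : Nonempty {g : G // IsConj v g} := ⟨⟨v, IsConj.refl _⟩⟩
  exact Nat.eq_of_mul_eq_mul_right Nat.card_pos h1

theorem exists_four (S : Sylow 2 G) : ∃ z ∈ (S : Subgroup G), orderOf z = 4 := by
  obtain ⟨x, y, -, hy, -⟩ := exists_setup h
  obtain ⟨T, hT⟩ := (IsPGroup.of_card (n := 2) (by rw [Nat.card_zpowers, hy]; rfl) :
    IsPGroup 2 (zpowers y)).exists_le_sylow
  obtain ⟨g, rfl⟩ := MulAction.exists_smul_eq G T S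
  refine ⟨g * y * g⁻¹, ?_, by
    rw [← hy]; exact orderOf_injective (MulAut.conj g).toMonoidHom (MulAut.conj g).injective y⟩
  rw [Sylow.smul_def, Sylow.pointwise_smul_def]
  exact ⟨y, hT (mem_zpowers y), rfl⟩

theorem sylow_le_cent_sq (S : Sylow 2 G) {z : G} (hzS : z ∈ (S : Subgroup G)) (hz : orderOf z = 4) :
    ∀ g ∈ (S : Subgroup G), g * z * g⁻¹ = z ∨ g * z * g⁻¹ = z⁻¹ := by
  intro s hs
  have hle : zpowers z ≤ (S : Subgroup G) := zpowers_le.2 hzS
  haveI hN : ((zpowers z).subgroupOf S).Normal := normal_of_index_eq_two (by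
    have := card_mul_index ((zpowers z).subgroupOf S)
    rw [Nat.card_congr (subgroupOfEquivOfLe hle).toEquiv, Nat.card_zpowers, hz, card_two h S] at this
    omega)
  have hc := hN.conj_mem ⟨z, hzS⟩ (by rw [mem_subgroupOf]; exact mem_zpowers z) ⟨s, hs⟩
  rw [mem_subgroupOf] at hc
  obtain ⟨i, hi⟩ := mem_zpowers_iff.1 hc
  simp only [Subgroup.coe_mul, InvMemClass.coe_inv] at hi
  have ho : orderOf (z ^ i) = 4 := by
    rw [hi, ← hz]
    exact orderOf_injective (MulAut.conj s).toMonoidHom (MulAut.conj s).injective z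
  have hi2 : ¬ (2 : ℤ) ∣ i := by
    rintro ⟨j, rfl⟩
    have : (z ^ (2 * j)) ^ 2 = 1 := by
      rw [← zpow_natCast, ← zpow_mul, ← orderOf_dvd_iff_zpow_eq_one, hz]
      exact ⟨j, by push_cast; ring⟩
    have h2 := orderOf_dvd_of_pow_eq_one this
    rw [ho] at h2
    norm_num at h2
  rw [← hi]
  rcases (show i % 4 = 1 ∨ i % 4 = 3 by omega) with e | e
  · left
    conv_rhs => rw [← zpow_one z]
    rw [zpow_eq_zpow_iff_modEq, hz]
    exact e
  · right
    rw [← zpow_neg_one, zpow_eq_zpow_iff_modEq, hz]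
    exact e

theorem mem_zpowers_four {z g : G} (hz : orderOf z = 4) (hg : g ∈ zpowers z) (hg2 : orderOf g = 2) :
    g = z ^ 2 := by
  obtain ⟨i, rfl⟩ := mem_zpowers_iff.1 hg
  have h2 : (4 : ℤ) ∣ i * 2 := by
    show ((4 : ℕ) : ℤ) ∣ _
    rw [← hz, orderOf_dvd_iff_zpow_eq_one, zpow_mul]
    exact_mod_cast (hg2 ▸ pow_orderOf_eq_one (z ^ i) : (z ^ i) ^ 2 = 1)
  have h4 : ¬ (4 : ℤ) ∣ i := fun h4 => by
    have : z ^ i = 1 := by
      rw [← orderOf_dvd_iff_zpow_eq_one, hz]
      exact_mod_cast h4
    rw [this, orderOf_one] at hg2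
    norm_num at hg2
  rw [← zpow_natCast, zpow_eq_zpow_iff_modEq, hz, Int.modEq_iff_dvd]
  push_cast
  omega

/-- A Sylow 2-subgroup with two involutions is dihedral. -/
theorem sylow_shape (S : Sylow 2 G) {z u : G} (hzS : z ∈ (S : Subgroup G)) (hz : orderOf z = 4)
    (huS : u ∈ (S : Subgroup G)) (hu : orderOf u = 2) (hne : u ≠ z ^ 2) :
    u * z * u⁻¹ = z⁻¹ ∧ (∀ g ∈ (S : Subgroup G), g ∈ zpowers z ∨ u * g ∈ zpowers z) := by
  have hle : zpowers z ≤ (S : Subgroup G) := zpowers_le.2 hzS
  have huz : u ∉ zpowers z := fun hm => hne (mem_zpowers_four h hz hm hu)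
  have hidx : ((zpowers z).subgroupOf S).index = 2 := by
    have := card_mul_index ((zpowers z).subgroupOf S)
    rw [Nat.card_congr (subgroupOfEquivOfLe hle).toEquiv, Nat.card_zpowers, hz, card_two h S] at this
    omega
  have hdec : ∀ g ∈ (S : Subgroup G), g ∈ zpowers z ∨ u * g ∈ zpowers z := by
    intro g hg
    have := mul_mem_iff_of_index_two hidx (a := ⟨u, huS⟩) (b := ⟨g, hg⟩)
    simp only [mem_subgroupOf, Subgroup.coe_mul, huz, false_iff] at this
    by_cases hgz : g ∈ zpowers z
    · exact Or.inl hgz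
    · exact Or.inr (this.2 hgz)
  refine ⟨(sylow_le_cent_sq h S hzS hz u huS).resolve_left fun hc => ?_, hdec⟩
  -- otherwise the Sylow subgroup is abelian and fusion fails
  have hu2 : u * u = 1 := by rw [← pow_two, ← hu, pow_orderOf_eq_one]
  have huz' : Commute u z := mul_inv_eq_iff_eq_mul.1 hc
  have hcomm : ∀ g ∈ (S : Subgroup G), ∃ (i : ℤ) (j : ℕ), g = u ^ j * z ^ i := by
    intro g hg
    rcases hdec g hg with hm | hm <;> obtain ⟨i, hi⟩ := mem_zpowers_iff.1 hm
    · exact ⟨i, 0, by simp [hi]⟩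
    · exact ⟨i, 1, by rw [pow_one, hi, ← mul_assoc, hu2, one_mul]⟩
  have hab : (S : Subgroup G) ≤ centralizer ((S : Subgroup G) : Set G) := by
    intro a ha b hb
    obtain ⟨i, j, rfl⟩ := hcomm a ha
    obtain ⟨k, l, rfl⟩ := hcomm b hb
    have c1 : Commute (u ^ l) (u ^ j * z ^ i) :=
      ((Commute.refl u).pow_pow l j).mul_right ((huz'.pow_left l).zpow_right i)
    have c2 : Commute (z ^ k) (u ^ j * z ^ i) :=
      ((huz'.symm.zpow_left k).pow_right j).mul_right (Commute.zpow_zpow_self z k i)
    exact (c1.mul_left c2).eq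
  obtain ⟨g, hg⟩ := isConj_iff.1 (isConj_invol h (orderOf_sq h hz) hu)
  obtain ⟨n, hn, he⟩ := S.conj_eq_normalizer_conj_of_mem_centralizer (z ^ 2) g⁻¹
    (hab (pow_mem hzS 2)) (by rw [inv_inv, hg]; exact hab huS)
  rw [inv_inv, hg] at he
  have hw : n⁻¹ * z * n ∈ (S : Subgroup G) := by
    simpa using (mem_normalizer_iff.1 ((normalizer _).inv_mem hn) z).1 hzS
  obtain ⟨i, j, hij⟩ := hcomm _ hw
  apply huz
  rw [he, show n⁻¹ * z ^ 2 * n = (n⁻¹ * z * n) ^ 2 by rw [pow_two, pow_two]; group, hij,
    ((huz'.pow_left j).zpow_right i).mul_pow, ← pow_mul, mul_comm j 2, pow_mul, pow_two u, hu2,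
    one_pow, one_mul]
  exact pow_mem (zpow_mem (mem_zpowers z) i) 2

/-- The elements of a Sylow 2-subgroup with two involutions outside the cyclic subgroup of order four
have order two. -/
theorem order_outside (S : Sylow 2 G) {z u g : G} (hzS : z ∈ (S : Subgroup G)) (hz : orderOf z = 4)
    (huS : u ∈ (S : Subgroup G)) (hu : orderOf u = 2) (hne : u ≠ z ^ 2) (hgS : g ∈ (S : Subgroup G))
    (hg : g ∉ zpowers z) : orderOf g = 2 := by
  obtain ⟨hinv, hdec⟩ := sylow_shape h S hzS hz huS hu hne
  have hu2 : u * u = 1 := by rw [← pow_two, ← hu, pow_orderOf_eq_one]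
  obtain ⟨i, hi⟩ := mem_zpowers_iff.1 ((hdec g hgS).resolve_left hg)
  refine orderOf_eq_prime ?_ fun e => hg (e ▸ one_mem _)
  have hg' : g = u * z ^ i := by rw [hi, ← mul_assoc, hu2, one_mul]
  have huu : u⁻¹ = u := inv_eq_of_mul_eq_one_right hu2
  rw [hg', pow_two]
  calc u * z ^ i * (u * z ^ i) = (u * z ^ i * u⁻¹) * z ^ i := by rw [huu]; group
    _ = 1 := by rw [← conj_zpow, hinv, inv_zpow, inv_mul_cancel]

/-- Either one involution or five involutions. -/
theorem invol_count (S : Sylow 2 G) :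
    (∀ z ∈ (S : Subgroup G), orderOf z = 4 → ∀ u ∈ (S : Subgroup G), orderOf u = 2 → u = z ^ 2) ∧
        Nat.card {u : G // u ∈ (S : Subgroup G) ∧ orderOf u = 2} = 1 ∨
      Nat.card {u : G // u ∈ (S : Subgroup G) ∧ orderOf u = 2} = 5 := by
  classical
  haveI := Fintype.ofFinite G
  obtain ⟨z, hzS, hz⟩ := exists_four h S
  by_cases hu : ∃ u ∈ (S : Subgroup G), orderOf u = 2 ∧ u ≠ z ^ 2
  · right
    obtain ⟨u, huS, hu, hne⟩ := hu
    have hS := card_two h S
    have hz4 : Nat.card (zpowers z) = 4 := by rw [Nat.card_zpowers, hz]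
    rw [Nat.card_eq_fintype_card, Fintype.card_subtype]
    have e : (Finset.univ.filter fun g => g ∈ (S : Subgroup G) ∧ orderOf g = 2) =
        insert (z ^ 2) ((Finset.univ.filter (· ∈ (S : Subgroup G))) \
          (Finset.univ.filter (· ∈ zpowers z))) := by
      ext g
      simp only [Finset.mem_filter, Finset.mem_univ, true_and, Finset.mem_insert, Finset.mem_sdiff]
      constructor
      · rintro ⟨hgS, hg⟩
        by_cases hgz : g ∈ zpowers z
        · exact Or.inl (mem_zpowers_four h hz hgz hg)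
        · exact Or.inr ⟨hgS, hgz⟩
      · rintro (rfl | ⟨hgS, hgz⟩)
        · exact ⟨pow_mem hzS 2, orderOf_sq h hz⟩
        · exact ⟨hgS, order_outside h S hzS hz huS hu hne hgS hgz⟩
    have hc : ∀ H : Subgroup G, (Finset.univ.filter (· ∈ H)).card = Nat.card H := fun H => by
      rw [Nat.card_eq_fintype_card, Fintype.card_subtype]
    rw [e, Finset.card_insert_of_notMem (by simp [pow_mem (mem_zpowers z) 2]),
      Finset.card_sdiff_of_subset (fun g hg => by
        simp only [Finset.mem_filter, Finset.mem_univ, true_and] at hg ⊢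
        exact zpowers_le.2 hzS hg), hc, hc, hS, hz4]
  · left
    push Not at hu
    refine ⟨fun z' hz'S hz' u huS hu2 => (hu u huS hu2).trans
      (hu _ (pow_mem hz'S 2) (orderOf_sq h hz')).symm,
      Nat.card_eq_one_iff_exists.2 ⟨⟨z ^ 2, pow_mem hzS 2, orderOf_sq h hz⟩,
        fun u => Subtype.ext (hu u.1 u.2.1 u.2.2)⟩⟩

theorem cent_prime_five {g : G} (hg1 : g ≠ 1) (hg : ¬ 5 ∣ orderOf g) :
    ¬ 5 ∣ Nat.card (centralizer ({g} : Set G)) := by
  intro hd
  obtain ⟨x, hx⟩ := exists_prime_orderOf_dvd_card' (G := centralizer ({g} : Set G)) 5 hd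
  have hxo : orderOf (x : G) = 5 := by rw [orderOf_coe]; exact hx
  have hgx : g ∈ centralizer ({(x : G)} : Set G) :=
    mem_centralizer_singleton_iff.2 (mem_centralizer_singleton_iff.1 x.2).symm
  have := orderOf_dvd_natCard (⟨g, hgx⟩ : centralizer ({(x : G)} : Set G))
  rw [Subgroup.orderOf_mk, card_cent_five h hxo] at this
  rcases (Nat.dvd_prime (by norm_num : Nat.Prime 5)).1 this with e | e
  · exact hg1 (orderOf_eq_one_iff.1 e)
  · exact hg (e ▸ dvd_rfl)

theorem cent_dvd_72 {g : G} (hg1 : g ≠ 1) (hg5 : ¬ 5 ∣ orderOf g) (hg7 : ¬ 7 ∣ orderOf g) :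
    Nat.card (centralizer ({g} : Set G)) ∣ 72 := by
  have h5 := cent_prime_five h hg1 hg5
  have h7 := not_seven_dvd h hg1 hg7
  have hd : Nat.card (centralizer ({g} : Set G)) ∣ 72 * 5 * 7 := by
    rw [show 72 * 5 * 7 = Nat.card G from h.symm]
    exact card_subgroup_dvd_card _
  exact ((Nat.Prime.coprime_iff_not_dvd (by norm_num)).2 h5).symm.dvd_of_dvd_mul_right
    (((Nat.Prime.coprime_iff_not_dvd (by norm_num)).2 h7).symm.dvd_of_dvd_mul_right hd)

theorem invol_ne_one {u : G} (hu : orderOf u = 2) : u ≠ 1 := fun e => by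
  rw [e, orderOf_one] at hu
  norm_num at hu

theorem cent_invol_cases {t : G} (ht : orderOf t = 2) :
    Nat.card (centralizer ({t} : Set G)) = 8 ∨ Nat.card (centralizer ({t} : Set G)) = 24 ∨
      Nat.card (centralizer ({t} : Set G)) = 72 := by
  have h72 := cent_dvd_72 h (invol_ne_one h ht) (by rw [ht]; norm_num) (by rw [ht]; norm_num)
  have h8 := eight_dvd h ht
  have key : ∀ c ∈ Nat.divisors 72, 8 ∣ c → c = 8 ∨ c = 24 ∨ c = 72 := by decide +kernel
  exact key _ (Nat.mem_divisors.2 ⟨h72, by norm_num⟩) h8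

/-- A Sylow 2-subgroup has five involutions, unless it has only one. In the latter case there would be
too many elements of even order. -/
theorem cent_invol {t : G} (ht : orderOf t = 2) :
    Nat.card (centralizer ({t} : Set G)) = 24 := by
  obtain ⟨x, y, hx, hy, hyN⟩ := exists_setup h
  rw [card_cent_invol h ht (orderOf_sq h hy)]
  set t₀ := y ^ 2
  have ht₀ : orderOf t₀ = 2 := orderOf_sq h hy
  have hm := Basic.card_centralizer_mul_card_class t₀
  rw [h] at hm
  rcases cent_invol_cases h ht₀ with h8 | h24 | h72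
  · exfalso
    rw [h8] at hm
    obtain ⟨S, hS⟩ := (IsPGroup.of_card (n := 2) (by rw [Nat.card_zpowers, hy]; rfl) :
      IsPGroup 2 (zpowers y)).exists_le_sylow
    have hyS : y ∈ (S : Subgroup G) := hS (mem_zpowers y)
    have hSc : (S : Subgroup G) = centralizer ({t₀} : Set G) := by
      refine eq_of_le_of_card_ge (fun g hg => mem_centralizer_singleton_iff.2 ?_)
        (by rw [h8, card_two h S])
      have e : g * t₀ * g⁻¹ = t₀ := by
        rw [← conj_pow]
        rcases sylow_le_cent_sq h S hyS hy g hg with e | e <;> rw [e]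
        rw [inv_pow, inv_eq_iff_mul_eq_one, ← pow_add, show 2 + 2 = orderOf y from hy.symm,
          pow_orderOf_eq_one]
      exact mul_inv_eq_iff_eq_mul.1 e
    have hfm := SixteenFour.fixed_mul (centralizer ({t₀} : Set G)) t₀
    have hidx : (centralizer ({t₀} : Set G)).index = 315 := by
      have := card_mul_index (centralizer ({t₀} : Set G))
      rw [h8, h] at this
      omega
    have hf : Nat.card {g : G // IsConj t₀ g ∧ g ∈ centralizer ({t₀} : Set G)} =
        Nat.card {u : G // u ∈ (S : Subgroup G) ∧ orderOf u = 2} := by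
      refine Nat.card_congr (Equiv.subtypeEquivRight fun g => ?_)
      rw [hSc]
      exact ⟨fun hg => ⟨hg.2, by
        obtain ⟨c, rfl⟩ := isConj_iff.1 hg.1
        rw [← ht₀]; exact orderOf_injective (MulAut.conj c).toMonoidHom (MulAut.conj c).injective _⟩,
        fun hg => ⟨isConj_invol h ht₀ hg.2, hg.1⟩⟩
    rw [hidx, hf] at hfm
    have h4 := four_dvd_card_sub h (α := G ⧸ centralizer ({t₀} : Set G)) ht₀
    rw [show Nat.card (G ⧸ centralizer ({t₀} : Set G)) = 315 from hidx] at h4
    rw [show Nat.card {g : G // IsConj t₀ g} = 315 by omega] at hfm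
    rcases invol_count h S with ⟨-, e⟩ | e <;> rw [e] at hfm <;> omega
  · exact h24
  · exfalso
    rw [h72] at hm
    have hp := pairs_le h hx hy hyN (M := ⊤) le_top
    rw [card_top, h, top_inf_eq, card_normalizer_x h hx,
      Nat.card_congr (Equiv.subtypeEquivRight (p := fun r => ∃ m ∈ (⊤ : Subgroup G), m * y ^ 2 * m⁻¹ = r)
        (q := fun r => IsConj t₀ r) fun r => by simp [isConj_iff]; rfl)] at hp
    rw [show Nat.card {r : G // IsConj t₀ r} = 35 by omega] at hp
    norm_num at hp

/-- Elements of odd order in the centralizer of an involution. -/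
theorem card_odd_le {t : G} (ht : orderOf t = 2) [Fintype G] [DecidableEq G]
    [DecidablePred (· ∈ centralizer ({t} : Set G))] :
    (Finset.univ.filter fun g => g ∈ centralizer ({t} : Set G) ∧ ¬ 2 ∣ orderOf g).card ≤ 9 := by
  classical
  set C := centralizer ({t} : Set G) with hC
  have hC24 : Nat.card C = 24 := cent_invol h ht
  have hn : Nat.card (Sylow 3 C) ≤ 4 := by
    have hd := (default : Sylow 3 C).card_dvd_index
    have hi := card_mul_index ((default : Sylow 3 C) : Subgroup C)
    rw [show Nat.card ((default : Sylow 3 C) : Subgroup C) = 3 by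
      simpa using Basic.card_sylow_eq_pow (a := 1) (m := 8) (by rw [hC24]; norm_num) (by norm_num)
        (default : Sylow 3 C), hC24] at hi
    rw [show ((default : Sylow 3 C) : Subgroup C).index = 8 by omega] at hd
    have hmod := card_sylow_modEq_one 3 C
    rw [Nat.ModEq] at hmod
    have key : ∀ n ∈ Nat.divisors 8, n % 3 = 1 % 3 → n ≤ 4 := by decide +kernel
    exact key _ (Nat.mem_divisors.2 ⟨hd, by norm_num⟩) hmod
  haveI := Fintype.ofFinite (Sylow 3 C)
  let U : Finset G := insert 1 ((Finset.univ : Finset (Sylow 3 C)).biUnion fun W =>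
    ((Finset.univ.filter fun g => g ∈ (W : Subgroup C).map C.subtype).erase 1))
  refine (Finset.card_le_card (t := U) ?_).trans ?_
  · intro g hg
    simp only [Finset.mem_filter, Finset.mem_univ, true_and] at hg
    obtain ⟨hgC, hodd⟩ := hg
    by_cases hg1 : g = 1
    · simp [U, hg1]
    have hd := orderOf_dvd_natCard (⟨g, hgC⟩ : C)
    rw [hC24, Subgroup.orderOf_mk] at hd
    have key : ∀ n ∈ Nat.divisors 24, ¬ 2 ∣ n → n = 1 ∨ n = 3 := by decide +kernel
    rcases key _ (Nat.mem_divisors.2 ⟨hd, by norm_num⟩) hodd with e | e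
    · exact absurd (orderOf_eq_one_iff.1 e) hg1
    obtain ⟨W, hW⟩ := (IsPGroup.of_card (n := 1) (by
      rw [Nat.card_zpowers, Subgroup.orderOf_mk, e, pow_one]) :
      IsPGroup 3 (zpowers (⟨g, hgC⟩ : C))).exists_le_sylow
    simp only [U, Finset.mem_insert, Finset.mem_biUnion, Finset.mem_univ, true_and, Finset.mem_erase,
      Finset.mem_filter]
    exact Or.inr ⟨W, hg1, ⟨⟨g, hgC⟩, hW (mem_zpowers _), rfl⟩⟩
  · refine (Finset.card_insert_le _ _).trans ?_
    refine Nat.add_le_add_right (Finset.card_biUnion_le.trans ?_) 1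
    refine (Finset.sum_le_sum (g := fun _ => 2) fun W _ => ?_).trans ?_
    · rw [Finset.card_erase_of_mem (Finset.mem_filter.2 ⟨Finset.mem_univ _, one_mem _⟩), ← Fintype.card_subtype, ← Nat.card_eq_fintype_card]
      have : Nat.card ((W : Subgroup C).map C.subtype) = 3 := by
        rw [card_map_of_injective C.subtype_injective]
        simpa using Basic.card_sylow_eq_pow (a := 1) (m := 8) (by rw [hC24]; norm_num) (by norm_num) W
      change Nat.card ((W : Subgroup C).map C.subtype) - 1 ≤ 2
      omega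
    · rw [Finset.sum_const, Finset.card_univ, ← Nat.card_eq_fintype_card, smul_eq_mul]
      omega

theorem seven_not_real {c : G} (hc : orderOf c = 7) : ¬ IsConj c c⁻¹ := by
  intro hcc
  obtain ⟨g, hg⟩ := isConj_iff.1 hcc
  obtain ⟨P, hcP, hc1⟩ := exists_sylow (card_seven h) hc
  have hP := Centralize.sylow_le_iff_mem hcP hc1 (card_seven h P)
  have hgN : g ∈ normalizer ((P : Subgroup G) : Set G) := by
    rw [← hP]
    have key : ∀ k ∈ zpowers c, g * k * g⁻¹ ∈ zpowers c := fun k hk => by
      obtain ⟨i, rfl⟩ := mem_zpowers_iff.1 hk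
      rw [← conj_zpow, hg]
      exact zpow_mem (inv_mem (mem_zpowers c)) _
    have hmap : (zpowers c).map (MulAut.conj g).toMonoidHom = zpowers c := by
      refine eq_of_le_of_card_ge ?_ (by rw [card_map_of_injective (MulAut.conj g).injective])
      rintro _ ⟨k, hk, rfl⟩
      exact key k hk
    refine mem_normalizer_iff.2 fun k => ⟨key k, fun hk => ?_⟩
    rw [← hmap] at hk
    obtain ⟨k', hk', e⟩ := hk
    exact (MulAut.conj g).injective e ▸ hk'
  have hd := orderOf_dvd_natCard (⟨g, hgN⟩ : normalizer ((P : Subgroup G) : Set G))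
  rw [Subgroup.orderOf_mk, (cent_seven h P).2] at hd
  have hg21 : g ^ 21 = 1 := orderOf_dvd_iff_pow_eq_one.1 hd
  have hpow : ∀ k : ℕ, g ^ (2 * k) * c * (g ^ (2 * k))⁻¹ = c := by
    intro k
    induction k with
    | zero => simp
    | succ k ih =>
      calc g ^ (2 * (k + 1)) * c * (g ^ (2 * (k + 1)))⁻¹
          = g * (g * (g ^ (2 * k) * c * (g ^ (2 * k))⁻¹) * g⁻¹) * g⁻¹ := by
            rw [show 2 * (k + 1) = 2 * k + 1 + 1 by ring, pow_succ', pow_succ']; group
        _ = g * c⁻¹ * g⁻¹ := by rw [ih, hg]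
        _ = (g * c * g⁻¹)⁻¹ := by group
        _ = c := by rw [hg, inv_inv]
  have h10 := hpow 10
  rw [show g ^ (2 * 10) = g⁻¹ from eq_inv_of_mul_eq_one_left (by rw [← pow_succ]; exact hg21),
    inv_inv] at h10
  have : c * c = 1 := by
    have e : g * c * g⁻¹ = c := by
      calc g * c * g⁻¹ = g * (g⁻¹ * c * g) * g⁻¹ := by rw [h10]
        _ = c := by group
    rw [hg, inv_eq_iff_mul_eq_one] at e
    exact e
  rw [← pow_two] at this
  have := orderOf_dvd_of_pow_eq_one this
  rw [hc] at this
  norm_num at this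

/-- Every Sylow 2-subgroup has five involutions. -/
theorem five_invol (S : Sylow 2 G) :
    Nat.card {u : G // u ∈ (S : Subgroup G) ∧ orderOf u = 2} = 5 := by
  refine (invol_count h S).resolve_left fun hh => ?_
  have h1 := hh.2
  classical
  haveI := Fintype.ofFinite G
  -- commuting involutions are equal
  have huniq : ∀ u v : G, orderOf u = 2 → orderOf v = 2 → Commute u v → u = v := by
    intro u v hu hv huv
    by_contra hne
    have h2u : u * u = 1 := by rw [← pow_two, ← hu, pow_orderOf_eq_one]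
    have h2v : v * v = 1 := by rw [← pow_two, ← hv, pow_orderOf_eq_one]
    obtain ⟨M, hM, hle, hge⟩ := klein h2u h2v huv.eq
    have hcard : Nat.card M = 2 ^ 2 :=
      le_antisymm hle (hge (invol_ne_one h hu) (invol_ne_one h hv) hne)
    obtain ⟨T, hT⟩ := (IsPGroup.of_card hcard : IsPGroup 2 M).exists_le_sylow
    obtain ⟨g, hg⟩ := MulAction.exists_smul_eq G T S
    have hmem : ∀ w ∈ (T : Subgroup G), g * w * g⁻¹ ∈ (S : Subgroup G) := fun w hw => by
      rw [← hg, Sylow.smul_def, Sylow.pointwise_smul_def]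
      exact ⟨w, hw, rfl⟩
    obtain ⟨⟨w₀, hw₀⟩, huni⟩ := Nat.card_eq_one_iff_exists.1 h1
    have e : ∀ w ∈ M, orderOf w = 2 → g * w * g⁻¹ = w₀ := fun w hw hwo =>
      congrArg Subtype.val (huni ⟨g * w * g⁻¹, hmem w (hT hw), by
        rw [← hwo]; exact orderOf_injective (MulAut.conj g).toMonoidHom (MulAut.conj g).injective w⟩)
    exact hne (mul_left_cancel (mul_right_cancel
      ((e u ((hM u).2 (Or.inr (Or.inl rfl))) hu).trans
        (e v ((hM v).2 (Or.inr (Or.inr (Or.inl rfl)))) hv).symm)))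
  let I : Finset G := Finset.univ.filter fun u => orderOf u = 2
  let E : G → Finset G := fun u =>
    Finset.univ.filter fun g => g ∈ centralizer ({u} : Set G) ∧ 2 ∣ orderOf g
  have hI : I.card = 105 := by
    obtain ⟨x, y, -, hy, -⟩ := exists_setup h
    have hm := Basic.card_centralizer_mul_card_class (y ^ 2)
    rw [cent_invol h (orderOf_sq h hy), h] at hm
    rw [show I.card = Nat.card {g : G // IsConj (y ^ 2) g} by
      rw [Nat.card_eq_fintype_card, Fintype.card_subtype]
      congr 1
      ext g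
      simp only [I, Finset.mem_filter, Finset.mem_univ, true_and]
      exact ⟨fun hg => isConj_invol h (orderOf_sq h hy) hg, fun hg => by
        obtain ⟨c, rfl⟩ := isConj_iff.1 hg
        exact (orderOf_injective (MulAut.conj c).toMonoidHom (MulAut.conj c).injective _).trans
          (orderOf_sq h hy)⟩]
    omega
  have hE : ∀ u ∈ I, 15 ≤ (E u).card := by
    intro u hu
    have hu2 : orderOf u = 2 := (Finset.mem_filter.1 hu).2
    have hsplit := Finset.card_filter_add_card_filter_not
      (s := Finset.univ.filter fun g => g ∈ centralizer ({u} : Set G)) (fun g => 2 ∣ orderOf g)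
    rw [Finset.filter_filter, Finset.filter_filter, ← Fintype.card_subtype (· ∈ centralizer ({u} : Set G)),
      ← Nat.card_eq_fintype_card] at hsplit
    have h24 : Nat.card {g : G // g ∈ centralizer ({u} : Set G)} = 24 := cent_invol h hu2
    have hodd := card_odd_le h hu2
    change (E u).card + _ = _ at hsplit
    omega
  have hdisj : (I : Set G).PairwiseDisjoint E := by
    intro u hu v hv hne
    rw [Function.onFun, Finset.disjoint_left]
    intro g hgu hgv
    simp only [E, Finset.mem_filter, Finset.mem_univ, true_and] at hgu hgv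
    have hu2 : orderOf u = 2 := (Finset.mem_filter.1 hu).2
    have hv2 : orderOf v = 2 := (Finset.mem_filter.1 hv).2
    obtain ⟨k, hk⟩ := hgu.2
    have hk0 : 0 < k := by
      have := orderOf_pos g
      omega
    have hwo : orderOf (g ^ k) = 2 := by
      rw [orderOf_pow' _ hk0.ne', hk, Nat.gcd_eq_right ⟨2, mul_comm 2 k⟩, Nat.mul_div_cancel _ hk0]
    exact hne ((huniq u _ hu2 hwo
      ((show Commute g u from mem_centralizer_singleton_iff.1 hgu.1).pow_left k).symm).trans
      (huniq v _ hv2 hwo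
        ((show Commute g v from mem_centralizer_singleton_iff.1 hgv.1).pow_left k).symm).symm)
  obtain ⟨x, hx⟩ := exists_prime_orderOf_dvd_card' (G := G) 5 (by rw [h]; norm_num)
  obtain ⟨c, hc⟩ := exists_prime_orderOf_dvd_card' (G := G) 7 (by rw [h]; norm_num)
  let K : G → Finset G := fun a => Finset.univ.filter fun g => IsConj a g
  have hK : ∀ a, Nat.card (centralizer ({a} : Set G)) * (K a).card = 2520 := fun a => by
    rw [← h, ← Basic.card_centralizer_mul_card_class a, Nat.card_eq_fintype_card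
      (α := {g : G // IsConj a g}), Fintype.card_subtype]
  have hKo : ∀ a g, g ∈ K a → orderOf g = orderOf a := fun a g hg => by
    obtain ⟨d, rfl⟩ := isConj_iff.1 (Finset.mem_filter.1 hg).2
    exact orderOf_injective (MulAut.conj d).toMonoidHom (MulAut.conj d).injective a
  have hKx := hK x
  rw [card_cent_five h hx] at hKx
  have hKc := hK c
  rw [coprime_seven h hc] at hKc
  have hKci := hK c⁻¹
  rw [coprime_seven h (by rw [orderOf_inv, hc])] at hKci
  have d1 : Disjoint (K c) (K c⁻¹) := Finset.disjoint_left.2 fun g hg hg' =>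
    seven_not_real h hc (((Finset.mem_filter.1 hg).2).trans (Finset.mem_filter.1 hg').2.symm)
  have d2 : Disjoint (K x) (K c ∪ K c⁻¹) := Finset.disjoint_left.2 fun g hg hg' => by
    have h5 := hKo _ _ hg
    rcases Finset.mem_union.1 hg' with e | e <;> have h7 := hKo _ _ e
    · rw [h5, hx, hc] at h7; omega
    · rw [h5, hx, orderOf_inv, hc] at h7; omega
  have d3 : Disjoint (I.biUnion E) (K x ∪ (K c ∪ K c⁻¹)) := Finset.disjoint_left.2 fun g hg hg' => by
    obtain ⟨u, -, hgu⟩ := Finset.mem_biUnion.1 hg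
    have h2 := (Finset.mem_filter.1 hgu).2.2
    rcases Finset.mem_union.1 hg' with e | e
    · rw [hKo _ _ e, hx] at h2; omega
    · rcases Finset.mem_union.1 e with e | e <;> rw [hKo _ _ e] at h2
      · rw [hc] at h2; omega
      · rw [orderOf_inv, hc] at h2; omega
  have htot := Finset.card_le_univ (I.biUnion E ∪ (K x ∪ (K c ∪ K c⁻¹)))
  rw [Finset.card_union_of_disjoint d3, Finset.card_union_of_disjoint d2,
    Finset.card_union_of_disjoint d1, Finset.card_biUnion hdisj, ← Nat.card_eq_fintype_card, h] at htot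
  have hsum : 105 * 15 ≤ ∑ u ∈ I, (E u).card := by
    have := Finset.card_nsmul_le_sum I (fun u => (E u).card) 15 hE
    rwa [hI, smul_eq_mul] at this
  omega

end Cfsg.Agent.SmallSimple.Order2520
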