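import Cfsg.Agent.Lib.SmallSimple.Order2520.Good
import Cfsg.Agent.Lib.SmallSimple.Exceptional
import Cfsg.Agent.Lib.CharTheory.DihedralEight

/-!
# A representation of degree 6 of a simple group of order 2520
-/

set_option autoImplicit false
set_option linter.style.haveILetI false
set_option linter.unusedSectionVars false
set_option linter.unusedVariables false
set_option linter.unusedSimpArgs false

namespace Cfsg.Agent.SmallSimple.Order2520

open Subgroup MulAction Cfsg.Agent.Characters Cfsg.Agent.OddChar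
open scoped BigOperators

universe u

variable {G : Type u} [Group G]

/-- Vectors fixed by a subgroup. -/
noncomputable def W {n : ℕ} (ρ : Representation ℂ G (Fin n → ℂ)) (H : Subgroup G) :
    Submodule ℂ (Fin n → ℂ) :=
  Representation.invariants (ρ.comp H.subtype : Representation ℂ H (Fin n → ℂ))

section W

variable {n : ℕ} (ρ : Representation ℂ G (Fin n → ℂ))

theorem mem_W {H : Subgroup G} {v : Fin n → ℂ} : v ∈ W ρ H ↔ ∀ g ∈ H, ρ g v = v :=
  ⟨fun h g hg => h ⟨g, hg⟩, fun h g => h g g.2⟩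

theorem W_anti {H K : Subgroup G} (hHK : H ≤ K) : W ρ K ≤ W ρ H := fun _ hv =>
  (mem_W ρ).2 fun g hg => (mem_W ρ).1 hv g (hHK hg)

/-- The stabilizer of a set of vectors. -/
def fixer (s : Submodule ℂ (Fin n → ℂ)) : Subgroup G where
  carrier := {g | ∀ v ∈ s, ρ g v = v}
  one_mem' := fun v _ => by simp
  mul_mem' := fun {a b} ha hb v hv => by rw [map_mul, Module.End.mul_apply, hb v hv, ha v hv]
  inv_mem' := fun {a} ha v hv => by
    conv_lhs => rw [← ha v hv]
    rw [← Module.End.mul_apply, ← map_mul, inv_mul_cancel, map_one, Module.End.one_apply]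

theorem mem_fixer {s : Submodule ℂ (Fin n → ℂ)} {g : G} :
    g ∈ fixer ρ s ↔ ∀ v ∈ s, ρ g v = v := Iff.rfl

theorem le_fixer {H : Subgroup G} {s : Submodule ℂ (Fin n → ℂ)} (hs : s ≤ W ρ H) : H ≤ fixer ρ s :=
  fun g hg v hv => (mem_W ρ).1 (hs hv) g hg

theorem le_W_fixer {s : Submodule ℂ (Fin n → ℂ)} : s ≤ W ρ (fixer ρ s) := fun v hv =>
  (mem_W ρ).2 fun _ hg => hg v hv

theorem W_sup (H K : Subgroup G) : W ρ (H ⊔ K) = W ρ H ⊓ W ρ K :=
  le_antisymm (le_inf (W_anti ρ le_sup_left) (W_anti ρ le_sup_right)) fun _ hv =>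
    (W_anti ρ (sup_le (le_fixer ρ inf_le_left) (le_fixer ρ inf_le_right))) (le_W_fixer ρ hv)

/-- Two subgroups over a common subgroup with large fixed spaces fix a common vector. -/
theorem W_sup_ne_bot {H₀ H K : Subgroup G} (hH : H₀ ≤ H) (hK : H₀ ≤ K)
    (hlt : Module.finrank ℂ (W ρ H₀) < Module.finrank ℂ (W ρ H) + Module.finrank ℂ (W ρ K)) :
    W ρ (H ⊔ K) ≠ ⊥ := by
  intro h0
  have h1 := Submodule.finrank_sup_add_finrank_inf_eq (W ρ H) (W ρ K)
  rw [← W_sup, h0, finrank_bot] at h1
  have h2 := Submodule.finrank_mono (sup_le (W_anti ρ hH) (W_anti ρ hK))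
  omega

/-- The sum of the character over a subgroup. -/
noncomputable def charSum [Fintype G] (H : Subgroup G) : ℂ :=
  open Classical in ∑ g ∈ Finset.univ.filter (· ∈ H), ρ.character g

theorem charSum_eq [Fintype G] (H : Subgroup G) :
    charSum ρ H = (Nat.card H : ℂ) * (Module.finrank ℂ (W ρ H) : ℂ) := by
  classical
  haveI := Fintype.ofFinite H
  haveI : Invertible (Nat.card H : ℂ) := invertibleOfNonzero Characters.natCard_ne_zero
  rw [W, ← Representation.card_inv_mul_sum_char_eq_finrank, ← mul_assoc,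
    mul_inv_cancel₀ Characters.natCard_ne_zero, one_mul, charSum]
  exact Finset.sum_subtype _ (fun g => by simp) _

end W

theorem key1 (d : ℕ) (hd : d < 51) (h1 : 1 < d) (h2 : d ∣ 2520) (h5 : d % 5 = 1)
    (h7 : d % 7 ≠ 2 ∧ d % 7 ≠ 5) : d = 6 ∨ d = 21 ∨ d = 36 := by
  interval_cases d <;> omega

theorem key2 (d : ℕ) (hd : d < 51) (h1 : 1 < d) (h2 : d ∣ 2520) (h5 : d % 5 = 4)
    (h7 : d % 7 ≠ 2 ∧ d % 7 ≠ 5) : d = 4 ∨ d = 14 ∨ d = 24 := by
  interval_cases d <;> omega

variable [Finite G] [IsSimpleGroup G] (h : Nat.card G = 2520)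
  [Fact (Nat.Prime 7)] [Fact (Nat.Prime 5)] [Fact (Nat.Prime 3)] [Fact (Nat.Prime 2)]
include h

theorem selfCent_five {x : G} (hx : orderOf x = 5) :
    Exceptional.SelfCent (zpowers x) ∧
      (zpowers x).relIndex (normalizer (zpowers x : Set G)) = 4 := by
  refine ⟨⟨fun e => ?_, fun z hz hz1 => ?_⟩, ?_⟩
  · have : x ∈ zpowers x := mem_zpowers x
    rw [e, mem_bot] at this
    rw [this, orderOf_one] at hx
    norm_num at hx
  · have hd := orderOf_dvd_natCard (⟨z, hz⟩ : zpowers x)
    rw [Subgroup.orderOf_mk, Nat.card_zpowers, hx] at hd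
    have ho : orderOf z = 5 := ((Nat.dvd_prime (by norm_num : Nat.Prime 5)).1 hd).resolve_left
      fun e => hz1 (orderOf_eq_one_iff.1 e)
    rw [cent_five_eq h ho]
    exact eq_of_le_of_card_ge (zpowers_le.2 hz) (by rw [Nat.card_zpowers, Nat.card_zpowers, hx, ho])
  · have hm := relIndex_mul_relIndex ⊥ (zpowers x) _ bot_le (le_normalizer (H := zpowers x))
    rw [relIndex_bot_left, relIndex_bot_left, Nat.card_zpowers, hx, card_normalizer_x h hx] at hm
    omega

variable [Fintype G]

/-- The coefficients are bounded. -/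
theorem coeff_sq_le {P : Subgroup G} (hP : Exceptional.SelfCent P) {e : ℕ}
    (he : P.relIndex (normalizer (P : Set G)) = e) {φ : P →* ℂˣ} (hφ : φ ≠ 1)
    {χ : Cfsg.IrrCharacter G} (hχ : χ ≠ trivIrr G) : Exceptional.a P φ χ ^ 2 ≤ (e : ℤ) := by
  classical
  haveI := Fintype.ofFinite (Cfsg.IrrCharacter G)
  haveI : Finite (P →* ℂˣ) :=
    Nat.finite_of_card_ne_zero (by rw [Exceptional.card_dual hP]; exact Nat.card_pos.ne')
  haveI := Fintype.ofFinite (P →* ℂˣ)
  have hgen := Exceptional.A_isGen (G := G) φ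
  have hsq : ∑ χ, Exceptional.a P φ χ ^ 2 = (e : ℤ) + 1 := by
    refine Lattice.sum_sq_of_norm hgen ?_
    rw [Exceptional.inner_A_eq hP hφ hφ, if_pos ((Exceptional.sameOrbit_equivalence P).refl φ), he]
    push_cast; rfl
  have htriv : Exceptional.a P φ (trivIrr G) = 1 :=
    Lattice.coeff_eq_of_inner (by simpa using Exceptional.inner_A_one hφ)
  rw [← Finset.add_sum_erase Finset.univ _ (Finset.mem_univ (trivIrr G)), htriv] at hsq
  have := Finset.single_le_sum (f := fun χ => Exceptional.a P φ χ ^ 2) (fun χ _ => sq_nonneg _)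
    (Finset.mem_erase.2 ⟨hχ, Finset.mem_univ χ⟩)
  linarith

/-- A nontrivial irreducible character of degree 4 or 6, with its restriction to a Sylow
5-subgroup. -/
theorem exists_degree {x : G} (hx : orderOf x = 5) :
    ∃ (χ : Cfsg.IrrCharacter G) (d : ℕ) (f : ℤ), χ ≠ trivIrr G ∧ (χ : G → ℂ) 1 = (d : ℂ) ∧
      (d = 4 ∧ f = -1 ∨ d = 6 ∧ f = 1) ∧
      ∑ y : zpowers x, (χ : G → ℂ) y = (d : ℂ) + 4 * (f : ℂ) := by
  classical
  have hG := notComm h
  obtain ⟨hP, he⟩ := selfCent_five h hx
  set P := zpowers x with hPdef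
  have hPc : Nat.card P = 5 := by rw [hPdef, Nat.card_zpowers, hx]
  obtain ⟨P7, hP7, he7, hP7c⟩ := Orders.exists_selfCent (p := 7) (m := 360) (n := 120) (e := 3) hG
    (by rw [h]) (by norm_num) (by norm_num) (by norm_num) (n7 h)
  haveI := Fintype.ofFinite (Cfsg.IrrCharacter G)
  haveI : Finite (P →* ℂˣ) :=
    Nat.finite_of_card_ne_zero (by rw [Exceptional.card_dual hP]; exact Nat.card_pos.ne')
  haveI := Fintype.ofFinite (P →* ℂˣ)
  haveI : Finite (P7 →* ℂˣ) :=
    Nat.finite_of_card_ne_zero (by rw [Exceptional.card_dual hP7]; exact Nat.card_pos.ne')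
  haveI := Fintype.ofFinite (P7 →* ℂˣ)
  obtain ⟨r, hr1, -, hsum⟩ := Exceptional.exists_reps hP (t := 1) he (by rw [hPc])
  obtain ⟨r7, hr71, -, hsum7⟩ := Exceptional.exists_reps hP7 (t := 2) he7 (by rw [hP7c])
  choose deg hdeg0 hdeg using fun χ : Cfsg.IrrCharacter G => irr_one_pos χ.2
  let f : Cfsg.IrrCharacter G → ℤ := Exceptional.a P (r 0)
  have hgen := Exceptional.A_isGen (G := G) (r 0)
  have hsq : ∑ χ, f χ ^ 2 = 5 := by
    refine Lattice.sum_sq_of_norm hgen ?_
    rw [Exceptional.inner_A_eq hP (hr1 0) (hr1 0),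
      if_pos ((Exceptional.sameOrbit_equivalence P).refl (r 0)), he]
    norm_num
  have hdz : ∑ χ, f χ * (deg χ : ℤ) = 0 := by
    have := Lattice.apply_eq_sum hgen 1
    rw [Exceptional.A_one] at this
    simp only [hdeg] at this
    exact_mod_cast this.symm
  have htriv : f (trivIrr G) = 1 :=
    Lattice.coeff_eq_of_inner (by simpa using Exceptional.inner_A_one (hr1 0))
  have hdtriv : deg (trivIrr G) = 1 := by
    have h := hdeg (trivIrr G)
    simp only [trivIrr_coe] at h
    exact_mod_cast h.symm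
  set R := (Finset.univ.erase (trivIrr G)).filter (fun χ => f χ ≠ 0) with hR
  have hmem : ∀ χ ∈ R, χ ≠ trivIrr G ∧ f χ ≠ 0 := fun χ hχ => by
    simp only [hR, Finset.mem_filter, Finset.mem_erase] at hχ; exact ⟨hχ.1.1, hχ.2⟩
  have hR4 : ∑ χ ∈ R, f χ ^ 2 = 4 := by
    rw [hR, Finset.sum_filter_of_ne (by intro χ _ h e; simp [e] at h)]
    rw [← Finset.add_sum_erase Finset.univ _ (Finset.mem_univ (trivIrr G)), htriv] at hsq
    linarith
  have hRd : 1 + ∑ χ ∈ R, f χ * (deg χ : ℤ) = 0 := by
    rw [hR, Finset.sum_filter_of_ne (by intro χ _ h e; simp [e] at h)]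
    rw [← Finset.add_sum_erase Finset.univ _ (Finset.mem_univ (trivIrr G)), htriv, hdtriv] at hdz
    push_cast at hdz
    linarith
  have hd1 : ∀ χ ∈ R, 1 < deg χ := fun χ hχ => Exceptional.degree_ne_one hG (hmem χ hχ).1 (hdeg χ)
  have hone : ∀ χ ∈ R, f χ = 1 ∨ f χ = -1 := by
    intro χ hχ
    by_contra hne
    push Not at hne
    have h0 := (hmem χ hχ).2
    have h4 : 4 ≤ f χ ^ 2 := by
      have : 2 ≤ f χ ∨ f χ ≤ -2 := by omega
      rcases this with h | h <;> nlinarith
    rw [← Finset.add_sum_erase R _ hχ] at hR4 hRd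
    have hrest : ∀ ψ ∈ R.erase χ, False := fun ψ hψ => by
      have h1 : (1 : ℤ) ≤ f ψ ^ 2 := Int.add_one_le_iff.2 (sq_pos_of_ne_zero
        (hmem ψ (Finset.mem_of_mem_erase hψ)).2)
      have := Finset.single_le_sum (f := fun ψ => f ψ ^ 2) (fun ψ _ => sq_nonneg _) hψ
      linarith
    rw [Finset.eq_empty_of_forall_notMem hrest, Finset.sum_empty, add_zero] at hRd
    have hdvd : (deg χ : ℤ) ∣ 1 := ⟨-f χ, by linarith⟩
    have := hd1 χ hχ
    have := Int.le_of_dvd (by norm_num) hdvd
    omega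
  have hcand : ∀ χ ∈ R, (f χ = 1 ∧ (deg χ = 6 ∨ deg χ = 21 ∨ deg χ = 36)) ∨
      (f χ = -1 ∧ (deg χ = 4 ∨ deg χ = 14 ∨ deg χ = 24)) := by
    intro χ hχ
    have hne := (hmem χ hχ).1
    have hdvd : deg χ ∣ 2520 := by
      obtain ⟨d, hd1, -, hd2⟩ := irr_degree_dvd_card χ.2
      have : deg χ = d := by exact_mod_cast (hdeg χ).symm.trans hd1
      exact this ▸ h ▸ hd2
    have hle : deg χ < 51 := by
      have hh := sum_degree_sq (G := G)
      simp only [hdeg] at hh
      have h' : ∑ χ : Cfsg.IrrCharacter G, deg χ ^ 2 = Nat.card G := by exact_mod_cast hh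
      have := Finset.single_le_sum (f := fun χ : Cfsg.IrrCharacter G => deg χ ^ 2)
        (fun χ _ => Nat.zero_le _) (Finset.mem_univ χ)
      rw [h', h] at this
      by_contra hh
      have := Nat.pow_le_pow_left (show 51 ≤ deg χ by omega) 2
      omega
    have h5 := Exceptional.degree_congr hP χ (hdeg χ)
    rw [hPc, hsum χ, Fin.sum_univ_one] at h5
    have h7 := Exceptional.degree_congr hP7 χ (hdeg χ)
    rw [hP7c, hsum7 χ, Fin.sum_univ_two] at h7
    have ha := coeff_sq_le h hP7 he7 (hr71 0) hne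
    have hb := coeff_sq_le h hP7 he7 (hr71 1) hne
    generalize Exceptional.a P7 (r7 0) χ = a at h7 ha
    generalize Exceptional.a P7 (r7 1) χ = b at h7 hb
    push_cast at ha hb
    have ha1 : -1 ≤ a ∧ a ≤ 1 := by constructor <;> nlinarith
    have hb1 : -1 ≤ b ∧ b ≤ 1 := by constructor <;> nlinarith
    change ((5 : ℕ) : ℤ) ∣ (deg χ : ℤ) + ((4 : ℕ) : ℤ) * f χ at h5
    push_cast at h5 h7
    have hmod7 : deg χ % 7 ≠ 2 ∧ deg χ % 7 ≠ 5 := by omega
    rcases hone χ hχ with e | e <;> rw [e] at h5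
    · exact Or.inl ⟨e, key1 _ hle (hd1 χ hχ) hdvd (by omega) hmod7⟩
    · exact Or.inr ⟨e, key2 _ hle (hd1 χ hχ) hdvd (by omega) hmod7⟩
  obtain ⟨χ, hχR, hχd⟩ : ∃ χ ∈ R, deg χ = 4 ∨ deg χ = 6 := by
    by_contra hno
    push Not at hno
    have hcnt : ∀ g : Cfsg.IrrCharacter G → ℤ, (∀ v : ℕ → ℤ, (∀ χ ∈ R, g χ = v (deg χ)) →
        ∑ χ ∈ R, g χ = ((R.filter (deg · = 14)).card : ℤ) * v 14 + (R.filter (deg · = 21)).card * v 21 +
          (R.filter (deg · = 24)).card * v 24 + (R.filter (deg · = 36)).card * v 36) := by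
      intro g v hg
      rw [Finset.sum_congr rfl hg,
        ← Finset.sum_fiberwise_of_maps_to (g := deg) (t := ({14, 21, 24, 36} : Finset ℕ)) (fun χ hχ => by
          simp only [Finset.mem_insert, Finset.mem_singleton]
          have := hno χ hχ
          rcases hcand χ hχ with ⟨-, e⟩ | ⟨-, e⟩ <;> omega)]
      have e : ∀ d : ℕ, ∑ χ ∈ R.filter (deg · = d), v (deg χ) = ((R.filter (deg · = d)).card : ℤ) * v d :=
        fun d => by
          rw [Finset.sum_congr rfl (g := fun _ => v d) fun χ hχ => by rw [(Finset.mem_filter.1 hχ).2],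
            Finset.sum_const, nsmul_eq_mul]
      simp only [e, Finset.sum_insert (by simp : (14 : ℕ) ∉ ({21, 24, 36} : Finset ℕ)),
        Finset.sum_insert (by simp : (21 : ℕ) ∉ ({24, 36} : Finset ℕ)),
        Finset.sum_insert (by simp : (24 : ℕ) ∉ ({36} : Finset ℕ)), Finset.sum_singleton]
      ring
    have e1 := hcnt (fun χ => f χ ^ 2) (fun _ => 1) fun χ hχ => by
      rcases hone χ hχ with e | e <;> simp [e]
    have e2 := hcnt (fun χ => f χ * (deg χ : ℤ))
      (fun d => if d = 14 then -14 else if d = 24 then -24 else (d : ℤ)) fun χ hχ => by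
      have := hno χ hχ
      rcases hcand χ hχ with ⟨e, he⟩ | ⟨e, he⟩ <;> rw [e]
      · rcases he with he | he | he <;> simp [he] at this ⊢
      · rcases he with he | he | he <;> simp [he] at this ⊢
    rw [hR4] at e1
    norm_num at e1 e2
    rw [e2] at hRd
    omega
  refine ⟨χ, deg χ, f χ, (hmem χ hχR).1, hdeg χ, ?_, ?_⟩
  · rcases hcand χ hχR with ⟨e, he⟩ | ⟨e, he⟩ <;> omega
  · obtain ⟨m, hm, ha⟩ := Exceptional.exists_mult hP χ
    have h1 := hm 1
    simp only [OneMemClass.coe_one, hdeg, map_one, Units.val_one, mul_one] at h1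
    have hz : ∀ φ : P →* ℂˣ, ∑ y : P, ((φ y : ℂˣ) : ℂ) = if φ = 1 then 5 else 0 := by
      intro φ
      split_ifs with hφ
      · subst hφ
        simp [← Nat.card_eq_fintype_card, hPc]
      · refine sum_hom_units_eq_zero ((Units.coeHom ℂ).comp φ) fun e => hφ ?_
        exact MonoidHom.ext fun y => Units.ext (DFunLike.congr_fun e y)
    rw [Finset.sum_congr rfl fun y _ => hm y, Finset.sum_comm]
    simp only [← Finset.mul_sum, hz, mul_ite, mul_zero, Finset.sum_ite_eq', Finset.mem_univ, if_true]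
    rw [h1]
    have hs := hsum χ
    rw [Fin.sum_univ_one, Finset.sum_congr rfl fun φ _ => ha φ, Finset.sum_sub_distrib,
      Finset.sum_const, Finset.card_univ, ← Nat.card_eq_fintype_card, Exceptional.card_dual hP, hPc,
      nsmul_eq_mul] at hs
    have hs' : ((5 : ℂ) * (m 1 : ℂ)) - ∑ φ, (m φ : ℂ) = 4 * (f χ : ℂ) := by
      have := congrArg (fun z : ℤ => (z : ℂ)) hs
      push_cast at this
      exact this
    linear_combination hs'

theorem mem_zpowers_of_five {x g : G} (hx : orderOf x = 5) (hg : orderOf g = 5)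
    (hgN : g ∈ normalizer (zpowers x : Set G)) : g ∈ zpowers x := by
  obtain ⟨P, hxP, hx1⟩ := exists_sylow (card_five h) hx
  have hz := Centralize.sylow_le_iff_mem hxP hx1 (card_five h P)
  obtain ⟨Q, hgQ, hg1⟩ := exists_sylow (card_five h) hg
  rw [hz] at hgN ⊢
  have := eq_of_fixed (card_five h Q) hgQ hg1 (Sylow.smul_eq_iff_mem_normalizer.2 hgN)
  exact this ▸ hgQ

theorem order_normalizer {x g : G} (hx : orderOf x = 5)
    (hgN : g ∈ normalizer (zpowers x : Set G)) :
    g ∈ zpowers x ∨ orderOf g = 2 ∨ orderOf g = 4 := by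
  have hd := orderOf_dvd_natCard (⟨g, hgN⟩ : normalizer (zpowers x : Set G))
  rw [Subgroup.orderOf_mk, card_normalizer_x h hx] at hd
  have key : ∀ n ∈ Nat.divisors 20, n = 1 ∨ n = 2 ∨ n = 4 ∨ n = 5 ∨ n = 10 ∨ n = 20 := by decide +kernel
  have hno : ∀ k, orderOf g = 5 * k → 1 < k → False := by
    intro k hk hk1
    have ho : orderOf (g ^ k) = 5 := by
      rw [orderOf_pow' _ (by omega), hk, Nat.gcd_eq_right ⟨5, mul_comm 5 k⟩,
        Nat.mul_div_cancel _ (by omega)]
    have hgC : g ∈ centralizer ({g ^ k} : Set G) :=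
      mem_centralizer_singleton_iff.2 ((Commute.refl g).pow_right k).eq
    have hd' := orderOf_dvd_natCard (⟨g, hgC⟩ : centralizer ({g ^ k} : Set G))
    rw [Subgroup.orderOf_mk, card_cent_five h ho, hk] at hd'
    have := Nat.le_of_dvd (by norm_num) hd'
    omega
  rcases key _ (Nat.mem_divisors.2 ⟨hd, by norm_num⟩) with e | e | e | e | e | e
  · exact Or.inl (orderOf_eq_one_iff.1 e ▸ one_mem _)
  · exact Or.inr (Or.inl e)
  · exact Or.inr (Or.inr e)
  · exact Or.inl (mem_zpowers_of_five h hx e hgN)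
  · exact absurd (hno 2 e (by norm_num)) id
  · exact absurd (hno 4 e (by norm_num)) id

/-- The properties of the representation of degree six. -/
structure SixRep {n : ℕ} (ρ : Representation ℂ G (Fin n → ℂ)) : Prop where
  W_top : W ρ ⊤ = ⊥
  one : ρ.character 1 = 6
  two : ∀ u : G, orderOf u = 2 → ρ.character u = 2
  four : ∀ g : G, orderOf g = 4 → ρ.character g = 0
  normalizer : ∀ x : G, orderOf x = 5 →
    Module.finrank ℂ (W ρ (normalizer (zpowers x : Set G))) = 1
  dih : ∀ x : G, orderOf x = 5 → Module.finrank ℂ (W ρ (Dih x)) = 2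

theorem exists_rep : ∃ (n : ℕ) (ρ : Representation ℂ G (Fin n → ℂ)), SixRep ρ := by
  classical
  have hG := notComm h
  obtain ⟨x₀, y₀, hx₀, hy₀, hyN₀⟩ := exists_setup h
  obtain ⟨χ, d, f, hne, hd, hdf, hP'⟩ := exists_degree h hx₀
  obtain ⟨n, ρ, hirr, hρ⟩ := χ.2
  haveI := hirr
  have hχeq : ∀ g, (χ : G → ℂ) g = ρ.character g := fun g => (congrFun hρ g).symm
  have hn : n = d := by
    have h1 := hχeq 1
    rw [hd, ρ.char_one, Module.finrank_fin_fun] at h1
    exact_mod_cast h1.symm
  subst n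
  refine ⟨d, ρ, ?_⟩
  have hWtop : W ρ ⊤ = ⊥ := by
    haveI : Invertible (Nat.card G : ℂ) := invertibleOfNonzero Characters.natCard_ne_zero
    have h0 := Characters.classInner_isIrr_ne (Characters.isIrrCharacter_character ρ)
      Characters.isIrrCharacter_one (fun e => hne (Subtype.ext (hρ.symm.trans (e.trans trivIrr_coe.symm))))
    rw [Characters.classInner_def] at h0
    simp only [map_one, mul_one] at h0
    rw [Representation.card_inv_mul_sum_char_eq_finrank] at h0
    have h0' : Module.finrank ℂ ρ.invariants = 0 := by exact_mod_cast h0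
    rw [Submodule.finrank_eq_zero] at h0'
    rw [eq_bot_iff]
    intro v hv
    rw [← h0']
    exact fun g => (mem_W ρ).1 hv g (mem_top g)
  have hclass : ∀ a b : G, IsConj a b → ρ.character a = ρ.character b := fun a b hab => by
    obtain ⟨c, rfl⟩ := isConj_iff.1 hab
    exact (ρ.char_conj a c).symm
  set t₀ := y₀ ^ 2
  have ht₀ : orderOf t₀ = 2 := orderOf_sq h hy₀
  obtain ⟨a, ha⟩ := CharTheory.DihedralEight.exists_int_value (irr_isCharacter χ) ht₀
  rw [hχeq] at ha
  have htwo : ∀ u : G, orderOf u = 2 → ρ.character u = (a : ℂ) := fun u hu =>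
    (hclass u t₀ (isConj_invol h hu ht₀)).trans ha
  set v := ρ.character y₀
  have hfour : ∀ g : G, orderOf g = 4 → ρ.character g = v := fun g hg =>
    (hclass y₀ g (isConj_four h hg hy₀)).symm
  have hab : |a| ≤ (d : ℤ) := by
    have hle := char_norm_le (irr_isCharacter χ) t₀
    rw [hχeq, ha, hd, Complex.norm_intCast, Complex.norm_natCast] at hle
    exact_mod_cast hle
  -- splitting sums
  have hsplit : ∀ (H P : Subgroup G) (n2 n4 : ℕ), P ≤ H →
      (∀ g ∈ H, g ∈ P ∨ orderOf g = 2 ∨ orderOf g = 4) →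
      (∀ g ∈ P, orderOf g ≠ 2 ∧ orderOf g ≠ 4) →
      Nat.card {g : G // g ∈ H ∧ orderOf g = 2} = n2 → Nat.card P + n2 + n4 = Nat.card H →
      charSum ρ H = charSum ρ P + (n2 : ℂ) * (a : ℂ) + (n4 : ℂ) * v := by
    intro H P n2 n4 hPH hall hPo h2 hc
    let A := Finset.univ.filter fun g => g ∈ H ∧ orderOf g = 2
    let B := Finset.univ.filter fun g => g ∈ H ∧ orderOf g = 4
    have e : Finset.univ.filter (· ∈ H) = Finset.univ.filter (· ∈ P) ∪ (A ∪ B) := by
      ext g
      simp only [A, B, Finset.mem_filter, Finset.mem_univ, true_and, Finset.mem_union]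
      constructor
      · intro hg
        rcases hall g hg with h | h | h
        · exact Or.inl h
        · exact Or.inr (Or.inl ⟨hg, h⟩)
        · exact Or.inr (Or.inr ⟨hg, h⟩)
      · rintro (hg | hg | hg)
        · exact hPH hg
        · exact hg.1
        · exact hg.1
    have d1 : Disjoint A B := Finset.disjoint_left.2 fun g hg hg' => by
      simp only [A, B, Finset.mem_filter, Finset.mem_univ, true_and] at hg hg'
      omega
    have d2 : Disjoint (Finset.univ.filter (· ∈ P)) (A ∪ B) := Finset.disjoint_left.2 fun g hg hg' => by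
      simp only [A, B, Finset.mem_filter, Finset.mem_univ, true_and, Finset.mem_union] at hg hg'
      rcases hg' with e | e
      · exact (hPo g hg).1 e.2
      · exact (hPo g hg).2 e.2
    have hA : A.card = n2 := by rw [← h2, Nat.card_eq_fintype_card, Fintype.card_subtype]
    have hcH : ∀ K : Subgroup G, (Finset.univ.filter (· ∈ K)).card = Nat.card K := fun K => by
      rw [Nat.card_eq_fintype_card, Fintype.card_subtype]
    have hB : B.card = n4 := by
      have := congrArg Finset.card e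
      rw [Finset.card_union_of_disjoint d2, Finset.card_union_of_disjoint d1, hcH, hcH, hA] at this
      omega
    rw [charSum, charSum]
    rw [e, Finset.sum_union d2, Finset.sum_union d1,
      Finset.sum_congr rfl (fun g hg => htwo g (Finset.mem_filter.1 hg).2.2 : ∀ g ∈ A, ρ.character g = (a : ℂ)),
      Finset.sum_congr rfl (fun g hg => hfour g (Finset.mem_filter.1 hg).2.2 : ∀ g ∈ B, ρ.character g = v),
      Finset.sum_const, Finset.sum_const, hA, hB, nsmul_eq_mul, nsmul_eq_mul]
    ring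
  have hfive : ∀ x y : G, orderOf x = 5 → orderOf y = 4 → y ∈ normalizer (zpowers x : Set G) →
      (10 * (Module.finrank ℂ (W ρ (Dih x)) : ℂ) = charSum ρ (zpowers x) + 5 * (a : ℂ)) ∧
      (20 * (Module.finrank ℂ (W ρ (normalizer (zpowers x : Set G))) : ℂ) =
        charSum ρ (zpowers x) + 5 * (a : ℂ) + 10 * v) := by
    intro x y hx hy hyN
    have hP : ∀ g ∈ zpowers x, orderOf g ≠ 2 ∧ orderOf g ≠ 4 := fun g hg => by
      have hd := orderOf_dvd_natCard (⟨g, hg⟩ : zpowers x)
      rw [Subgroup.orderOf_mk, Nat.card_zpowers, hx] at hd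
      rcases (Nat.dvd_prime (by norm_num : Nat.Prime 5)).1 hd with e | e <;> omega
    have h5 : Nat.card (zpowers x) = 5 := by rw [Nat.card_zpowers, hx]
    have hD := card_dih h hx hy hyN
    have hN := card_normalizer_x h hx
    have hinv := card_invol_normalizer h hx hy hyN
    constructor
    · have := hsplit (Dih x) (zpowers x) 5 0 (zpowers_le.2 (mem_dih.2 (Or.inl (by group)))) ?_ hP ?_
        (by rw [h5, hD])
      · rw [charSum_eq, hD] at this
        push_cast at this
        linear_combination this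
      · intro g hg
        rcases dih_cases h hx hy hyN hg with e | e
        · exact Or.inl e
        · refine Or.inr (Or.inl ?_)
          have ht : (y ^ 2)⁻¹ = y ^ 2 := by
            rw [inv_eq_iff_mul_eq_one, ← pow_add, show 2 + 2 = orderOf y from hy.symm, pow_orderOf_eq_one]
          have := order_two_of_tp h hx hy hyN e
          nth_rewrite 1 [← ht] at this
          rwa [inv_mul_cancel_left] at this
      · rw [← hinv]
        refine Nat.card_congr (Equiv.subtypeEquivRight fun g => ?_)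
        exact ⟨fun hg => ⟨hg.2, dih_le h hg.1⟩, fun hg => ⟨mem_dih_of_two h hx hg.1 hg.2, hg.1⟩⟩
    · have := hsplit _ (zpowers x) 5 10 le_normalizer (fun g hg => order_normalizer h hx hg) hP ?_
        (by rw [h5, hN])
      · rw [charSum_eq, hN] at this
        simp only [Nat.cast_ofNat] at this
        linear_combination this
      · rw [← hinv]
        exact Nat.card_congr (Equiv.subtypeEquivRight fun g => and_comm)
  have hsumP : ∀ x : G, orderOf x = 5 → charSum ρ (zpowers x) = 5 * (Module.finrank ℂ (W ρ (zpowers x)) : ℂ) := by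
    intro x hx
    rw [charSum_eq, Nat.card_zpowers, hx]
    norm_num
  -- the Sylow 2-subgroup
  obtain ⟨S, hS⟩ := (IsPGroup.of_card (n := 2) (by rw [Nat.card_zpowers, hy₀]; rfl) :
    IsPGroup 2 (zpowers y₀)).exists_le_sylow
  have hyS : y₀ ∈ (S : Subgroup G) := hS (mem_zpowers y₀)
  have heS : (8 : ℂ) * (Module.finrank ℂ (W ρ (S : Subgroup G)) : ℂ) = (d : ℂ) + 5 * (a : ℂ) + 2 * v := by
    have := hsplit (S : Subgroup G) ⊥ 5 2 bot_le ?_ ?_ (five_invol h S) (by rw [card_bot, card_two h S])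
    · rw [charSum_eq, charSum_eq, card_two h S, card_bot] at this
      have hb : Module.finrank ℂ (W ρ (⊥ : Subgroup G)) = d := by
        rw [show W ρ (⊥ : Subgroup G) = ⊤ from eq_top_iff.2 fun w _ => (mem_W ρ).2 fun g hg => by
          rw [mem_bot.1 hg, map_one, Module.End.one_apply], finrank_top, Module.finrank_fin_fun]
      rw [hb] at this
      push_cast at this
      linear_combination this
    · intro g hg
      by_cases hg1 : g = 1
      · exact Or.inl (mem_bot.2 hg1)
      obtain ⟨u, huS, hu, hune⟩ := exists_second h S y₀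
      by_cases hgy : g ∈ zpowers y₀
      · have hd' := orderOf_dvd_natCard (⟨g, hgy⟩ : zpowers y₀)
        rw [Subgroup.orderOf_mk, Nat.card_zpowers, hy₀, show 4 = 2 ^ 2 from rfl] at hd'
        obtain ⟨k, hk, hko⟩ := (Nat.dvd_prime_pow Nat.prime_two).1 hd'
        interval_cases k
        · exact absurd (orderOf_eq_one_iff.1 (by simpa using hko)) hg1
        · exact Or.inr (Or.inl (by simpa using hko))
        · exact Or.inr (Or.inr (by simpa using hko))
      · exact Or.inr (Or.inl (order_outside h S hyS hy₀ huS hu hune hg hgy))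
    · intro g hg
      rw [mem_bot.1 hg, orderOf_one]
      omega
  -- a four-group
  have h4 : ∃ l : ℕ, (4 : ℂ) * l = (d : ℂ) + 3 * (a : ℂ) := by
    obtain ⟨u, hu⟩ := exists_good h ht₀
    have h2t : t₀ * t₀ = 1 := by rw [← pow_two, ← ht₀, pow_orderOf_eq_one]
    have h2u : u * u = 1 := by rw [← pow_two, ← hu.ord, pow_orderOf_eq_one]
    obtain ⟨M, hM, hMle, hMge⟩ := klein h2t h2u hu.comm.symm.eq
    have hM4 : Nat.card M = 4 :=
      le_antisymm hMle (hMge (invol_ne_one h ht₀) (invol_ne_one h hu.ord) hu.ne.symm)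
    have hsq : ∀ g ∈ M, g * g = 1 := fun g hg => by
      rcases (hM g).1 hg with rfl | rfl | rfl | rfl
      · simp
      · exact h2t
      · exact h2u
      · rw [mul_assoc, ← mul_assoc u, hu.comm.eq, mul_assoc, h2u, mul_one, h2t]
    have hord : ∀ g ∈ M, g = 1 ∨ orderOf g = 2 := fun g hg => by
      by_cases hg1 : g = 1
      · exact Or.inl hg1
      · exact Or.inr (orderOf_eq_prime (by rw [pow_two]; exact hsq g hg) hg1)
    have h3 : Nat.card {g : G // g ∈ M ∧ orderOf g = 2} = 3 := by
      have hcH : (Finset.univ.filter (· ∈ M)).card = 4 := by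
        rw [← hM4, Nat.card_eq_fintype_card, Fintype.card_subtype]
      rw [Nat.card_eq_fintype_card, Fintype.card_subtype,
        show (Finset.univ.filter fun g => g ∈ M ∧ orderOf g = 2) =
          (Finset.univ.filter (· ∈ M)).erase 1 by
        ext g
        simp only [Finset.mem_filter, Finset.mem_univ, true_and, Finset.mem_erase]
        exact ⟨fun hg => ⟨invol_ne_one h hg.2, hg.1⟩, fun hg => ⟨hg.2, (hord g hg.2).resolve_left hg.1⟩⟩,
        Finset.card_erase_of_mem (by simp), hcH]
    have := hsplit M ⊥ 3 0 bot_le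
      (fun g hg => (hord g hg).imp (fun e => mem_bot.2 e) Or.inl)
      (fun g hg => by rw [mem_bot.1 hg, orderOf_one]; omega) h3 (by rw [card_bot, hM4])
    have hb : charSum ρ (⊥ : Subgroup G) = (d : ℂ) := by
      rw [charSum_eq, card_bot, show W ρ (⊥ : Subgroup G) = ⊤ from eq_top_iff.2 fun w _ =>
        (mem_W ρ).2 fun g hg => by rw [mem_bot.1 hg, map_one, Module.End.one_apply], finrank_top,
        Module.finrank_fin_fun]
      simp
    rw [charSum_eq, hM4, hb] at this
    exact ⟨Module.finrank ℂ (W ρ M), by push_cast at this; linear_combination this⟩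
  -- the involution is not in the kernel
  have hfaith : a ≠ (d : ℤ) := by
    intro had
    have hz : Nat.card (zpowers t₀) = 2 := by rw [Nat.card_zpowers, ht₀]
    have hsum : charSum ρ (zpowers t₀) = (d : ℂ) + (a : ℂ) := by
      rw [charSum, show Finset.univ.filter (· ∈ zpowers t₀) = {1, t₀} by
        ext g
        simp only [Finset.mem_filter, Finset.mem_univ, true_and, Finset.mem_insert, Finset.mem_singleton]
        constructor
        · intro hg
          obtain ⟨k, rfl⟩ := mem_zpowers_iff.1 hg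
          rcases Int.even_or_odd' k with ⟨j, rfl | rfl⟩
          · left
            rw [zpow_mul, show t₀ ^ (2 : ℤ) = 1 by exact_mod_cast (ht₀ ▸ pow_orderOf_eq_one t₀ : t₀ ^ 2 = 1),
              one_zpow]
          · right
            rw [zpow_add, zpow_mul, show t₀ ^ (2 : ℤ) = 1 by exact_mod_cast (ht₀ ▸ pow_orderOf_eq_one t₀ : t₀ ^ 2 = 1),
              one_zpow, one_mul, zpow_one]
        · rintro (rfl | rfl)
          · exact one_mem _
          · exact mem_zpowers _, Finset.sum_pair (Ne.symm (invol_ne_one h ht₀)), ρ.char_one,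
        Module.finrank_fin_fun, ha]
    rw [charSum_eq, hz, had] at hsum
    push_cast at hsum
    have hf : Module.finrank ℂ (W ρ (zpowers t₀)) = d := by
      have : (2 : ℂ) * (Module.finrank ℂ (W ρ (zpowers t₀)) : ℂ) = 2 * (d : ℂ) := by
        linear_combination hsum
      exact_mod_cast mul_left_cancel₀ (two_ne_zero) this
    have htop : W ρ (zpowers t₀) = ⊤ :=
      Submodule.eq_top_of_finrank_eq (by rw [hf, Module.finrank_fin_fun])
    have hker : t₀ ∈ ρ.ker := MonoidHom.mem_ker.2 (LinearMap.ext fun w =>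
      (mem_W ρ).1 (htop ▸ Submodule.mem_top : w ∈ W ρ (zpowers t₀)) t₀ (mem_zpowers t₀))
    rcases ρ.normal_ker.eq_bot_or_eq_top with e | e
    · rw [e, mem_bot] at hker
      exact invol_ne_one h ht₀ hker
    · have : W ρ ⊤ = ⊤ := eq_top_iff.2 fun w _ => (mem_W ρ).2 fun g _ => by
        rw [MonoidHom.mem_ker.1 (e ▸ mem_top g : g ∈ ρ.ker), Module.End.one_apply]
      rw [hWtop] at this
      have h1 := congrArg (fun s : Submodule ℂ (Fin d → ℂ) => Module.finrank ℂ s) this
      simp only [finrank_bot, finrank_top, Module.finrank_fin_fun] at h1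
      omega
  -- the arithmetic
  obtain ⟨hD₀, hN₀⟩ := hfive x₀ y₀ hx₀ hy₀ hyN₀
  obtain ⟨l, hl⟩ := h4
  have hPsum : ∀ x : G, orderOf x = 5 → charSum ρ (zpowers x) = charSum ρ (zpowers x₀) := by
    intro x hx
    obtain ⟨P, hxP, hx1⟩ := exists_sylow (card_five h) hx
    obtain ⟨Q, hxQ, hx1'⟩ := exists_sylow (card_five h) hx₀
    obtain ⟨g, hg⟩ := MulAction.exists_smul_eq G Q P
    rw [Centralize.sylow_le_iff_mem hxP hx1 (card_five h P),
      Centralize.sylow_le_iff_mem hxQ hx1' (card_five h Q)]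
    symm
    rw [charSum, charSum]
    refine Finset.sum_equiv (MulAut.conj g).toEquiv (fun k => ?_) fun k _ => ?_
    · simp only [Finset.mem_filter, Finset.mem_univ, true_and, MulEquiv.toEquiv_eq_coe,
        EquivLike.coe_coe, MulAut.conj_apply]
      rw [← hg, Sylow.smul_def, Sylow.pointwise_smul_def]
      constructor
      · exact fun hk => ⟨k, hk, rfl⟩
      · rintro ⟨k', hk', e⟩
        exact (MulAut.conj g).injective e ▸ hk'
    · simp only [MulEquiv.toEquiv_eq_coe, EquivLike.coe_coe, MulAut.conj_apply]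
      exact (ρ.char_conj k g).symm
  have hgoal : a = 2 ∧ d = 6 ∧ v = 0 ∧ Module.finrank ℂ (W ρ (normalizer (zpowers x₀ : Set G))) = 1 ∧
      Module.finrank ℂ (W ρ (Dih x₀)) = 2 ∧ Module.finrank ℂ (W ρ (zpowers x₀)) = 2 := by
    have hk := hsumP x₀ hx₀
    rw [hk] at hD₀ hN₀
    set k1 := Module.finrank ℂ (W ρ (zpowers x₀))
    set k := Module.finrank ℂ (W ρ (Dih x₀))
    set m := Module.finrank ℂ (W ρ (normalizer (zpowers x₀ : Set G)))
    set j := Module.finrank ℂ (W ρ (S : Subgroup G))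
    have hmk : m ≤ k := Submodule.finrank_mono (W_anti ρ (dih_le h))
    have hkk1 : k ≤ k1 := Submodule.finrank_mono
      (W_anti ρ (zpowers_le.2 (mem_dih.2 (Or.inl (by group)) : x₀ ∈ Dih x₀)))
    have hk1n : k1 ≤ d := (Submodule.finrank_le _).trans_eq (Module.finrank_fin_fun ℂ)
    have hk1 : (5 : ℤ) * k1 = (d : ℤ) + 4 * f := by
      have hχP : ∑ y : zpowers x₀, (χ : G → ℂ) y = (5 : ℂ) * (k1 : ℂ) := by
        rw [← hk, charSum, Finset.sum_subtype (p := (· ∈ zpowers x₀)) (Finset.univ.filter (· ∈ zpowers x₀)) (fun g => by simp)]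
        exact Finset.sum_congr rfl fun y _ => hχeq y
      have := hP'
      rw [hχP] at this
      exact_mod_cast this
    have e1 : (10 : ℤ) * k = 5 * k1 + 5 * a := by exact_mod_cast hD₀
    have e2 : (20 : ℤ) * m - 5 * k1 - 5 * a = 5 * (8 * j - d - 5 * a) := by
      apply Int.cast_injective (α := ℂ)
      push_cast
      linear_combination hN₀ - 5 * heS
    have e3 : (4 : ℤ) * l = d + 3 * a := by exact_mod_cast hl
    have hab' := abs_le.1 hab
    have hv : ∀ z : ℤ, 2 * z = 8 * j - d - 5 * a → v = (z : ℂ) := fun z hz => by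
      have hz' : (2 : ℂ) * z = 8 * (j : ℂ) - d - 5 * (a : ℂ) := by exact_mod_cast hz
      linear_combination (-(1 : ℂ) / 2) * hz' - (1 / 2 : ℂ) * heS
    rcases hdf with ⟨rfl, rfl⟩ | ⟨rfl, rfl⟩
    · exfalso; omega
    · have : a = 2 ∧ m = 1 ∧ k = 2 ∧ k1 = 2 ∧ (8 : ℤ) * j - 6 - 5 * a = 0 := by omega
      obtain ⟨ha', hm', hk', hk1', hj⟩ := this
      exact ⟨ha', rfl, by simpa using hv 0 (by push_cast; omega), hm', hk', hk1'⟩
  obtain ⟨ha2, hd6, hv0, -, -, hk1⟩ := hgoal
  refine ⟨hWtop, by rw [← hχeq, hd, hd6]; norm_num, fun u hu => by rw [htwo u hu, ha2]; norm_num,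
    fun g hg => by rw [hfour g hg, hv0], fun x hx => ?_, fun x hx => ?_⟩
  all_goals
    have hyx : ∃ y : G, orderOf y = 4 ∧ y ∈ normalizer (zpowers x : Set G) := by
      obtain ⟨P, hxP, hx1⟩ := exists_sylow (card_five h) hx
      obtain ⟨Q, hxQ, hx1'⟩ := exists_sylow (card_five h) hx₀
      obtain ⟨g, hg⟩ := MulAction.exists_smul_eq G Q P
      refine ⟨g * y₀ * g⁻¹,
        (orderOf_injective (MulAut.conj g).toMonoidHom (MulAut.conj g).injective y₀).trans hy₀, ?_⟩
      rw [Centralize.sylow_le_iff_mem hxP hx1 (card_five h P), ← hg]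
      refine Sylow.smul_eq_iff_mem_normalizer.1 ?_
      rw [mul_smul, inv_smul_smul, mul_smul, smul_left_cancel_iff]
      refine Sylow.smul_eq_iff_mem_normalizer.2 ?_
      show y₀ ∈ normalizer ((Q : Subgroup G) : Set G)
      rw [← Centralize.sylow_le_iff_mem hxQ hx1' (card_five h Q)]
      exact hyN₀
    obtain ⟨y, hy, hyN⟩ := hyx
    obtain ⟨e1, e2⟩ := hfive x y hx hy hyN
    rw [hPsum x hx, hsumP x₀ hx₀, hk1, ha2] at e1 e2
    rw [hv0] at e2
  · have : (20 : ℤ) * (Module.finrank ℂ (W ρ (normalizer (zpowers x : Set G))) : ℤ) = 20 := by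
      apply Int.cast_injective (α := ℂ)
      push_cast at e2 ⊢
      linear_combination e2
    omega
  · have : (10 : ℤ) * (Module.finrank ℂ (W ρ (Dih x)) : ℤ) = 20 := by
      apply Int.cast_injective (α := ℂ)
      push_cast at e1 ⊢
      linear_combination e1
    omega

end Cfsg.Agent.SmallSimple.Order2520
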