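import Cfsg.Agent.Lib.SmallSimple.Order2520.Tools
import Cfsg.Agent.Lib.SmallSimple.Orders

/-!
# Sylow subgroups for 5 and 7 in a simple group of order 2520
-/

set_option autoImplicit false
set_option linter.style.haveILetI false
set_option linter.unusedSectionVars false

namespace Cfsg.Agent.SmallSimple.Order2520

open Subgroup MulAction

variable {G : Type*} [Group G] [Finite G] [IsSimpleGroup G] (h : Nat.card G = 2520)
include h

theorem notComm : ¬ IsMulCommutative G :=
  Basic.not_comm_of_not_prime (by rw [h]; norm_num)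

theorem card_seven [Fact (Nat.Prime 7)] (P : Sylow 7 G) : Nat.card (P : Subgroup G) = 7 := by
  simpa using Basic.card_sylow_eq_pow (a := 1) (m := 360) (by rw [h]; norm_num) (by norm_num) P

theorem card_five [Fact (Nat.Prime 5)] (P : Sylow 5 G) : Nat.card (P : Subgroup G) = 5 := by
  simpa using Basic.card_sylow_eq_pow (a := 1) (m := 504) (by rw [h]; norm_num) (by norm_num) P

theorem card_two [Fact (Nat.Prime 2)] (S : Sylow 2 G) : Nat.card (S : Subgroup G) = 8 := by
  simpa using Basic.card_sylow_eq_pow (a := 3) (m := 315) (by rw [h]; norm_num) (by norm_num) S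

theorem normalizer_mul {p : ℕ} [Fact p.Prime] (P : Sylow p G) :
    Nat.card (normalizer ((P : Subgroup G) : Set G)) * Nat.card (Sylow p G) = 2520 :=
  (Basic.card_normalizer_mul P).trans h

theorem n7_cases [Fact (Nat.Prime 7)] : Nat.card (Sylow 7 G) = 36 ∨ Nat.card (Sylow 7 G) = 120 := by
  have hG := notComm h
  obtain ⟨hd, hm, h1, -⟩ := Basic.sylow_count (p := 7) hG (by rw [h]; norm_num) (a := 1) (m := 360)
    (by rw [h]; norm_num) (by norm_num)
  have key : ∀ n ∈ Nat.divisors 360, n % 7 = 1 → 1 < n → n = 8 ∨ n = 15 ∨ n = 36 ∨ n = 120 := by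
    decide +kernel
  have P : Sylow 7 G := default
  have hP := card_seven h P
  have hN := normalizer_mul h P
  obtain ⟨e, he, he1, hNe, h7C⟩ := Centralize.centralizer_data hG P hP
  have he6 : e ≤ 6 := Nat.le_of_dvd (by norm_num) he
  rcases key _ (Nat.mem_divisors.2 ⟨hd, by norm_num⟩) hm h1 with hn | hn | hn | hn
  · exfalso
    have hC := Centralize.card_centralizer_of_le hG (by norm_num) P hP (by omega)
    rw [hNe, hC, hn] at hN
    omega
  · exfalso
    refine Filter.no_involution hG (by norm_num) P hP (by omega) ?_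
    rw [hNe, hn] at hN
    interval_cases e <;> omega
  · exact Or.inl hn
  · exact Or.inr hn

theorem n5_cases [Fact (Nat.Prime 5)] :
    Nat.card (Sylow 5 G) = 21 ∨ Nat.card (Sylow 5 G) = 36 ∨ Nat.card (Sylow 5 G) = 126 := by
  have hG := notComm h
  obtain ⟨hd, hm, h1, hf⟩ := Basic.sylow_count (p := 5) hG (by rw [h]; norm_num) (a := 1) (m := 504)
    (by rw [h]; norm_num) (by norm_num)
  have key : ∀ n ∈ Nat.divisors 504, n % 5 = 1 → 1 < n →
      n = 6 ∨ n = 21 ∨ n = 36 ∨ n = 56 ∨ n = 126 := by decide +kernel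
  rcases key _ (Nat.mem_divisors.2 ⟨hd, by norm_num⟩) hm h1 with hn | hn | hn | hn | hn
  · rw [hn, h] at hf
    exact absurd (Nat.le_of_dvd (Nat.factorial_pos 6) hf) (by decide)
  · exact Or.inl hn
  · exact Or.inr (Or.inl hn)
  · exfalso
    have P : Sylow 5 G := default
    have hN := normalizer_mul h P
    obtain ⟨e, he, he1, hNe, h5C⟩ := Centralize.centralizer_data hG P (card_five h P)
    have he4 : e ≤ 4 := Nat.le_of_dvd (by norm_num) he
    rw [hNe, hn] at hN
    interval_cases e <;> omega
  · exact Or.inr (Or.inr hn)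

/-- If there are 36 Sylow 7-subgroups, the centralizers of elements of order 5 and 7 have order 35. -/
theorem cent_thirtyfive [Fact (Nat.Prime 7)] [Fact (Nat.Prime 5)] (h36 : Nat.card (Sylow 7 G) = 36) :
    (∀ P : Sylow 7 G, Nat.card (centralizer ((P : Subgroup G) : Set G)) = 35) ∧
      (∀ Q : Sylow 5 G, Nat.card (centralizer ((Q : Subgroup G) : Set G)) = 35) := by
  have hG := notComm h
  have h7 : ∀ P : Sylow 7 G, Nat.card (centralizer ((P : Subgroup G) : Set G)) = 35 := by
    intro P
    have hN := normalizer_mul h P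
    obtain ⟨e, he, he1, hNe, h7C⟩ := Centralize.centralizer_data hG P (card_seven h P)
    have he6 : e ≤ 6 := Nat.le_of_dvd (by norm_num) he
    rw [hNe, h36] at hN
    interval_cases e <;> omega
  refine ⟨h7, fun Q => ?_⟩
  have P : Sylow 7 G := default
  obtain ⟨z, hz⟩ := exists_prime_orderOf_dvd_card' (G := centralizer ((P : Subgroup G) : Set G)) 5
    (by rw [h7 P]; norm_num)
  have hzo : orderOf (z : G) = 5 := by rw [orderOf_coe]; exact hz
  obtain ⟨Q₀, hzQ, hz1⟩ := exists_sylow (card_five h) hzo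
  have h7N : 7 ∣ Nat.card (normalizer ((Q₀ : Subgroup G) : Set G)) := by
    refine (card_seven h P ▸ card_dvd_of_le (K := normalizer ((Q₀ : Subgroup G) : Set G)) ?_)
    refine le_trans ?_ (centralizer_le_normalizer _)
    rw [← cent_eq (card_five h Q₀) hzQ hz1]
    exact fun p hp => mem_centralizer_singleton_iff.2 (mem_centralizer_iff.1 z.2 p hp)
  have hn5 : Nat.card (Sylow 5 G) = 36 := by
    have hN := normalizer_mul h Q₀
    rcases n5_cases h with hn | hn | hn <;> rw [hn] at hN <;> omega
  have hN := normalizer_mul h Q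
  obtain ⟨e, he, he1, hNe, h5C⟩ := Centralize.centralizer_data hG Q (card_five h Q)
  have h7NQ : 7 ∣ Nat.card (centralizer ((Q : Subgroup G) : Set G)) * e := by
    rw [← hNe]
    have := normalizer_mul h Q₀
    rw [hn5] at this hN
    omega
  have he4 : e ≤ 4 := Nat.le_of_dvd (by norm_num) he
  rw [hNe, hn5] at hN
  interval_cases e <;> omega

/-- There are not 36 Sylow 7-subgroups: a self-centralising subgroup of order 35 would give an
irreducible character of degree 2. -/
theorem n7 [Fact (Nat.Prime 7)] [Fact (Nat.Prime 5)] : Nat.card (Sylow 7 G) = 120 := by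
  refine (n7_cases h).resolve_left fun h36 => ?_
  classical
  have hG := notComm h
  haveI := Fintype.ofFinite G
  obtain ⟨h7, h5⟩ := cent_thirtyfive h h36
  have P : Sylow 7 G := default
  have hP := card_seven h P
  obtain ⟨b, hbP, hb1, hb⟩ := exists_gen hP
  haveI : IsCyclic (P : Subgroup G) := isCyclic_of_prime_card hP
  set K := centralizer ((P : Subgroup G) : Set G) with hKdef
  obtain ⟨z, hz⟩ := exists_prime_orderOf_dvd_card' (G := K) 5 (by rw [h7 P]; norm_num)
  have hzo : orderOf (z : G) = 5 := by rw [orderOf_coe]; exact hz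
  have hbz : Commute b (z : G) := mem_centralizer_iff.1 z.2 b hbP
  set c := b * (z : G) with hc
  have hco : orderOf c = 35 := by
    rw [hc, hbz.orderOf_mul_eq_mul_orderOf_of_coprime (by rw [hb, hzo]; norm_num), hb, hzo]
  have hcK : c ∈ K := K.mul_mem (le_centralizer (P : Subgroup G) hbP) z.2
  have hK : K = zpowers c :=
    (eq_of_le_of_card_ge (zpowers_le.2 hcK) (by rw [h7 P, Nat.card_zpowers, hco])).symm
  have hcomm : ∀ u ∈ K, ∀ v ∈ K, u * v = v * u := by
    intro u hu v hv
    rw [hK] at hu hv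
    obtain ⟨i, rfl⟩ := hu
    obtain ⟨j, rfl⟩ := hv
    exact (Commute.zpow_zpow_self c i j).eq
  have hKle : ∀ x ∈ K, K ≤ centralizer ({x} : Set G) := fun x hx u hu =>
    mem_centralizer_singleton_iff.2 (hcomm u hu x hx)
  have hsc : Exceptional.SelfCent K := by
    refine ⟨fun e => ?_, fun x hx hx1 => (eq_of_le_of_card_ge (hKle x hx) ?_).symm⟩
    · have := h7 P
      rw [← hKdef, e, card_bot] at this
      omega
    rw [h7 P]
    have hd : orderOf x ∣ 35 := by
      have := orderOf_dvd_natCard (⟨x, hx⟩ : K)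
      rwa [Subgroup.orderOf_mk, h7 P] at this
    by_cases h7x : x ^ 7 = 1
    · obtain ⟨R, hxR, -⟩ := exists_sylow (card_seven h) (orderOf_eq_prime h7x hx1)
      rw [cent_eq (card_seven h R) hxR hx1, h7 R]
    · have hy : orderOf (x ^ 7) = 5 := orderOf_eq_prime
        (by rw [← pow_mul]; exact orderOf_dvd_iff_pow_eq_one.1 hd) h7x
      obtain ⟨R, hxR, hy1⟩ := exists_sylow (card_five h) hy
      have hle : centralizer ({x} : Set G) ≤ centralizer ({x ^ 7} : Set G) := fun u hu =>
        mem_centralizer_singleton_iff.2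
          ((show Commute u x from mem_centralizer_singleton_iff.1 hu).pow_right 7).eq
      exact (card_le_of_le hle).trans (by rw [cent_eq (card_five h R) hxR hy1, h5 R])
  set N := normalizer (K : Set G) with hN
  have hNP : N = normalizer ((P : Subgroup G) : Set G) := by
    have key : ∀ g ∈ N, ∀ y ∈ (P : Subgroup G), g * y * g⁻¹ ∈ (P : Subgroup G) := by
      intro g hg y hy
      by_cases hy1 : y = 1
      · subst hy1; simp
      have hyK : g * y * g⁻¹ ∈ K := (mem_normalizer_iff.1 hg y).1 (le_centralizer (P : Subgroup G) hy)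
      have h7y : (g * y * g⁻¹) ^ 7 = 1 := by
        have : y ^ 7 = 1 := by
          have := congrArg Subtype.val (pow_card_eq_one' (x := (⟨y, hy⟩ : (P : Subgroup G))))
          rwa [hP] at this
        rw [conj_pow, this]; simp
      rw [hK] at hyK
      obtain ⟨i, hi⟩ := mem_zpowers_iff.1 hyK
      rw [← hi] at h7y ⊢
      have h35 : (35 : ℤ) ∣ i * 7 := by
        show ((35 : ℕ) : ℤ) ∣ _
        rw [← hco, orderOf_dvd_iff_zpow_eq_one, zpow_mul]
        exact_mod_cast h7y
      obtain ⟨j, rfl⟩ : (5 : ℤ) ∣ i := by omega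
      rw [zpow_mul, hc, hbz.mul_zpow]
      have : (z : G) ^ (5 : ℤ) = 1 := by
        rw [show (5 : ℤ) = ((5 : ℕ) : ℤ) from rfl, zpow_natCast, ← hzo, pow_orderOf_eq_one]
      rw [this, mul_one]
      exact zpow_mem (zpow_mem hbP _) _
    refine le_antisymm (fun g hg => ?_) ?_
    · rw [mem_normalizer_iff]
      refine fun y => ⟨key g hg y, fun hy => ?_⟩
      have := key g⁻¹ (N.inv_mem hg) _ hy
      simpa [mul_assoc] using this
    · intro g hg
      rw [hN, mem_normalizer_iff]
      intro k
      have hsym : ∀ g' ∈ normalizer ((P : Subgroup G) : Set G), ∀ k' ∈ K, g' * k' * g'⁻¹ ∈ K := by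
        intro g' hg' k' hk'
        refine mem_centralizer_iff.2 fun y hy => ?_
        have hy' : g'⁻¹ * y * g' ∈ (P : Subgroup G) := by
          have := (mem_normalizer_iff.1 ((normalizer _).inv_mem hg') y).1 hy
          simpa using this
        have e := mem_centralizer_iff.1 hk' _ hy'
        calc y * (g' * k' * g'⁻¹) = g' * ((g'⁻¹ * y * g') * k') * g'⁻¹ := by group
          _ = g' * (k' * (g'⁻¹ * y * g')) * g'⁻¹ := by rw [e]
          _ = g' * k' * g'⁻¹ * y := by group
      refine ⟨hsym g hg k, fun hk => ?_⟩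
      have := hsym g⁻¹ ((normalizer _).inv_mem hg) _ hk
      simpa [mul_assoc] using this
  have he : K.relIndex N = 2 := by
    have hm := relIndex_mul_relIndex ⊥ K N bot_le (by rw [hNP]; exact centralizer_le_normalizer _)
    rw [relIndex_bot_left, relIndex_bot_left, h7 P, hNP] at hm
    have := normalizer_mul h P
    rw [h36] at this
    rw [hNP]
    omega
  obtain ⟨ε, c', X, s, hε, hX1, -, hXc, hsq, hlin, hbound, hs⟩ :=
    Exceptional.degree_data hG hsc (e := 2) (t := 17) he (by rw [h7 P]) (by norm_num)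
  have hr : 0 ≤ (s.map fun v => v.1 ^ 2).sum := Multiset.sum_nonneg fun x hx => by
    obtain ⟨v, -, rfl⟩ := Multiset.mem_map.1 hx
    positivity
  obtain ⟨rfl, hr1⟩ := Orders.c_eq_zero hε (by norm_num) hr hsq
  have hXle : X ≤ 12 := by
    by_contra hX
    have := Nat.pow_le_pow_left (show 13 ≤ X by omega) 2
    omega
  rw [h7 P] at hXc
  norm_num at hXc hr1 hlin
  have hX2 : X = 2 ∧ ε = -1 := by
    obtain ⟨k, hk⟩ := hXc
    rcases hε with rfl | rfl <;> constructor <;> omega
  obtain ⟨rfl, rfl⟩ := hX2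
  have hcard := Orders.multiset_card_le s fun v hv => (hs v hv).1
  rw [hr1] at hcard
  rcases Nat.le_one_iff_eq_zero_or_eq_one.1 (show Multiset.card s ≤ 1 by exact_mod_cast hcard) with
    h0 | h1
  · rw [Multiset.card_eq_zero.1 h0] at hr1; simp at hr1
  · obtain ⟨v, rfl⟩ := Multiset.card_eq_one.1 h1
    obtain ⟨-, hv2, -, -⟩ := hs v (by simp)
    simp only [Multiset.map_singleton, Multiset.sum_singleton] at hr1 hlin
    rcases sq_eq_one_iff.1 hr1 with h' | h' <;> rw [h'] at hlin <;> push_cast at hlin <;> omega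

theorem cent_seven [Fact (Nat.Prime 7)] [Fact (Nat.Prime 5)] (P : Sylow 7 G) :
    Nat.card (centralizer ((P : Subgroup G) : Set G)) = 7 ∧
      Nat.card (normalizer ((P : Subgroup G) : Set G)) = 21 := by
  obtain ⟨e, he, he1, hNe, h7C⟩ := Centralize.centralizer_data (notComm h) P (card_seven h P)
  have hN := normalizer_mul h P
  rw [n7 h] at hN
  have he6 : e ≤ 6 := Nat.le_of_dvd (by norm_num) he
  refine ⟨?_, by omega⟩
  rw [hNe] at hN
  interval_cases e <;> omega

theorem coprime_seven [Fact (Nat.Prime 7)] [Fact (Nat.Prime 5)] {x : G} (hx : orderOf x = 7) :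
    Nat.card (centralizer ({x} : Set G)) = 7 := by
  obtain ⟨P, hxP, hx1⟩ := exists_sylow (card_seven h) hx
  rw [cent_eq (card_seven h P) hxP hx1]
  exact (cent_seven h P).1

/-- No element of order 7 commutes with a nontrivial element of order prime to 7. -/
theorem not_seven_dvd [Fact (Nat.Prime 7)] [Fact (Nat.Prime 5)] {g : G} (hg1 : g ≠ 1)
    (hg : ¬ 7 ∣ orderOf g) : ¬ 7 ∣ Nat.card (centralizer ({g} : Set G)) := by
  intro hd
  obtain ⟨x, hx⟩ := exists_prime_orderOf_dvd_card' (G := centralizer ({g} : Set G)) 7 hd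
  have hxo : orderOf (x : G) = 7 := by rw [orderOf_coe]; exact hx
  have hgx : g ∈ centralizer ({(x : G)} : Set G) :=
    mem_centralizer_singleton_iff.2 (mem_centralizer_singleton_iff.1 x.2).symm
  have := orderOf_dvd_natCard (⟨g, hgx⟩ : centralizer ({(x : G)} : Set G))
  rw [Subgroup.orderOf_mk, coprime_seven h hxo] at this
  rcases (Nat.dvd_prime (by norm_num : Nat.Prime 7)).1 this with e | e
  · exact hg1 (orderOf_eq_one_iff.1 e)
  · exact hg (e ▸ dvd_rfl)

theorem n5_ne_36 [Fact (Nat.Prime 7)] [Fact (Nat.Prime 5)] : Nat.card (Sylow 5 G) ≠ 36 := by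
  intro hn
  have Q : Sylow 5 G := default
  have hN := normalizer_mul h Q
  rw [hn] at hN
  have hN70 : Nat.card (normalizer ((Q : Subgroup G) : Set G)) = 70 := by omega
  obtain ⟨z, hz⟩ := exists_prime_orderOf_dvd_card' (G := normalizer ((Q : Subgroup G) : Set G)) 7
    (by rw [hN70]; norm_num)
  have hzo : orderOf (z : G) = 7 := by rw [orderOf_coe]; exact hz
  obtain ⟨P, hzP, hz1⟩ := exists_sylow (card_seven h) hzo
  have hPN : (P : Subgroup G) ≤ normalizer ((Q : Subgroup G) : Set G) :=
    Centralize.sylow_le_iff_mem hzP hz1 (card_seven h P) ▸ zpowers_le.2 z.2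
  have hr := FixedPoints.relIndex_normalizer_mod P hPN
  have hmul := card_inf_mul (normalizer ((P : Subgroup G) : Set G))
    (normalizer ((Q : Subgroup G) : Set G))
  have h1 := card_dvd_of_le (inf_le_right :
    normalizer ((Q : Subgroup G) : Set G) ⊓ normalizer ((P : Subgroup G) : Set G) ≤ _)
  have h2 := card_dvd_of_le (inf_le_left :
    normalizer ((Q : Subgroup G) : Set G) ⊓ normalizer ((P : Subgroup G) : Set G) ≤ _)
  rw [(cent_seven h P).2] at h1
  rw [hN70] at hmul h2
  have h7 := Nat.le_of_dvd (by norm_num) (Nat.dvd_gcd h1 h2)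
  rw [show Nat.gcd 21 70 = 7 from rfl] at h7
  have h7' := card_dvd_of_le (le_inf hPN (le_normalizer (H := (P : Subgroup G))))
  rw [card_seven h P] at h7'
  have h0 := Nat.le_of_dvd Nat.card_pos h7'
  have he : Nat.card ↥(normalizer ((Q : Subgroup G) : Set G) ⊓ normalizer ((P : Subgroup G) : Set G)) = 7 := by
    omega
  rw [he] at hmul
  omega

end Cfsg.Agent.SmallSimple.Order2520
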