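import Cfsg.Agent.Lib.SmallSimple.Filter
import Cfsg.Agent.Lib.Involutions.ThompsonTransfer

/-!
# Tools for the simple group of order 2520
-/

set_option autoImplicit false
set_option linter.style.haveILetI false
set_option linter.unusedSectionVars false
set_option linter.unusedVariables false

namespace Cfsg.Agent.SmallSimple.Order2520

open Subgroup MulAction

variable {G : Type*} [Group G] [Finite G]

theorem card_inf_mul (N H : Subgroup G) :
    Nat.card ↥(H ⊓ N) * N.relIndex H = Nat.card H := by
  have h := relIndex_mul_relIndex ⊥ (N ⊓ H) H bot_le inf_le_right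
  rw [relIndex_bot_left, relIndex_bot_left, inf_relIndex_right] at h
  rwa [inf_comm H N]

/-- Fixed points of an element of prime order in a stable set. -/
theorem fixed_mod {α : Type*} [Finite α] [MulAction G α] {p : ℕ} [Fact p.Prime] {x : G}
    (hx : x ^ p = 1) (s : Set α) (hs : ∀ a ∈ s, x • a ∈ s) :
    Nat.card {a : α // a ∈ s ∧ x • a = a} % p = Nat.card s % p := by
  classical
  haveI := Fintype.ofFinite s
  let f : Function.End s := fun a => ⟨x • a.1, hs _ a.2⟩
  have hf : ∀ (k : ℕ) (a : s), ((f ^ k) a).1 = x ^ k • a.1 := by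
    intro k
    induction k with
    | zero => intro a; simp; rfl
    | succ k ih =>
      intro a
      rw [pow_succ' f, pow_succ' x, mul_smul]
      show x • ((f ^ k) a).1 = _
      rw [ih]
  have h1 : f ^ p ^ 1 = 1 := by
    funext a
    apply Subtype.ext
    rw [hf, pow_one, hx, one_smul]
    rfl
  have h := Equiv.Perm.card_fixedPoints_modEq (p := p) h1
  rw [Nat.card_eq_fintype_card (α := s)]
  refine Eq.trans ?_ h.symm
  congr 1
  rw [← Nat.card_eq_fintype_card]
  exact Nat.card_congr
    { toFun := fun a => ⟨⟨a.1, a.2.1⟩, Subtype.ext a.2.2⟩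
      invFun := fun a => ⟨a.1.1, a.1.2, congrArg Subtype.val (show f a.1 = a.1 from a.2)⟩
      left_inv := fun _ => rfl
      right_inv := fun _ => rfl }

/-- Fixed points in a whole set. -/
theorem fixed_mod_univ {α : Type*} [Finite α] [MulAction G α] {p : ℕ} [Fact p.Prime] {x : G}
    (hx : x ^ p = 1) : Nat.card {a : α // x • a = a} % p = Nat.card α % p := by
  have h := fixed_mod hx (Set.univ : Set α) fun _ _ => Set.mem_univ _
  rw [Nat.card_congr (Equiv.Set.univ α)] at h
  rw [← h, Nat.card_congr (Equiv.subtypeEquivRight (fun a : α => (by simp : a ∈ Set.univ ∧ x • a = a ↔ x • a = a)))]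

theorem card_fixed_conj {α : Type*} [MulAction G α] {a b : G} (h : IsConj a b) :
    Nat.card {Q : α // a • Q = Q} = Nat.card {Q : α // b • Q = Q} := by
  obtain ⟨g, rfl⟩ := isConj_iff.1 h
  refine Nat.card_congr ((MulAction.toPerm g).subtypeEquiv fun Q => ?_)
  simp only [MulAction.toPerm_apply]
  rw [← mul_smul, inv_mul_cancel_right, mul_smul, smul_left_cancel_iff]

variable {p : ℕ} [Fact p.Prime]

theorem cent_eq {P : Sylow p G} (hP : Nat.card (P : Subgroup G) = p) {x : G}
    (hx : x ∈ (P : Subgroup G)) (hx1 : x ≠ 1) :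
    centralizer ({x} : Set G) = centralizer ((P : Subgroup G) : Set G) := by
  rw [← Centralize.sylow_le_iff_mem hx hx1 hP, zpowers_eq_closure, centralizer_closure]

theorem exists_gen {P : Sylow p G} (hP : Nat.card (P : Subgroup G) = p) :
    ∃ x : G, x ∈ (P : Subgroup G) ∧ x ≠ 1 ∧ orderOf x = p := by
  obtain ⟨⟨x, hx⟩, hxo⟩ := exists_prime_orderOf_dvd_card' (G := (P : Subgroup G)) p (hP.symm ▸ dvd_rfl)
  rw [Subgroup.orderOf_mk] at hxo
  exact ⟨x, hx, fun e => by rw [e, orderOf_one] at hxo; exact (Fact.out : p.Prime).ne_one hxo.symm, hxo⟩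

/-- An element of order `p` generates a Sylow subgroup when these have order `p`. -/
theorem exists_sylow (hc : ∀ P : Sylow p G, Nat.card (P : Subgroup G) = p) {x : G}
    (hx : orderOf x = p) : ∃ P : Sylow p G, x ∈ (P : Subgroup G) ∧ x ≠ 1 := by
  obtain ⟨P, hP⟩ := (IsPGroup.of_card (n := 1) (by rw [Nat.card_zpowers, hx, pow_one]) :
    IsPGroup p (zpowers x)).exists_le_sylow
  exact ⟨P, hP (mem_zpowers x), fun e => by rw [e, orderOf_one] at hx; exact (Fact.out : p.Prime).ne_one hx.symm⟩

/-- A Sylow subgroup of order `p` is fixed only by itself. -/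
theorem eq_of_fixed {P Q : Sylow p G} (hP : Nat.card (P : Subgroup G) = p) {x : G}
    (hx : x ∈ (P : Subgroup G)) (hx1 : x ≠ 1) (hQ : x • Q = Q) : Q = P := by
  have hPQ : (P : Subgroup G) ≤ normalizer ((Q : Subgroup G) : Set G) :=
    Centralize.sylow_le_iff_mem hx hx1 hP ▸ zpowers_le.2 (Sylow.smul_eq_iff_mem_normalizer.1 hQ)
  haveI : (((Q : Subgroup G)).subgroupOf (normalizer ((Q : Subgroup G) : Set G))).Normal :=
    normal_in_normalizer
  haveI : ((Q.subtype le_normalizer : Sylow p (normalizer ((Q : Subgroup G) : Set G))) :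
      Subgroup (normalizer ((Q : Subgroup G) : Set G))).Normal := by
    rwa [Sylow.coe_subtype]
  haveI := Sylow.unique_of_normal (Q.subtype le_normalizer) this
  exact (Sylow.subtype_injective (Subsingleton.elim (P.subtype hPQ) (Q.subtype le_normalizer))).symm

/-- An element of order four whose square fixes one of twenty-one points is odd. -/
theorem no_four_on_21 [IsSimpleGroup G] (hG : ¬ IsMulCommutative G) {α : Type*} [Finite α]
    [MulAction G α] (h21 : Nat.card α = 21) {y : G} (hy : y ^ 4 = 1)
    (hfix : Nat.card {a : α // (y ^ 2) • a = a} = 1) : False := by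
  classical
  haveI := Fintype.ofFinite α
  set σ := toPermHom G α y with hσ
  have happ : ∀ (k : ℕ) (a : α), (σ ^ k) a = (y ^ k) • a := fun k a => by
    rw [hσ, ← map_pow]; rfl
  have hsign := Basic.sign_eq_one hG (toPermHom G α) y
  rw [← hσ] at hsign
  obtain ⟨⟨a₀, ha₀⟩, huniq⟩ := Nat.card_eq_one_iff_exists.1 hfix
  have hone : ∀ a : α, (σ ^ 2) a = a → a = a₀ := fun a ha => by
    rw [happ] at ha
    exact congrArg Subtype.val (huniq ⟨a, ha⟩)
  have hσ4 : σ ^ 4 = 1 := by rw [hσ, ← map_pow, hy, map_one]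
  have hord : orderOf σ ∣ 4 := orderOf_dvd_of_pow_eq_one hσ4
  have hmem : ∀ k ∈ σ.cycleType, k = 4 := by
    intro k hk
    have h1 : k ∣ 4 := (Equiv.Perm.dvd_of_mem_cycleType hk).trans hord
    have h2 := Equiv.Perm.two_le_of_mem_cycleType hk
    by_contra h4
    have hk2 : k = 2 := by
      have := Nat.le_of_dvd (by norm_num) h1
      interval_cases k <;> omega
    subst hk2
    obtain ⟨c, τ, hστ, hd, hc, hcard⟩ := Equiv.Perm.mem_cycleType_iff.1 hk
    obtain ⟨a, b, hab, hs⟩ := Finset.card_eq_two.1 hcard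
    have hca : ∀ z ∈ c.support, σ z = c z := fun z hz => by
      rw [hστ, Equiv.Perm.mul_apply, Equiv.Perm.notMem_support.1 (Finset.disjoint_left.1 hd.disjoint_support hz)]
    have hsq : ∀ z ∈ c.support, (σ ^ 2) z = z := fun z hz => by
      have hcz : c z ∈ c.support := Equiv.Perm.apply_mem_support.2 hz
      rw [pow_two, Equiv.Perm.mul_apply, hca z hz, hca _ hcz]
      have hc2 : c ^ 2 = 1 := by
        have := pow_orderOf_eq_one c
        rwa [hc.orderOf, hcard] at this
      rw [← Equiv.Perm.mul_apply, ← pow_two, hc2, Equiv.Perm.one_apply]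
    exact hab ((hone a (hsq a (by rw [hs]; simp))).trans (hone b (hsq b (by rw [hs]; simp))).symm)
  have hsupp : σ.support = Finset.univ.erase a₀ := by
    ext a
    simp only [Equiv.Perm.mem_support, Finset.mem_erase, Finset.mem_univ, and_true]
    refine ⟨fun h e => h ?_, fun h e => h (hone a (by rw [pow_two, Equiv.Perm.mul_apply, e, e]))⟩
    subst e
    by_contra hne
    have h2 : (σ ^ 2) a = a := by rw [happ]; exact ha₀
    have h3 : (σ ^ 2) (σ a) = σ a := by
      rw [← Equiv.Perm.mul_apply, ← pow_succ, pow_succ', Equiv.Perm.mul_apply, h2]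
    exact hne (hone _ h3)
  have hsum := Equiv.Perm.sum_cycleType σ
  rw [hsupp, Finset.card_erase_of_mem (Finset.mem_univ _), Finset.card_univ,
    ← Nat.card_eq_fintype_card, h21, Multiset.eq_replicate_card.2 hmem, Multiset.sum_replicate,
    smul_eq_mul] at hsum
  rw [Equiv.Perm.sign_of_cycleType, Multiset.eq_replicate_card.2 hmem, Multiset.sum_replicate,
    Multiset.card_replicate, smul_eq_mul, show σ.cycleType.card = 5 by omega] at hsign
  exact absurd hsign (by decide)

end Cfsg.Agent.SmallSimple.Order2520
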